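import Mathlib

/-! Elementwise facts on `A₅` and `A₄`. -/

set_option autoImplicit false
set_option maxRecDepth 100000

namespace Cfsg.Agent.LE

open Equiv Subgroup

theorem perm5_five : ∀ f l : Perm (Fin 5), f ^ 5 = 1 → f ≠ 1 → l * f = f * l →
    l = 1 ∨ l = f ∨ l = f^2 ∨ l = f^3 ∨ l = f^4 := by
  decide +kernel

theorem perm5_five_conj : ∀ f l : Perm (Fin 5), Perm.sign l = 1 → f ^ 5 = 1 →
    f ≠ 1 → (l * f ≠ f ^ 2 * l) ∧ (l * f ≠ f ^ 3 * l) := by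
  decide +kernel

theorem perm5_three : ∀ f l : Perm (Fin 5), Perm.sign l = 1 → f ^ 3 = 1 →
    f ≠ 1 → l * f = f * l → l = 1 ∨ l = f ∨ l = f^2 := by
  decide +kernel

theorem perm5_five_inv : ∀ f : Perm (Fin 5), f ^ 5 = 1 → f ≠ 1 →
    ∃ l : Perm (Fin 5), Perm.sign l = 1 ∧ l ≠ 1 ∧ l * l = 1 ∧ l * f = f⁻¹ * l := by
  decide +kernel

theorem perm5_three_inv : ∀ f : Perm (Fin 5), f ^ 3 = 1 → f ≠ 1 →
    ∃ l : Perm (Fin 5), Perm.sign l = 1 ∧ l ≠ 1 ∧ l * l = 1 ∧ l * f = f⁻¹ * l := by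
  decide +kernel

theorem perm4_three : ∀ f l : Perm (Fin 4), Perm.sign l = 1 → f ^ 3 = 1 →
    f ≠ 1 → (l * f = f * l ∨ l * f = f⁻¹ * l) → l = 1 ∨ l = f ∨ l = f^2 := by
  decide +kernel

end Cfsg.Agent.LE
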