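import Cfsg.Agent.LE.AltFacts

/-! Elementwise facts on groups isomorphic to `A₅` and `A₄`. -/

set_option autoImplicit false

set_option linter.style.haveILetI false
set_option linter.deprecated false

namespace Cfsg.Agent.LE

open Equiv Subgroup

section five
variable {A : Type*} [Group A] (e : Nonempty (A ≃* alternatingGroup (Fin 5)))
include e

theorem A5.card : Nat.card A = 60 := by
  obtain ⟨e⟩ := e
  rw [Nat.card_congr e.toEquiv]
  rw [nat_card_alternatingGroup]; simp; rfl

theorem A5.simple : IsSimpleGroup A := by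
  obtain ⟨e⟩ := e
  haveI := alternatingGroup.isSimpleGroup_five
  haveI : Nontrivial A := e.toEquiv.nontrivial
  exact IsSimpleGroup.isSimpleGroup_of_surjective e.symm.toMonoidHom e.symm.surjective

theorem A5.finite : Finite A := Nat.finite_of_card_ne_zero (by rw [A5.card e]; norm_num)

theorem A5.exists_five : ∃ f : A, orderOf f = 5 := by
  haveI := A5.finite e
  haveI : Fact (Nat.Prime 5) := ⟨by norm_num⟩
  exact exists_prime_orderOf_dvd_card' 5 (by rw [A5.card e]; norm_num)

theorem A5.exists_three : ∃ f : A, orderOf f = 3 := by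
  haveI := A5.finite e
  haveI : Fact (Nat.Prime 3) := ⟨by norm_num⟩
  exact exists_prime_orderOf_dvd_card' 3 (by rw [A5.card e]; norm_num)

theorem A5.five_cent {f l : A} (hf : orderOf f = 5) (h : l * f = f * l) : l ∈ zpowers f := by
  obtain ⟨e⟩ := e
  have h5 : f ^ 5 = 1 := by rw [← hf]; exact pow_orderOf_eq_one f
  have h1 : f ≠ 1 := by rintro rfl; rw [orderOf_one] at hf; omega
  have k5 : ((e f : alternatingGroup (Fin 5)) : Perm (Fin 5)) ^ 5 = 1 := by
    rw [← Subgroup.coe_pow, ← map_pow, h5, map_one]; rfl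
  have k1 : ((e f : alternatingGroup (Fin 5)) : Perm (Fin 5)) ≠ 1 := by
    intro hh; apply h1; apply e.injective; rw [map_one]; exact Subtype.ext hh
  have kc : ((e l : alternatingGroup (Fin 5)) : Perm (Fin 5)) * e f = e f * e l := by
    rw [← Subgroup.coe_mul, ← map_mul, h, map_mul, Subgroup.coe_mul]
  have back : ∀ k : ℕ, ((e l : alternatingGroup (Fin 5)) : Perm (Fin 5)) =
      ((e f : alternatingGroup (Fin 5)) : Perm (Fin 5)) ^ k → l ∈ zpowers f := by
    intro k hk
    have : l = f ^ k := by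
      apply e.injective; rw [map_pow]; exact Subtype.ext hk
    rw [this]; exact Subgroup.npow_mem_zpowers f k
  rcases perm5_five _ _ k5 k1 kc with h | h | h | h | h
  · exact back 0 (by rw [h, pow_zero])
  · exact back 1 (by rw [h, pow_one])
  · exact back 2 h
  · exact back 3 h
  · exact back 4 h

theorem A5.three_cent {f l : A} (hf : orderOf f = 3) (h : l * f = f * l) : l ∈ zpowers f := by
  obtain ⟨e⟩ := e
  have h5 : f ^ 3 = 1 := by rw [← hf]; exact pow_orderOf_eq_one f
  have h1 : f ≠ 1 := by rintro rfl; rw [orderOf_one] at hf; omega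
  have k5 : ((e f : alternatingGroup (Fin 5)) : Perm (Fin 5)) ^ 3 = 1 := by
    rw [← Subgroup.coe_pow, ← map_pow, h5, map_one]; rfl
  have k1 : ((e f : alternatingGroup (Fin 5)) : Perm (Fin 5)) ≠ 1 := by
    intro hh; apply h1; apply e.injective; rw [map_one]; exact Subtype.ext hh
  have kc : ((e l : alternatingGroup (Fin 5)) : Perm (Fin 5)) * e f = e f * e l := by
    rw [← Subgroup.coe_mul, ← map_mul, h, map_mul, Subgroup.coe_mul]
  have back : ∀ k : ℕ, ((e l : alternatingGroup (Fin 5)) : Perm (Fin 5)) =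
      ((e f : alternatingGroup (Fin 5)) : Perm (Fin 5)) ^ k → l ∈ zpowers f := by
    intro k hk
    have : l = f ^ k := by
      apply e.injective; rw [map_pow]; exact Subtype.ext hk
    rw [this]; exact Subgroup.npow_mem_zpowers f k
  rcases perm5_three _ _ (Perm.mem_alternatingGroup.1 (e l).2) k5 k1 kc with h | h | h
  · exact back 0 (by rw [h, pow_zero])
  · exact back 1 (by rw [h, pow_one])
  · exact back 2 h

theorem A5.five_norm {f l : A} (hf : orderOf f = 5) (h : l * f * l⁻¹ ∈ zpowers f) :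
    l * f * l⁻¹ = f ∨ l * f * l⁻¹ = f⁻¹ := by
  obtain ⟨e⟩ := e
  have h5 : f ^ 5 = 1 := by rw [← hf]; exact pow_orderOf_eq_one f
  have h1 : f ≠ 1 := by rintro rfl; rw [orderOf_one] at hf; omega
  have k5 : ((e f : alternatingGroup (Fin 5)) : Perm (Fin 5)) ^ 5 = 1 := by
    rw [← Subgroup.coe_pow, ← map_pow, h5, map_one]; rfl
  have k1 : ((e f : alternatingGroup (Fin 5)) : Perm (Fin 5)) ≠ 1 := by
    intro hh; apply h1; apply e.injective; rw [map_one]; exact Subtype.ext hh
  have hk := perm5_five_conj _ _ (Perm.mem_alternatingGroup.1 (e l).2) k5 k1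
  have back : ∀ k : ℕ, l * f * l⁻¹ = f ^ k →
      ((e l : alternatingGroup (Fin 5)) : Perm (Fin 5)) * e f =
      ((e f : alternatingGroup (Fin 5)) : Perm (Fin 5)) ^ k * e l := by
    intro k hk
    have : l * f = f ^ k * l := by rw [← hk]; group
    rw [← Subgroup.coe_mul, ← map_mul, this, map_mul, map_pow]; rfl
  obtain ⟨n, hn⟩ := Subgroup.mem_zpowers_iff.1 h
  have hmod : l * f * l⁻¹ = f ^ (n % 5).toNat := by
    rw [← hn, ← zpow_natCast, Int.toNat_of_nonneg (Int.emod_nonneg n (by norm_num))]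
    have := zpow_mod_orderOf f n
    rw [hf] at this
    exact this.symm
  have hlt : (n % 5).toNat < 5 := by omega
  have hne : l * f * l⁻¹ ≠ 1 := by
    intro hh; apply h1; rwa [mul_inv_eq_one, mul_eq_left] at hh
  generalize (n % 5).toNat = m at hmod hlt
  interval_cases m
  · exact absurd (by rw [hmod, pow_zero]) hne
  · left; rw [hmod, pow_one]
  · exact absurd (back 2 hmod) hk.1
  · exact absurd (back 3 hmod) hk.2
  · right; rw [hmod]
    apply eq_inv_of_mul_eq_one_left
    rw [← pow_succ, h5]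

theorem A5.five_inv {f : A} (hf : orderOf f = 5) : ∃ l : A, l ≠ 1 ∧ l * l = 1 ∧
    l * f * l⁻¹ = f⁻¹ := by
  obtain ⟨e⟩ := e
  have h5 : f ^ 5 = 1 := by rw [← hf]; exact pow_orderOf_eq_one f
  have h1 : f ≠ 1 := by rintro rfl; rw [orderOf_one] at hf; omega
  have k5 : ((e f : alternatingGroup (Fin 5)) : Perm (Fin 5)) ^ 5 = 1 := by
    rw [← Subgroup.coe_pow, ← map_pow, h5, map_one]; rfl
  have k1 : ((e f : alternatingGroup (Fin 5)) : Perm (Fin 5)) ≠ 1 := by
    intro hh; apply h1; apply e.injective; rw [map_one]; exact Subtype.ext hh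
  obtain ⟨l, hs, hl1, hl2, hl3⟩ := perm5_five_inv _ k5 k1
  refine ⟨e.symm ⟨l, Perm.mem_alternatingGroup.2 hs⟩, ?_, ?_, ?_⟩
  · intro hh
    apply hl1
    have := congrArg e hh
    rw [MulEquiv.apply_symm_apply, map_one] at this
    exact congrArg Subtype.val this
  · apply e.injective
    rw [map_mul, MulEquiv.apply_symm_apply, map_one]
    exact Subtype.ext hl2
  · rw [mul_inv_eq_iff_eq_mul]
    apply e.injective
    rw [map_mul, map_mul, MulEquiv.apply_symm_apply, map_inv]
    exact Subtype.ext hl3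

theorem A5.three_inv {f : A} (hf : orderOf f = 3) : ∃ l : A, l ≠ 1 ∧ l * l = 1 ∧
    l * f * l⁻¹ = f⁻¹ := by
  obtain ⟨e⟩ := e
  have h5 : f ^ 3 = 1 := by rw [← hf]; exact pow_orderOf_eq_one f
  have h1 : f ≠ 1 := by rintro rfl; rw [orderOf_one] at hf; omega
  have k5 : ((e f : alternatingGroup (Fin 5)) : Perm (Fin 5)) ^ 3 = 1 := by
    rw [← Subgroup.coe_pow, ← map_pow, h5, map_one]; rfl
  have k1 : ((e f : alternatingGroup (Fin 5)) : Perm (Fin 5)) ≠ 1 := by
    intro hh; apply h1; apply e.injective; rw [map_one]; exact Subtype.ext hh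
  obtain ⟨l, hs, hl1, hl2, hl3⟩ := perm5_three_inv _ k5 k1
  refine ⟨e.symm ⟨l, Perm.mem_alternatingGroup.2 hs⟩, ?_, ?_, ?_⟩
  · intro hh
    apply hl1
    have := congrArg e hh
    rw [MulEquiv.apply_symm_apply, map_one] at this
    exact congrArg Subtype.val this
  · apply e.injective
    rw [map_mul, MulEquiv.apply_symm_apply, map_one]
    exact Subtype.ext hl2
  · rw [mul_inv_eq_iff_eq_mul]
    apply e.injective
    rw [map_mul, map_mul, MulEquiv.apply_symm_apply, map_inv]
    exact Subtype.ext hl3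

end five

section four
variable {A : Type*} [Group A] (e : Nonempty (A ≃* alternatingGroup (Fin 4)))
include e

theorem A4.card : Nat.card A = 12 := by
  obtain ⟨e⟩ := e
  rw [Nat.card_congr e.toEquiv]
  rw [nat_card_alternatingGroup]; simp; rfl

theorem A4.finite : Finite A := Nat.finite_of_card_ne_zero (by rw [A4.card e]; norm_num)

theorem A4.exists_three : ∃ f : A, orderOf f = 3 := by
  haveI := A4.finite e
  haveI : Fact (Nat.Prime 3) := ⟨by norm_num⟩
  exact exists_prime_orderOf_dvd_card' 3 (by rw [A4.card e]; norm_num)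

theorem A4.three_norm {f l : A} (hf : orderOf f = 3) (h : l * f = f * l ∨ l * f = f⁻¹ * l) :
    l ∈ zpowers f := by
  obtain ⟨e⟩ := e
  have h5 : f ^ 3 = 1 := by rw [← hf]; exact pow_orderOf_eq_one f
  have h1 : f ≠ 1 := by rintro rfl; rw [orderOf_one] at hf; omega
  have k5 : ((e f : alternatingGroup (Fin 4)) : Perm (Fin 4)) ^ 3 = 1 := by
    rw [← Subgroup.coe_pow, ← map_pow, h5, map_one]; rfl
  have k1 : ((e f : alternatingGroup (Fin 4)) : Perm (Fin 4)) ≠ 1 := by
    intro hh; apply h1; apply e.injective; rw [map_one]; exact Subtype.ext hh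
  have kc : ((e l : alternatingGroup (Fin 4)) : Perm (Fin 4)) * e f = e f * e l ∨
      ((e l : alternatingGroup (Fin 4)) : Perm (Fin 4)) * e f =
        ((e f : alternatingGroup (Fin 4)) : Perm (Fin 4))⁻¹ * e l := by
    rcases h with h | h
    · left; rw [← Subgroup.coe_mul, ← map_mul, h, map_mul, Subgroup.coe_mul]
    · right; rw [← Subgroup.coe_mul, ← map_mul, h, map_mul, map_inv]; rfl
  have back : ∀ k : ℕ, ((e l : alternatingGroup (Fin 4)) : Perm (Fin 4)) =
      ((e f : alternatingGroup (Fin 4)) : Perm (Fin 4)) ^ k → l ∈ zpowers f := by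
    intro k hk
    have : l = f ^ k := by
      apply e.injective; rw [map_pow]; exact Subtype.ext hk
    rw [this]; exact Subgroup.npow_mem_zpowers f k
  rcases perm4_three _ _ (Perm.mem_alternatingGroup.1 (e l).2) k5 k1 kc with h | h | h
  · exact back 0 (by rw [h, pow_zero])
  · exact back 1 (by rw [h, pow_one])
  · exact back 2 h

end four

end Cfsg.Agent.LE
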