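import Cfsg.Agent.H55.KleinSylow
import Cfsg.Agent.LE.SylRel

/-! Groups with an elementwise self-centralizing four-group: `V₄`, order 12, or `A₅`. -/

set_option autoImplicit false

namespace Cfsg.Agent.LE

set_option linter.style.haveILetI false
open Subgroup Pointwise
open Cfsg.Agent.H80 Cfsg.Agent.H55

section
variable {M : Type*} [Group M] [Finite M] {U : Subgroup M}

omit [Finite M] in
theorem comm_of_sq (hel : ∀ u ∈ U, u * u = 1) {a b : M} (ha : a ∈ U) (hb : b ∈ U) :
    a * b = b * a := by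
  have h1 := hel a ha
  have h2 := hel b hb
  have h3 := hel (a * b) (U.mul_mem ha hb)
  have e1 : a⁻¹ = a := inv_eq_of_mul_eq_one_left h1
  have e2 : b⁻¹ = b := inv_eq_of_mul_eq_one_left h2
  have e3 : (a * b)⁻¹ = a * b := inv_eq_of_mul_eq_one_left h3
  rw [mul_inv_rev, e1, e2] at e3
  exact e3.symm

omit [Finite M] in
theorem exists_ne_one (hU : Nat.card U = 4) : ∃ u ∈ U, u ≠ 1 := by
  haveI : Finite U := Nat.finite_of_card_ne_zero (by rw [hU]; norm_num)
  haveI : Nontrivial U := Finite.one_lt_card_iff_nontrivial.1 (by rw [hU]; norm_num)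
  obtain ⟨u, hu⟩ := exists_ne (1 : U)
  exact ⟨u, u.2, fun h => hu (Subtype.ext h)⟩

/-- two distinct nontrivial elements -/
theorem exists_two (hU : Nat.card U = 4) : ∃ u ∈ U, ∃ v ∈ U, u ≠ 1 ∧ v ≠ 1 ∧ u ≠ v := by
  classical
  obtain ⟨u, hu, hu1⟩ := exists_ne_one hU
  by_contra hcon
  push Not at hcon
  have : ∀ v ∈ U, v = 1 ∨ v = u := by
    intro v hv
    by_cases hv1 : v = 1
    · exact Or.inl hv1
    · exact Or.inr (hcon u hu v hv hu1 hv1).symm
  have hle : Nat.card U ≤ 2 := by
    have h2 : Nat.card U ≤ Nat.card ({1, u} : Finset M) := by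
      apply Nat.card_le_card_of_injective (fun x : U => (⟨x.1, by
        rcases this x.1 x.2 with h | h <;> simp [h]⟩ : ({1, u} : Finset M)))
      intro a b hab
      exact Subtype.ext (by simpa using hab)
    refine h2.trans ?_
    rw [Nat.card_eq_fintype_card, Fintype.card_coe]
    exact Finset.card_le_two
  omega

/-- `U` is a Sylow 2-subgroup. -/
theorem ce4_sylow (hU : Nat.card U = 4) (hel : ∀ u ∈ U, u * u = 1)
    (h : ∀ u ∈ U, u ≠ 1 → ∀ g : M, g * u = u * g → g ∈ U) : IsSylowIn 2 U ⊤ := by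
  haveI : Fact (Nat.Prime 2) := ⟨Nat.prime_two⟩
  have hUp : IsPGroup 2 U := IsPGroup.of_card (n := 2) (by rw [hU]; norm_num)
  refine ⟨hUp, le_top, ?_⟩
  intro R hR _ hUR
  obtain ⟨u, hu, hu1⟩ := exists_ne_one hU
  haveI : Nontrivial R := ⟨⟨⟨u, hUR hu⟩, 1, fun h => hu1 (congrArg Subtype.val h)⟩⟩
  haveI := hR.center_nontrivial
  obtain ⟨c, hc⟩ := exists_ne (1 : Subgroup.center R)
  have hc1 : ((c : R) : M) ≠ 1 := fun h => hc (Subtype.ext (Subtype.ext h))
  have hcu : ((c : R) : M) * u = u * c := by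
    have := Subgroup.mem_center_iff.1 c.2 ⟨u, hUR hu⟩
    exact (congrArg Subtype.val this).symm
  have hcU : ((c : R) : M) ∈ U := h u hu hu1 _ hcu
  apply le_antisymm _ hUR
  intro r hr
  apply h _ hcU hc1
  have := Subgroup.mem_center_iff.1 c.2 ⟨r, hr⟩
  exact congrArg Subtype.val this

/-- A fixed-point-free involution inverts. -/
theorem inverts_of_fpf {N : Subgroup M} {u : M} (hu : u * u = 1)
    (hN : ∀ n ∈ N, u * n * u⁻¹ ∈ N) (hfix : ∀ n ∈ N, n * u = u * n → n = 1) :
    ∀ n ∈ N, u * n * u⁻¹ = n⁻¹ := by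
  have hui : u⁻¹ = u := inv_eq_of_mul_eq_one_left hu
  let f : N → N := fun n => ⟨n.1⁻¹ * (u * n.1 * u⁻¹), N.mul_mem (N.inv_mem n.2) (hN _ n.2)⟩
  have hinj : Function.Injective f := by
    intro a b hab
    have h1 : a.1⁻¹ * (u * a.1 * u⁻¹) = b.1⁻¹ * (u * b.1 * u⁻¹) := congrArg Subtype.val hab
    have h2 : a.1 * b.1⁻¹ = 1 := by
      apply hfix _ (N.mul_mem a.2 (N.inv_mem b.2))
      have h3 : u * a.1 * u⁻¹ * (u * b.1 * u⁻¹)⁻¹ = a.1 * b.1⁻¹ := by
        calc u * a.1 * u⁻¹ * (u * b.1 * u⁻¹)⁻¹ = a.1 * (a.1⁻¹ * (u * a.1 * u⁻¹)) * (u * b.1 * u⁻¹)⁻¹ := by group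
          _ = a.1 * (b.1⁻¹ * (u * b.1 * u⁻¹)) * (u * b.1 * u⁻¹)⁻¹ := by rw [h1]
          _ = a.1 * b.1⁻¹ := by group
      calc a.1 * b.1⁻¹ * u = u * a.1 * u⁻¹ * (u * b.1 * u⁻¹)⁻¹ * u := by rw [h3]
        _ = u * (a.1 * b.1⁻¹) := by group
    exact Subtype.ext (by rwa [mul_inv_eq_one] at h2)
  have hsurj : Function.Surjective f := Finite.surjective_of_injective hinj
  intro n hn
  obtain ⟨x, hx⟩ := hsurj ⟨n, hn⟩
  have hx' : x.1⁻¹ * (u * x.1 * u⁻¹) = n := congrArg Subtype.val hx
  rw [← hx', hui]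
  have hxu : ∀ y : M, u * (u * y) = y := fun y => by rw [← mul_assoc, hu, one_mul]
  simp only [mul_inv_rev, inv_inv, mul_assoc, hui, hxu, hu, mul_one]

/-- An elementwise self-centralizing four-group. -/
theorem ce4 (hU : Nat.card U = 4) (hel : ∀ u ∈ U, u * u = 1)
    (h : ∀ u ∈ U, u ≠ 1 → ∀ g : M, g * u = u * g → g ∈ U) :
    U = ⊤ ∨ (Nat.card M = 12 ∧ U.Normal) ∨ Nonempty (M ≃* alternatingGroup (Fin 5)) := by
  classical
  haveI : Fact (Nat.Prime 2) := ⟨Nat.prime_two⟩
  have hS := ce4_sylow hU hel h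
  obtain ⟨u, hu, v, hv, hu1, hv1, huv⟩ := exists_two hU
  have hUN : U ≤ normalizer (U : Set M) := le_normalizer
  have hcent : normalizer (U : Set M) ⊓ centralizer ({u} : Set M) = U := by
    apply le_antisymm
    · intro g hg
      exact h u hu hu1 g (mem_centralizer_singleton_iff.1 hg.2)
    · intro g hg
      exact ⟨hUN hg, mem_centralizer_singleton_iff.2 (comm_of_sq hel hg hu)⟩
  have hcl := card_clSet (normalizer (U : Set M)) u
  rw [hcent, hU] at hcl
  have hle3 : Nat.card (clSet (normalizer (U : Set M)) u) ≤ 3 := by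
    have h3 : Nat.card {v : U // v ≠ 1} = 3 := by
      haveI : Fintype U := Fintype.ofFinite _
      rw [Nat.card_eq_fintype_card, Fintype.card_subtype_compl, Fintype.card_subtype_eq,
        ← Nat.card_eq_fintype_card, hU]
    rw [← h3]
    apply Nat.card_le_card_of_injective (fun v : clSet (normalizer (U : Set M)) u =>
      (⟨⟨v.1, ?_⟩, ?_⟩ : {v : U // v ≠ 1}))
    · intro a b hab
      exact Subtype.ext (congrArg (fun z => ((z : U) : M)) (congrArg Subtype.val hab))
    · obtain ⟨k, hk, hkv⟩ := v.2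
      rw [← hkv]
      exact (mem_normalizer_iff_conj.mp hk u).1 hu
    · intro hh
      obtain ⟨k, hk, hkv⟩ := v.2
      have h1 : v.1 = 1 := congrArg Subtype.val hh
      rw [← hkv] at h1
      exact hu1 (by rwa [mul_inv_eq_one, mul_eq_left] at h1)
  have hodd : ¬ 2 ∣ Nat.card (clSet (normalizer (U : Set M)) u) := by
    intro h2
    have hSN : IsSylowIn 2 U (normalizer (U : Set M)) :=
      ⟨hS.1, hUN, fun R hR _ hUR => hS.2.2 R hR le_top hUR⟩
    have h3 := sylowIn_card hSN
    rw [hU, ← hcl] at h3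
    obtain ⟨k, hk⟩ := h2
    have hpos : 0 < Nat.card (normalizer (U : Set M)) := Nat.card_pos
    have hk0 : k ≠ 0 := by
      rintro rfl
      rw [mul_zero] at hk
      rw [← hcl, hk, zero_mul] at hpos
      exact lt_irrefl _ hpos
    have h4 : Nat.card (clSet (normalizer (U : Set M)) u) * 4 = 2 ^ 3 * k := by rw [hk]; ring
    rw [h4, Nat.factorization_mul (by norm_num) hk0, Nat.prime_two.factorization_pow] at h3
    simp only [Finsupp.coe_add, Pi.add_apply, Finsupp.single_eq_same] at h3
    rw [pow_add] at h3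
    have : 1 ≤ 2 ^ (k.factorization 2) := Nat.one_le_two_pow
    omega
  have hcpos : Nat.card (clSet (normalizer (U : Set M)) u) ≠ 0 := by
    intro h0
    rw [h0, zero_mul] at hcl
    exact absurd hcl.symm (Nat.card_pos (α := normalizer (U : Set M))).ne'
  have hcase : Nat.card (clSet (normalizer (U : Set M)) u) = 1 ∨
      Nat.card (clSet (normalizer (U : Set M)) u) = 3 := by omega
  obtain ⟨P, hP⟩ := hS.1.exists_le_sylow
  have hPU : (P : Subgroup M) = U := (hS.2.2 P P.2 le_top hP)
  rcases hcase with hc | hc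
  · left
    -- normal complement
    rw [hc, one_mul] at hcl
    have hNU : normalizer (U : Set M) = U := (Subgroup.eq_of_le_of_card_ge hUN (by rw [← hcl, hU])).symm
    have hle : normalizer (P : Set M) ≤ centralizer (P : Set M) := by
      change normalizer ((P : Subgroup M) : Set M) ≤ centralizer ((P : Subgroup M) : Set M)
      rw [hPU, hNU]
      intro n hn
      rw [mem_centralizer_iff]
      intro a ha
      exact comm_of_sq hel ha hn
    have hK := MonoidHom.ker_transferSylow_isComplement' P hle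
    set K := (MonoidHom.transferSylow P hle).ker with hKdef
    have hKn : K.Normal := by rw [hKdef]; infer_instance
    have hdisj : ∀ k ∈ K, k ∈ U → k = 1 := by
      intro k hk hkU
      have := hK.disjoint
      rw [Subgroup.disjoint_def] at this
      exact this hk (by rw [hPU]; exact hkU)
    have hinv : ∀ w ∈ U, w ≠ 1 → ∀ n ∈ K, w * n * w⁻¹ = n⁻¹ := by
      intro w hw hw1
      apply inverts_of_fpf (hel w hw)
      · intro n hn
        exact hKn.conj_mem n hn w
      · intro n hn hc
        exact hdisj n hn (h w hw hw1 n hc)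
    have hK1 : ∀ n ∈ K, n = 1 := by
      intro n hn
      have h1 := hinv u hu hu1 n hn
      have h2 := hinv v hv hv1 n hn
      have huv1 : u * v ≠ 1 := by
        intro h3
        apply huv
        have h4 := hel u hu
        rw [← h4] at h3
        exact (mul_left_cancel h3).symm
      have h3 := hinv (u * v) (U.mul_mem hu hv) huv1 n hn
      have h4 : u * v * n * (u * v)⁻¹ = n := by
        calc u * v * n * (u * v)⁻¹ = u * (v * n * v⁻¹) * u⁻¹ := by group
          _ = u * n⁻¹ * u⁻¹ := by rw [h2]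
          _ = (u * n * u⁻¹)⁻¹ := by group
          _ = n := by rw [h1, inv_inv]
      rw [h4] at h3
      apply hdisj n hn
      apply h u hu hu1
      calc n * u = (n⁻¹) * u := by rw [← h3]
        _ = (u * n * u⁻¹) * u := by rw [h1]
        _ = u * n := by group
    rw [eq_top_iff]
    intro g _
    obtain ⟨⟨k, p⟩, hkp⟩ := hK.2 g
    have hk1 : (k : M) = 1 := hK1 k k.2
    simp only [hk1, one_mul] at hkp
    rw [← hkp, ← hPU]
    exact p.2
  · right
    rw [hc] at hcl
    have hconj : ∀ R : Sylow 2 M, ∃ g : M, (R : Subgroup M) = cj g U := by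
      intro R
      obtain ⟨k, -, hk⟩ := hS.exists_conj (isSylowIn_top R)
      exact ⟨k, hk.symm⟩
    have hKS : KS M := by
      refine ⟨?_, ?_, ?_, ?_⟩
      · intro R w hw
        obtain ⟨g, hg⟩ := hconj R
        rw [hg, mem_cj] at hw
        have h1 := hel _ hw
        have h2 : g⁻¹ * w * g * (g⁻¹ * w * g) = g⁻¹ * (w * w) * g := by group
        rw [h2] at h1
        have h3 : w * w = g * (g⁻¹ * (w * w) * g) * g⁻¹ := by group
        rw [h3, h1]; group
      · intro R
        obtain ⟨g, hg⟩ := hconj R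
        change Nat.card (R : Subgroup M) = 4
        rw [hg, card_cj, hU]
      · intro R w hw hw1 x hx
        obtain ⟨g, hg⟩ := hconj R
        rw [hg, mem_cj] at hw ⊢
        apply h _ hw
        · intro h1
          apply hw1
          have h3 : w = g * (g⁻¹ * w * g) * g⁻¹ := by group
          rw [h3, h1]; group
        · have hx' : x * w = w * x := hx
          calc g⁻¹ * x * g * (g⁻¹ * w * g) = g⁻¹ * (x * w) * g := by group
            _ = g⁻¹ * (w * x) * g := by rw [hx']
            _ = _ := by group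
      · intro R
        obtain ⟨g, hg⟩ := hconj R
        have h1 : MulAction.stabilizer M R = normalizer ((R : Subgroup M) : Set M) :=
          Sylow.stabilizer_eq_normalizer R
        rw [h1, hg, normalizer_cj, card_cj, ← hcl]
    by_cases hne : ∃ R R' : Sylow 2 M, R ≠ R'
    · right
      exact hKS.alt5 hne
    · left
      push Not at hne
      have hnorm : ∀ g : M, cj g U = U := by
        intro g
        have h1 := hne (g • P) P
        have h2 := congrArg (fun R : Sylow 2 M => (R : Subgroup M)) h1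
        change ((g • P : Sylow 2 M) : Subgroup M) = (P : Subgroup M) at h2
        rw [hPU] at h2
        have h3 : ((g • P : Sylow 2 M) : Subgroup M) = MulAut.conj g • (P : Subgroup M) := rfl
        rw [h3, hPU] at h2
        exact h2
      have htop : normalizer (U : Set M) = ⊤ := by
        rw [eq_top_iff]
        intro g _
        exact mem_normalizer_iff_cj.2 (hnorm g)
      refine ⟨?_, ?_⟩
      · rw [htop] at hcl
        have h5 : Nat.card (⊤ : Subgroup M) = Nat.card M := Subgroup.card_top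
        omega
      · exact Subgroup.normalizer_eq_top_iff.1 htop

end

end Cfsg.Agent.LE
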