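import Mathlib

/-!
Small general lemmas for the large extraspecial analysis (owner: helper58).
-/
set_option autoImplicit false

namespace Cfsg.Agent.LE

open Subgroup

/-- fixed points of an element `f` of prime order `p` normalising `A`. -/
theorem card_modEq_fix {G : Type*} [Group G] [Finite G] {p : ℕ} [hp : Fact p.Prime] (A : Subgroup G)
    (f : G) (hf : f ^ p = 1) (hA : ∀ a ∈ A, f * a * f⁻¹ ∈ A) :
    Nat.card A ≡ Nat.card ↥(A ⊓ centralizer ({f} : Set G)) [MOD p] := by
  classical
  have hN : f ∈ normalizer (A : Set G) := by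
    exact mem_normalizer_fintype (fun n hn => hA n hn)
  have hle : zpowers f ≤ normalizer (A : Set G) := by rwa [zpowers_le]
  let φ : zpowers f →* MulAut A := A.normalizerMonoidHom.comp (Subgroup.inclusion hle)
  letI := MulDistribMulAction.compHom A φ
  have hsm : ∀ (g : zpowers f) (a : A), ((g • a : A) : G) = g * a * (g : G)⁻¹ := by
    intro g a; rfl
  have hP : IsPGroup p (zpowers f) := by
    apply IsPGroup.of_card (n := if f = 1 then 0 else 1)
    split_ifs with h1
    · subst h1; simp
    · rw [Nat.card_zpowers, pow_one]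
      exact orderOf_eq_prime hf h1
  have key := hP.card_modEq_card_fixedPoints (α := A)
  refine key.trans ?_
  have : Nat.card (MulAction.fixedPoints (zpowers f) A) = Nat.card ↥(A ⊓ centralizer ({f} : Set G)) := by
    apply Nat.card_congr
    refine ⟨fun a => ⟨(a : A), a.1.2, ?_⟩, fun a => ⟨⟨a, a.2.1⟩, ?_⟩, fun a => ?_, fun a => ?_⟩
    · change (a.1 : G) ∈ centralizer ({f} : Set G)
      rw [mem_centralizer_singleton_iff]
      have := congrArg (Subtype.val : A → G) (a.2 ⟨f, mem_zpowers f⟩)
      rw [hsm, mul_inv_eq_iff_eq_mul] at this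
      exact this.symm
    · rintro ⟨g, k, rfl⟩
      apply Subtype.ext
      rw [hsm]
      have h2 : (a : G) ∈ centralizer ({f} : Set G) := a.2.2
      rw [mem_centralizer_singleton_iff] at h2
      have h3 : Commute (a : G) (f ^ k) := (show Commute (a : G) f from h2).zpow_right k
      have h4 : (f ^ k) * (a : G) = a * f ^ k := h3.symm.eq
      change f ^ k * (a : G) * (f ^ k)⁻¹ = a
      rw [h4]; group
    · rfl
    · rfl
  rw [this]

theorem mem_inf_cent {G : Type*} [Group G] {A : Subgroup G} {f x : G} :
    x ∈ A ⊓ centralizer ({f} : Set G) ↔ x ∈ A ∧ x * f = f * x := by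
  rw [Subgroup.mem_inf, mem_centralizer_singleton_iff]

theorem mem_inf_centr {G : Type*} [Group G] {A : Subgroup G} {S : Set G} {x : G} :
    x ∈ A ⊓ centralizer S ↔ x ∈ A ∧ ∀ s ∈ S, s * x = x * s := by
  rw [Subgroup.mem_inf, mem_centralizer_iff]

theorem mem_cent {G : Type*} [Group G] {f x : G} :
    x ∈ centralizer ({f} : Set G) ↔ x * f = f * x := mem_centralizer_singleton_iff

theorem mem_zpowers_two {G : Type*} [Group G] {z x : G} (hz : z * z = 1) :
    x ∈ zpowers z ↔ x = 1 ∨ x = z := by
  constructor
  · rintro ⟨k, rfl⟩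
    rcases Int.even_or_odd' k with ⟨m, hm | hm⟩
    · left
      simp only [hm, zpow_mul]
      rw [show z ^ (2 : ℤ) = 1 by rw [zpow_two]; exact hz, one_zpow]
    · right
      simp only [hm, zpow_add, zpow_mul, zpow_one]
      rw [show z ^ (2 : ℤ) = 1 by rw [zpow_two]; exact hz, one_zpow, one_mul]
  · rintro (rfl | rfl)
    · exact one_mem _
    · exact mem_zpowers _

end Cfsg.Agent.LE
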