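import Cfsg.Agent.LE.J2Cent

/-!
Elements of order 3 and 5 of `C_G(z)`, involutions of `Q` (owner: helper58).
-/
set_option autoImplicit false

namespace Cfsg.Agent.LE

open Subgroup Cfsg.Agent.H90

variable {G : Type*} [Group G] [Finite G] {Q : Subgroup G} {z : G} {x : Fin 5 → G}

/-- `(0 1 2)` -/
def c3 : Equiv.Perm (Fin 5) := Equiv.swap 0 1 * Equiv.swap 1 2

/-- `(0 1)(3 4)` -/
def c3i : Equiv.Perm (Fin 5) := Equiv.swap 0 1 * Equiv.swap 3 4

/-- `(0 1 2 3 4)` -/
def c5 : Equiv.Perm (Fin 5) := finRotate 5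

set_option maxRecDepth 100000 in
theorem conj_std3 : ∀ σ : Equiv.Perm (Fin 5), σ * (σ * σ) = 1 → σ ≠ 1 →
    ∃ π : Equiv.Perm (Fin 5), π⁻¹ * σ * π = c3 := by
  decide

set_option maxRecDepth 100000 in
theorem conj_std5 : ∀ σ : Equiv.Perm (Fin 5), σ * (σ * (σ * (σ * σ))) = 1 → σ ≠ 1 →
    ∃ π : Equiv.Perm (Fin 5), π⁻¹ * σ * π = c5 := by
  decide

set_option maxRecDepth 100000 in
theorem cent_c3 : ∀ σ : Equiv.Perm (Fin 5), Equiv.Perm.sign σ = 1 → σ * c3 = c3 * σ →
    σ = 1 ∨ σ = c3 ∨ σ = c3 * c3 := by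
  decide

set_option maxRecDepth 100000 in
theorem cent_c5 : ∀ σ : Equiv.Perm (Fin 5), Equiv.Perm.sign σ = 1 → σ * c5 = c5 * σ →
    σ = 1 ∨ σ = c5 ∨ σ = c5 * c5 ∨ σ = c5 * (c5 * c5) ∨ σ = c5 * (c5 * (c5 * c5)) := by
  decide

theorem split3 : ∀ s : Fin 5 → ZMod 2, (∀ i, s i + (s (c3 i) + s (c3 (c3 i))) = 0) →
    ∃ y : Fin 5 → ZMod 2, ∀ i, y i + s i + y (c3 i) = 0 := by
  decide

set_option maxRecDepth 100000 in
theorem exists_even_perm : ∀ i j : Fin 5, ∃ σ : Equiv.Perm (Fin 5), Equiv.Perm.sign σ = 1 ∧ σ i = j := by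
  decide

theorem exists_even_vec : ∀ (i : Fin 5) (a : ZMod 2), ∃ s : Fin 5 → ZMod 2, ∑ j, s j = 0 ∧ s i = a := by
  decide

namespace Base

variable (B : Base Q z x)

include B

set_option linter.unusedSectionVars false

/-- order of a subgroup of `C_G(z)` from its image in `A₅` -/
theorem card_eq (E : Subgroup G) (hE : E ≤ centralizer ({z} : Set G)) :
    ∃ R : Subgroup (Equiv.Perm (Fin 5)), R ≤ alternatingGroup (Fin 5) ∧
      (∀ σ, σ ∈ R ↔ ∃ e ∈ E, ∃ s, Act z x e σ s) ∧ Nat.card E = Nat.card ↥(Q ⊓ E) * Nat.card R := by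
  obtain ⟨ρ, h1, h2, h3⟩ := exists_hom_alt B.pl B.pts B.cardQ B.cardC
  obtain ⟨φ, hφ⟩ : ∃ φ : E →* Equiv.Perm (Fin 5), φ = ρ.comp (Subgroup.inclusion hE) := ⟨_, rfl⟩
  have hφe : ∀ e : E, ∃ s, Act z x (e : G) (φ e) s := by
    intro e; rw [hφ]; exact h1 (Subgroup.inclusion hE e)
  refine ⟨φ.range, ?_, ?_, ?_⟩
  · rintro _ ⟨e, rfl⟩
    rw [hφ, ← h3]; exact ⟨_, rfl⟩
  · intro σ
    constructor
    · rintro ⟨e, rfl⟩
      exact ⟨e, e.2, hφe e⟩
    · rintro ⟨e, he, s, hs⟩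
      refine ⟨⟨e, he⟩, ?_⟩
      obtain ⟨t, ht⟩ := hφe ⟨e, he⟩
      exact (act_unique B.pl B.pts ht hs).1
  · rw [← Subgroup.card_mul_index φ.ker, Subgroup.index_ker]
    congr 1
    have e2 : φ.ker.map E.subtype = Q ⊓ E := by
      ext g
      constructor
      · rintro ⟨e, he, rfl⟩
        have : ρ (Subgroup.inclusion hE e) = 1 := by rw [hφ] at he; exact he
        exact ⟨(h2 _).mp this, e.2⟩
      · rintro ⟨hg1, hg2⟩
        refine ⟨⟨g, hg2⟩, ?_, rfl⟩
        change φ ⟨g, hg2⟩ = 1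
        rw [hφ]
        exact (h2 _).mpr hg1
    rw [← e2]
    exact Nat.card_congr (φ.ker.equivMapOfInjective _ (Subgroup.subtype_injective E)).toEquiv

/-- `C_G(z)` is transitive on the non-central involutions of `Q` -/
theorem conj_Q {q r : G} (hq : q ∈ Q) (hq1 : q ≠ 1) (hqz : q ≠ z) (hqq : q * q = 1)
    (hr : r ∈ Q) (hr1 : r ≠ 1) (hrz : r ≠ z) (hrr : r * r = 1) : ∃ c, c * z = z * c ∧ c * q * c⁻¹ = r := by
  obtain ⟨a, i, rfl⟩ := invol_form B.pl B.pts B.cardQ hq hq1 hqz hqq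
  obtain ⟨b, j, rfl⟩ := invol_form B.pl B.pts B.cardQ hr hr1 hrz hrr
  obtain ⟨σ, hσ, hσi⟩ := exists_even_perm i j
  obtain ⟨s, hs, hsi⟩ := exists_even_vec i (a + b)
  obtain ⟨c, hc, hact⟩ := B.exists_act (Equiv.Perm.mem_alternatingGroup.mpr hσ) hs
  refine ⟨c, hc, ?_⟩
  have e1 : c * (zp z a * x i) * c⁻¹ = (c * zp z a) * x i * c⁻¹ := by group
  rw [e1, zp_comm hc]
  have e2 : zp z a * c * x i * c⁻¹ = zp z a * (c * x i * c⁻¹) := by group
  rw [e2, hact, hσi, hsi, ← mul_assoc, ← zp_add B.pl.toXS]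
  congr 2
  have key : ∀ a b : ZMod 2, a + (a + b) = b := by decide
  exact key _ _

/-- `Q` has ten non-central involutions -/
theorem card_invQ : Nat.card {q : G // q ∈ Q ∧ q * q = 1 ∧ q ≠ 1 ∧ q ≠ z} = 10 := by
  have h1 : ∀ p : ZMod 2 × Fin 5, zp z p.1 * x p.2 ∈ Q ∧ (zp z p.1 * x p.2) * (zp z p.1 * x p.2) = 1 ∧
      zp z p.1 * x p.2 ≠ 1 ∧ zp z p.1 * x p.2 ≠ z := by
    rintro ⟨a, i⟩
    refine ⟨Q.mul_mem (zp_mem B.pl.toXS a) (B.pts.mem i), ?_, ?_, ?_⟩
    · rw [zp_mul_zp_aux B.pl (B.pts.comm_z B.pl), B.pts.sq, mul_one, CharTwo.add_self_eq_zero, zp_zero]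
    · intro h1
      apply B.pts.ne_zp B.pl a i
      rw [mul_eq_one_iff_eq_inv'] at h1
      rw [h1, zp_inv B.pl.toXS]
    · intro h1
      apply B.pts.ne_zp B.pl (a + 1) i
      have h1' : zp z a * x i = z := h1
      have h2 : zp z a * (zp z a * x i) = zp z a * z := by rw [h1']
      rw [zp_zp B.pl.toXS] at h2
      rw [zp_add B.pl.toXS, zp_one, h2]
  let F : ZMod 2 × Fin 5 → {q : G // q ∈ Q ∧ q * q = 1 ∧ q ≠ 1 ∧ q ≠ z} := fun p => ⟨_, h1 p⟩
  have hF : Function.Bijective F := by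
    constructor
    · rintro ⟨a, i⟩ ⟨b, j⟩ hab
      have := congrArg Subtype.val hab
      obtain ⟨h2, h3⟩ := B.pts.eq_of B.pl this
      exact Prod.ext h3 h2
    · rintro ⟨q, hq, hqq, hq1, hqz⟩
      obtain ⟨a, i, rfl⟩ := invol_form B.pl B.pts B.cardQ hq hq1 hqz hqq
      exact ⟨(a, i), rfl⟩
  rw [← Nat.card_congr (Equiv.ofBijective F hF), Nat.card_prod, Nat.card_zmod, Nat.card_eq_fintype_card,
    Fintype.card_fin]

/-- product of an involution of `Q` with an involution outside -/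
theorem pow_four_eq {q v : G} (hq : q ∈ Q) (hq1 : q ≠ 1) (hqz : q ≠ z) (hqq : q * q = 1)
    (hvz : v * z = z * v) (hv : v ∉ Q) (hvv : v * v = 1) (hqv : q * v ≠ v * q) : (q * v) ^ 4 = z := by
  obtain ⟨y, B, hact⟩ := B.normal_form hvz hv hvv
  obtain ⟨a, i, rfl⟩ := invol_form B.pl B.pts B.cardQ hq hq1 hqz hqq
  have hi : t1 i ≠ i := by
    intro h1
    apply hqv
    have h2 := B.nf_conj hvz hvv hact i
    rw [h1] at h2
    rw [mul_assoc, ← h2, ← mul_assoc, ← zp_comm hvz, mul_assoc]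
  have e1 : (zp z a * y i * v) ^ 4 = ((zp z a * y i * v) * (zp z a * y i * v)) *
      ((zp z a * y i * v) * (zp z a * y i * v)) := by
    simp only [pow_succ, pow_zero, one_mul, mul_assoc]
  have e2 : (zp z a * y i * v) * (zp z a * y i * v) = y i * y (t1 i) := by
    calc (zp z a * y i * v) * (zp z a * y i * v) = zp z a * y i * (v * zp z a) * y i * v := by group
      _ = zp z a * y i * (zp z a * (v * y i)) * v := by rw [zp_comm hvz]; group
      _ = (zp z a * y i * (zp z a * y (t1 i))) * (v * v) := by rw [B.nf_conj hvz hvv hact]; group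
      _ = y i * y (t1 i) := by
        rw [zp_mul_zp_aux B.pl (B.pts.comm_z B.pl), hvv, CharTwo.add_self_eq_zero, zp_zero]; simp
  rw [e1, e2]
  have := sq_pair B.pl B.pts B.cardQ (i := i) (j := t1 i) hi.symm 0
  rwa [zp_zero, one_mul] at this

theorem act_pow {c : G} (hc : c * z = z * c) {σ : Equiv.Perm (Fin 5)} (h1 : Act z x c σ 0) :
    Act z x (c * c) (σ * σ) 0 := by
  intro i
  rw [act_mul B.pl hc h1 h1 i]
  simp

/-- normal form for an element of order 3 -/
theorem normal_form3 {v : G} (hvz : v * z = z * v) (hv3 : v * (v * v) = 1) (hv1 : v ≠ 1) :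
    ∃ x' : Fin 5 → G, Base Q z x' ∧ Act z x' v c3 0 := by
  have hv : v ∉ Q := by
    intro h1
    have h2 := B.pl.pow_four h1
    apply hv1
    have e : v ^ 4 = v * (v * (v * v)) := by simp only [pow_succ, pow_zero, one_mul, mul_assoc]
    rw [e, hv3, mul_one] at h2
    exact h2
  obtain ⟨σ, hσ, s, hs, h1⟩ := B.act hvz
  have hone : ∀ {y : Fin 5 → G} (B' : Base Q z y) {τ : Equiv.Perm (Fin 5)} {r : Fin 5 → ZMod 2},
      Act z y v τ r → τ * (τ * τ) = 1 ∧ ∀ i, r i + (r (τ i) + r (τ (τ i))) = 0 := by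
    intro y B' τ r hr
    have h2 := act_mul B'.pl hvz hr (act_mul B'.pl hvz hr hr)
    rw [hv3] at h2
    obtain ⟨h4, h5⟩ := act_unique B'.pl B'.pts h2 (act_one B'.pl)
    refine ⟨h4, fun i => ?_⟩
    have h6 := congrFun h5 i
    simp only [Equiv.Perm.mul_apply, Pi.zero_apply] at h6
    rw [← h6]; ring
  obtain ⟨π, hπσ⟩ := conj_std3 σ (hone B h1).1 (B.sigma_ne_one hv hvz h1)
  have B1 := B.relabel π 0
  have h4 := B.act_relabel π 0 hvz h1
  rw [hπσ] at h4
  obtain ⟨y, hy⟩ := split3 _ (hone B1 h4).2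
  refine ⟨_, B1.relabel 1 y, ?_⟩
  have h8 := B1.act_relabel 1 y hvz h4
  intro i
  rw [h8 i]
  simp only [inv_one, one_mul, mul_one, Equiv.Perm.coe_one, id]
  congr 2
  exact hy i

theorem mem_Q_act {c : G} (hc : c ∈ Q) : ∃ s, Act z x c 1 s := by
  obtain ⟨s, _, hs⟩ := act_q B.pl B.pts B.cardQ hc
  exact ⟨s, hs⟩

theorem comm_sigma {c d : G} (hcz : c * z = z * c) (hdz : d * z = z * d) (hcd : c * d = d * c)
    {σ τ : Equiv.Perm (Fin 5)} {s t : Fin 5 → ZMod 2} (h1 : Act z x c σ s) (h2 : Act z x d τ t) :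
    σ * τ = τ * σ := by
  have h3 := act_mul B.pl hcz h1 h2
  have h4 := act_mul B.pl hdz h2 h1
  rw [hcd] at h3
  exact (act_unique B.pl B.pts h3 h4).1

/-- the centralizer in `C_G(z)` of an element of order 3 -/
theorem three {v : G} (hvz : v * z = z * v) (hv3 : v * (v * v) = 1) (hv1 : v ≠ 1) :
    Nat.card ↥(centralizer ({v} : Set G) ⊓ centralizer ({z} : Set G)) = 24 ∧
      (∀ s, s * v = v * s → s * z = z * s → s * s = 1 → s ∈ Q) ∧
      (∃ g, g * z = z * g ∧ g * v * g⁻¹ = v⁻¹) := by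
  obtain ⟨y, B, hact⟩ := B.normal_form3 hvz hv3 hv1
  have hsig : ∀ s, s * v = v * s → s * z = z * s → ∀ σ ∈ alternatingGroup (Fin 5), ∀ t, Act z y s σ t →
      σ = 1 ∨ σ = c3 ∨ σ = c3 * c3 := by
    intro s hsv hsz σ hσ t ht
    exact cent_c3 σ (Equiv.Perm.mem_alternatingGroup.mp hσ) (B.comm_sigma hsz hvz hsv ht hact)
  refine ⟨?_, ?_, ?_⟩
  · obtain ⟨R, hR1, hR2, hR3⟩ := B.card_eq (centralizer ({v} : Set G) ⊓ centralizer ({z} : Set G)) inf_le_right
    rw [hR3]
    have e1 : Nat.card ↥(Q ⊓ (centralizer ({v} : Set G) ⊓ centralizer ({z} : Set G))) = 8 := by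
      have e0 : Q ⊓ (centralizer ({v} : Set G) ⊓ centralizer ({z} : Set G)) = Q ⊓ centralizer ({v} : Set G) := by
        apply le_antisymm
        · exact inf_le_inf_left _ inf_le_left
        · intro g hg
          rw [mem_inf_cent] at hg
          refine ⟨hg.1, ?_⟩
          change g ∈ centralizer ({v} : Set G) ⊓ centralizer ({z} : Set G)
          rw [mem_inf_cent, mem_cent]
          exact ⟨hg.2, B.pl.central g hg.1⟩
      rw [e0]
      have : Fact (Nat.Prime 3) := ⟨by norm_num⟩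
      have h1 := card_modEq_fix (p := 3) Q v (by rw [pow_succ, pow_two]; rw [mul_assoc]; exact hv3)
        (fun a ha => B.pl.norm v hvz a ha)
      rw [B.cardQ] at h1
      have h2 : Nat.card ↥(Q ⊓ centralizer ({v} : Set G)) ∣ 32 := B.cardQ ▸ card_dvd_of_le inf_le_left
      have h4 : Nat.card ↥(Q ⊓ centralizer ({v} : Set G)) ≠ 32 := by
        intro h4
        have h5 : Q ⊓ centralizer ({v} : Set G) = Q := by
          apply Subgroup.eq_of_le_of_card_ge inf_le_left
          rw [h4, B.cardQ]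
        have h6 : y 0 ∈ Q ⊓ centralizer ({v} : Set G) := by rw [h5]; exact B.pts.mem 0
        rw [mem_inf_cent] at h6
        have h7 := hact 0
        rw [mul_inv_eq_iff_eq_mul, ← h6.2] at h7
        have h8 := mul_right_cancel h7
        exact B.pts.ne B.pl _ (by decide) h8
      have h5 : Nat.card ↥(Q ⊓ centralizer ({v} : Set G)) ≠ 2 := by
        intro h5
        have h6 : zpowers z = Q ⊓ centralizer ({v} : Set G) := by
          apply Subgroup.eq_of_le_of_card_ge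
          · rw [zpowers_le, mem_inf_cent]; exact ⟨B.pl.mem, hvz.symm⟩
          · rw [h5, Nat.card_zpowers, B.pl.orderOf_z]
        have h7 : y 4 ∈ Q ⊓ centralizer ({v} : Set G) := by
          rw [mem_inf_cent]
          refine ⟨B.pts.mem 4, ?_⟩
          have h7 := hact 4
          rw [mul_inv_eq_iff_eq_mul, show c3 4 = 4 by decide] at h7
          simpa [zp_zero] using h7.symm
        rw [← h6, mem_zpowers_two B.pl.sq] at h7
        rcases h7 with h7 | h7
        · exact B.pts.ne_zp B.pl 0 4 (by rw [h7, zp_zero])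
        · exact B.pts.ne_zp B.pl 1 4 (by rw [h7, zp_one])
      generalize Nat.card ↥(Q ⊓ centralizer ({v} : Set G)) = n at *
      have h6 : n % 3 = 2 := by
        have : 32 % 3 = n % 3 := h1
        omega
      have h7 : n ∈ Nat.divisors 32 := by simp [h2]
      have h8 : Nat.divisors 32 = {1, 2, 4, 8, 16, 32} := by decide
      rw [h8] at h7
      simp only [Finset.mem_insert, Finset.mem_singleton] at h7
      rcases h7 with h7 | h7 | h7 | h7 | h7 | h7 <;> subst h7 <;> simp_all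
    have e2 : Nat.card R = 3 := by
      have e5 : (R : Set (Equiv.Perm (Fin 5))) = (({1, c3, c3 * c3} : Finset (Equiv.Perm (Fin 5))) :
          Set (Equiv.Perm (Fin 5))) := by
        ext τ
        simp only [Finset.coe_insert, Finset.coe_singleton, Set.mem_insert_iff, Set.mem_singleton_iff,
          SetLike.mem_coe]
        constructor
        · intro hτ
          obtain ⟨e, he, s, hs⟩ := (hR2 τ).mp hτ
          rw [mem_inf_cent, mem_cent] at he
          exact hsig e he.1 he.2 τ (hR1 hτ) s hs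
        · have hmem : c3 ∈ R := (hR2 c3).mpr ⟨v, by rw [mem_inf_cent, mem_cent]; exact ⟨rfl, hvz⟩, 0, hact⟩
          rintro (rfl | rfl | rfl)
          · exact one_mem _
          · exact hmem
          · exact mul_mem hmem hmem
      have e6 : Nat.card R = Nat.card ((({1, c3, c3 * c3} : Finset (Equiv.Perm (Fin 5))) :
          Set (Equiv.Perm (Fin 5)))) := by
        rw [← e5]; rfl
      rw [e6, Nat.card_coe_set_eq, Set.ncard_coe_finset]
      decide
    rw [e1, e2]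
  · intro s hsv hsz hss
    obtain ⟨σ, hσ, t, _, ht⟩ := B.act hsz
    have h1 := hsig s hsv hsz σ hσ t ht
    have h2 := (B.sq_act hsz (Or.inl hss) ht).1
    have h3 : σ = 1 := by
      rcases h1 with h1 | h1 | h1
      · exact h1
      · rw [h1] at h2; exact absurd h2 (by decide)
      · rw [h1] at h2; exact absurd h2 (by decide)
    rw [h3] at ht
    exact B.mem_of_act_one hsz ht
  · obtain ⟨c, hc, hca⟩ := B.exists_act (σ := c3i) (Equiv.Perm.mem_alternatingGroup.mpr (by decide))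
      (s := 0) (by simp)
    refine ⟨c, hc, ?_⟩
    have h1 := act_mul B.pl (mul_comm_z B hc hvz) (act_mul B.pl hc hca hact) (act_inv B.pl hc hca)
    have h2 := act_inv B.pl hvz hact
    have h1' : Act z y (c * v * c⁻¹) c3⁻¹ 0 := by
      intro i
      rw [h1 i, show c3i * c3 * c3i⁻¹ = c3⁻¹ by decide]
      simp
    have h2' : Act z y v⁻¹ c3⁻¹ 0 := by
      intro i
      rw [h2 i]
      simp
    obtain ⟨a, ha⟩ := B.ext (comm_conj hc hvz) (inv_comm_z B hvz) h1' h2'
    rcases zp_cases (z := z) a with ⟨_, h4⟩ | ⟨_, h4⟩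
    · rw [ha, h4, one_mul]
    · exfalso
      rw [h4] at ha
      have h5 : c * v * c⁻¹ * (c * v * c⁻¹ * (c * v * c⁻¹)) = 1 := by
        calc c * v * c⁻¹ * (c * v * c⁻¹ * (c * v * c⁻¹)) = c * (v * (v * v)) * c⁻¹ := by group
          _ = 1 := by rw [hv3]; simp
      rw [ha] at h5
      have hvi := inv_comm_z B hvz
      have h6 : z * v⁻¹ * (z * v⁻¹ * (z * v⁻¹)) = z * (z * z) * (v * (v * v))⁻¹ := by
        calc z * v⁻¹ * (z * v⁻¹ * (z * v⁻¹)) = z * (v⁻¹ * z) * (v⁻¹ * z) * v⁻¹ := by group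
          _ = z * z * v⁻¹ * z * v⁻¹ * v⁻¹ := by rw [hvi]; group
          _ = z * z * (v⁻¹ * z) * v⁻¹ * v⁻¹ := by group
          _ = z * (z * z) * (v * (v * v))⁻¹ := by rw [hvi]; group
      rw [h6, hv3, B.pl.sq] at h5
      exact B.pl.ne_one (by simpa using h5)

/-- the centralizer in `C_G(z)` of an element of order 5 -/
theorem five {v : G} (hvz : v * z = z * v) (hv5 : v ^ 5 = 1) (hv1 : v ≠ 1) :
    Nat.card ↥(centralizer ({v} : Set G) ⊓ centralizer ({z} : Set G)) = 10 := by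
  have hv : v ∉ Q := by
    intro h1
    have h2 := B.pl.pow_four h1
    apply hv1
    rw [pow_succ, h2, one_mul] at hv5
    exact hv5
  obtain ⟨σ, hσ, s, hs, h1⟩ := B.act hvz
  have h2 : σ * (σ * (σ * (σ * σ))) = 1 := by
    have h2 := act_mul B.pl hvz h1 (act_mul B.pl hvz h1 (act_mul B.pl hvz h1 (act_mul B.pl hvz h1 h1)))
    have e : v * (v * (v * (v * v))) = v ^ 5 := by simp only [pow_succ, pow_zero, one_mul, mul_assoc]
    rw [e, hv5] at h2
    exact (act_unique B.pl B.pts h2 (act_one B.pl)).1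
  obtain ⟨π, hπσ⟩ := conj_std5 σ h2 (B.sigma_ne_one hv hvz h1)
  have B1 := B.relabel π 0
  have h4 := B.act_relabel π 0 hvz h1
  rw [hπσ] at h4
  obtain ⟨R, hR1, hR2, hR3⟩ := B1.card_eq (centralizer ({v} : Set G) ⊓ centralizer ({z} : Set G)) inf_le_right
  rw [hR3]
  have e0 : Q ⊓ (centralizer ({v} : Set G) ⊓ centralizer ({z} : Set G)) = Q ⊓ centralizer ({v} : Set G) := by
    apply le_antisymm
    · exact inf_le_inf_left _ inf_le_left
    · intro g hg
      rw [mem_inf_cent] at hg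
      refine ⟨hg.1, ?_⟩
      change g ∈ centralizer ({v} : Set G) ⊓ centralizer ({z} : Set G)
      rw [mem_inf_cent, mem_cent]
      exact ⟨hg.2, B.pl.central g hg.1⟩
  rw [e0, card_fix_five B.pl B.cardQ hv5 hv1 hvz]
  have e2 : Nat.card R = 5 := by
    have e5 : (R : Set (Equiv.Perm (Fin 5))) = (({1, c5, c5 * c5, c5 * (c5 * c5), c5 * (c5 * (c5 * c5))} :
        Finset (Equiv.Perm (Fin 5))) : Set (Equiv.Perm (Fin 5))) := by
      ext τ
      simp only [Finset.coe_insert, Finset.coe_singleton, Set.mem_insert_iff, Set.mem_singleton_iff,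
        SetLike.mem_coe]
      constructor
      · intro hτ
        obtain ⟨e, he, s, hs⟩ := (hR2 τ).mp hτ
        rw [mem_inf_cent, mem_cent] at he
        exact cent_c5 τ (Equiv.Perm.mem_alternatingGroup.mp (hR1 hτ)) (B1.comm_sigma he.2 hvz he.1 hs h4)
      · have hmem : c5 ∈ R := (hR2 c5).mpr ⟨v, by rw [mem_inf_cent, mem_cent]; exact ⟨rfl, hvz⟩, _, h4⟩
        rintro (rfl | rfl | rfl | rfl | rfl)
        · exact one_mem _
        · exact hmem
        · exact mul_mem hmem hmem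
        · exact mul_mem hmem (mul_mem hmem hmem)
        · exact mul_mem hmem (mul_mem hmem (mul_mem hmem hmem))
    have e6 : Nat.card R = Nat.card ((({1, c5, c5 * c5, c5 * (c5 * c5), c5 * (c5 * (c5 * c5))} :
        Finset (Equiv.Perm (Fin 5))) : Set (Equiv.Perm (Fin 5)))) := by
      rw [← e5]; rfl
    rw [e6, Nat.card_coe_set_eq, Set.ncard_coe_finset]
    decide
  rw [e2]

end Base

end Cfsg.Agent.LE
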