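import Cfsg.Agent.LE.Gen
import Cfsg.Agent.LE.J2Small
import Cfsg.Agent.H91.CoprimeAb
import Cfsg.Agent.Transfer.Fusion
import Cfsg.Agent.LE.CE4

/-!
The centralizer of the non-2-central involution in a group of `J₂` type is `E₄ × A₅` (or of order 48);
abstract part (owner: helper58).
-/
set_option autoImplicit false

namespace Cfsg.Agent.LE

open Subgroup
open scoped commutatorElement

/-- Situation in `M = C_G(v)`. -/
structure MSet {M : Type*} [Group M] (P U : Subgroup M) (v : M) : Prop where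
  cardP : Nat.card P = 16
  elP : ∀ a ∈ P, a * a = 1
  UP : U ≤ P
  cardU : Nat.card U = 4
  cent : ∀ u ∈ U, u ≠ 1 → centralizer ({u} : Set M) = P
  vP : v ∈ P
  vU : v ∉ U
  vZ : ∀ m, m * v = v * m
  trans : ∀ u ∈ U, u ≠ 1 → ∀ u' ∈ U, u' ≠ 1 → ∃ m, m * u * m⁻¹ = u'
  closed : ∀ m, ∀ u ∈ U, m * u * m⁻¹ ∈ P → m * u * m⁻¹ ∈ U

theorem sq_comm {M : Type*} [Group M] {P : Subgroup M} (hP : ∀ a ∈ P, a * a = 1) {a b : M} (ha : a ∈ P)
    (hb : b ∈ P) : a * b = b * a := by
  have h1 := hP _ (P.mul_mem ha hb)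
  have h2 : (a * b)⁻¹ = a * b := inv_eq_of_mul_eq_one_left h1
  rw [mul_inv_rev, inv_eq_of_mul_eq_one_left (hP a ha), inv_eq_of_mul_eq_one_left (hP b hb)] at h2
  exact h2.symm

theorem card_ne_one_sub {M : Type*} [Group M] [Finite M] (U : Subgroup M) :
    Nat.card {w : M // w ∈ U ∧ w ≠ 1} = Nat.card U - 1 := by
  have h1 : Nat.card {w : M // w ∈ U ∧ w ≠ 1} = ((U : Set M) \ {1}).ncard := by
    rw [← Nat.card_coe_set_eq]
    rfl
  rw [h1, Set.ncard_sdiff_singleton_of_mem (SetLike.mem_coe.mpr U.one_mem)]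
  rfl

/-- In `S₅`: an element commuting with all elements of a four-subgroup of `A₅` lies in it. -/
theorem four_self_cent {V : Subgroup (Equiv.Perm (Fin 5))} (hV : Nat.card V = 4)
    (hel : ∀ a ∈ V, a * a = 1) (halt : V ≤ alternatingGroup (Fin 5)) {σ : Equiv.Perm (Fin 5)}
    (hσ : ∀ a ∈ V, σ * a = a * σ) : σ ∈ V := by
  obtain ⟨a, ha, ha1⟩ : ∃ a ∈ V, a ≠ 1 := by
    by_contra hc
    push Not at hc
    have : V = ⊥ := by
      rw [eq_bot_iff]; intro a ha; exact mem_bot.mpr (hc a ha)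
    rw [this] at hV; simp at hV
  obtain ⟨π, hπ, hπa⟩ := conj_std a (Equiv.Perm.mem_alternatingGroup.mp (halt ha)) (hel a ha) ha1
  -- conjugate V
  have hcommV : ∀ b ∈ V, (π⁻¹ * b * π) * t1 = t1 * (π⁻¹ * b * π) := by
    intro b hb
    rw [← hπa]
    have := sq_comm hel hb ha
    calc π⁻¹ * b * π * (π⁻¹ * a * π) = π⁻¹ * (b * a) * π := by group
      _ = π⁻¹ * (a * b) * π := by rw [this]
      _ = π⁻¹ * a * π * (π⁻¹ * b * π) := by group
  have h4 : ∀ b ∈ V, π⁻¹ * b * π = 1 ∨ π⁻¹ * b * π = t1 ∨ π⁻¹ * b * π = t2 ∨ π⁻¹ * b * π = t3 := by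
    intro b hb
    apply cent_t1 _ _ (hcommV b hb)
    rw [Equiv.Perm.sign_mul, Equiv.Perm.sign_mul, Equiv.Perm.mem_alternatingGroup.mp (halt hb),
      Equiv.Perm.sign_inv, hπ]; simp
  obtain ⟨W, hW⟩ : ∃ W, W = V.map (MulAut.conj π⁻¹).toMonoidHom := ⟨_, rfl⟩
  have hWc : Nat.card W = 4 := by
    rw [hW, ← hV]
    exact (Nat.card_congr (V.equivMapOfInjective _ (MulAut.conj π⁻¹).injective).toEquiv).symm
  have hWm : ∀ b, b ∈ W ↔ b = 1 ∨ b = t1 ∨ b = t2 ∨ b = t3 := by
    have hsub : (W : Set (Equiv.Perm (Fin 5))) ⊆ (({1, t1, t2, t3} : Finset (Equiv.Perm (Fin 5))) :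
        Set (Equiv.Perm (Fin 5))) := by
      intro b hb
      rw [hW] at hb
      obtain ⟨c, hc, rfl⟩ := hb
      have := h4 c hc
      simp only [Finset.coe_insert, Finset.coe_singleton, Set.mem_insert_iff, Set.mem_singleton_iff]
      simpa using this
    have hcd : (W : Set (Equiv.Perm (Fin 5))) = (({1, t1, t2, t3} : Finset (Equiv.Perm (Fin 5))) :
        Set (Equiv.Perm (Fin 5))) := by
      apply Set.eq_of_subset_of_ncard_le hsub
      rw [Set.ncard_coe_finset]
      have : (W : Set (Equiv.Perm (Fin 5))).ncard = 4 := hWc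
      rw [this]
      decide
    intro b
    rw [← SetLike.mem_coe, hcd]
    simp
  have hσ2 : ∀ b ∈ W, (π⁻¹ * σ * π) * b = b * (π⁻¹ * σ * π) := by
    intro b hb
    rw [hW] at hb
    obtain ⟨c, hc, rfl⟩ := hb
    simp only [MulEquiv.toMonoidHom_eq_coe, MonoidHom.coe_coe, MulAut.conj_apply, inv_inv]
    calc π⁻¹ * σ * π * (π⁻¹ * c * π) = π⁻¹ * (σ * c) * π := by group
      _ = π⁻¹ * (c * σ) * π := by rw [hσ c hc]
      _ = π⁻¹ * c * π * (π⁻¹ * σ * π) := by group
  have key : ∀ τ : Equiv.Perm (Fin 5), τ * t1 = t1 * τ → τ * t2 = t2 * τ →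
      τ = 1 ∨ τ = t1 ∨ τ = t2 ∨ τ = t3 := by
    set_option maxRecDepth 100000 in decide
  have h5 : π⁻¹ * σ * π ∈ W := (hWm _).mpr (key _ (hσ2 _ ((hWm _).mpr (by simp))) (hσ2 _ ((hWm _).mpr (by simp))))
  rw [hW] at h5
  obtain ⟨c, hc, hcσ⟩ := h5
  simp only [MulEquiv.toMonoidHom_eq_coe, MonoidHom.coe_coe, MulAut.conj_apply, inv_inv] at hcσ
  have : c = σ := by
    have h6 : π * (π⁻¹ * c * π) * π⁻¹ = π * (π⁻¹ * σ * π) * π⁻¹ := by rw [hcσ]
    calc c = π * (π⁻¹ * c * π) * π⁻¹ := by group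
      _ = π * (π⁻¹ * σ * π) * π⁻¹ := h6
      _ = σ := by group
  rw [← this]; exact hc

namespace MSet

variable {M : Type*} [Group M] [Finite M] {P U : Subgroup M} {v : M} (S : MSet P U v)

include S
set_option linter.unusedSectionVars false

theorem exists_z : ∃ z ∈ U, z ≠ 1 := by
  by_contra hc
  push Not at hc
  have : U = ⊥ := by
    rw [eq_bot_iff]; intro a ha; exact mem_bot.mpr (hc a ha)
  have h1 := S.cardU
  rw [this] at h1; simp at h1

theorem mem_normalizer {m u : M} (hu : u ∈ U) (hu1 : u ≠ 1) (hm : m * u * m⁻¹ ∈ U) :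
    m ∈ normalizer (P : Set M) := by
  apply mem_normalizer_fintype
  intro p hp
  have h1 : m * u * m⁻¹ ≠ 1 := by
    intro h1
    apply hu1
    have : m⁻¹ * (m * u * m⁻¹) * m = m⁻¹ * 1 * m := by rw [h1]
    calc u = m⁻¹ * (m * u * m⁻¹) * m := by group
      _ = 1 := by rw [this]; group
  rw [SetLike.mem_coe, ← S.cent _ hm h1, mem_cent]
  have h2 : p * u = u * p := by
    rw [← mem_cent (f := u), S.cent u hu hu1]; exact hp
  calc m * p * m⁻¹ * (m * u * m⁻¹) = m * (p * u) * m⁻¹ := by group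
    _ = m * (u * p) * m⁻¹ := by rw [h2]
    _ = m * u * m⁻¹ * (m * p * m⁻¹) := by group

theorem conj_mem {n u : M} (hn : n ∈ normalizer (P : Set M)) (hu : u ∈ U) : n * u * n⁻¹ ∈ U :=
  S.closed n u hu ((Subgroup.mem_normalizer_iff.mp hn u).mp (S.UP hu))

theorem cardN : Nat.card (normalizer (P : Set M)) = 48 := by
  obtain ⟨z, hz, hz1⟩ := S.exists_z
  have h1 := card_orbit (normalizer (P : Set M)) z
  have h2 : normalizer (P : Set M) ⊓ centralizer ({z} : Set M) = P := by
    rw [S.cent z hz hz1]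
    exact inf_eq_right.mpr le_normalizer
  have h3 : Nat.card {w : M // ∃ h ∈ normalizer (P : Set M), h * z * h⁻¹ = w} = 3 := by
    have h4 := card_ne_one_sub U
    rw [S.cardU] at h4
    rw [show 3 = 4 - 1 by rfl, ← h4]
    apply Nat.card_congr
    apply Equiv.subtypeEquivRight
    intro w
    constructor
    · rintro ⟨n, hn, rfl⟩
      refine ⟨S.conj_mem hn hz, ?_⟩
      intro h5
      apply hz1
      calc z = n⁻¹ * (n * z * n⁻¹) * n := by group
        _ = 1 := by rw [h5]; group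
    · rintro ⟨hw, hw1⟩
      obtain ⟨m, hm⟩ := S.trans z hz hz1 w hw hw1
      exact ⟨m, S.mem_normalizer hz hz1 (by rw [hm]; exact hw), hm⟩
  rw [h1, h2, h3, S.cardP]

theorem not_dvd_index : ¬ 2 ∣ P.index := by
  intro h1
  have : Fact (Nat.Prime 2) := ⟨by norm_num⟩
  have h2 : 2 ^ (4 + 1) ∣ Nat.card M := by
    rw [← P.card_mul_index, S.cardP]
    obtain ⟨k, hk⟩ := h1
    rw [hk]
    exact ⟨k, by ring⟩
  have h3 := Sylow.prime_dvd_card_quotient_normalizer h2 (H := P) (by rw [S.cardP]; norm_num)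
  have h4 := card_eq_card_quotient_mul_card_subgroup (P.comap (normalizer (P : Set M)).subtype)
  rw [S.cardN] at h4
  have h5 : Nat.card (P.comap (normalizer (P : Set M)).subtype) = 16 := by
    rw [← S.cardP]
    exact Nat.card_congr (Subgroup.subgroupOfEquivOfLe (le_normalizer (H := P))).toEquiv
  rw [h5] at h4
  omega

theorem isPGroup : IsPGroup 2 P := IsPGroup.of_card (n := 4) (by rw [S.cardP]; norm_num)

/-- `P` as a Sylow subgroup -/
theorem exists_sylow : ∃ T : Sylow 2 M, (T : Subgroup M) = P := by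
  have : Fact (Nat.Prime 2) := ⟨by norm_num⟩
  exact ⟨S.isPGroup.toSylow S.not_dvd_index, rfl⟩

theorem isMulCommutative : IsMulCommutative P := by
  constructor
  constructor
  intro a b
  ext
  exact sq_comm S.elP a.2 b.2

theorem exists_y : ∃ y ∈ normalizer (P : Set M), orderOf y = 3 := by
  have : Fact (Nat.Prime 3) := ⟨by norm_num⟩
  obtain ⟨y, hy⟩ := exists_prime_orderOf_dvd_card' (G := normalizer (P : Set M)) 3
    (by rw [S.cardN]; norm_num)
  exact ⟨y, y.2, by rw [Subgroup.orderOf_coe]; exact hy⟩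

theorem not_mem_of_three {y : M} (hy : orderOf y = 3) : y ∉ P := by
  intro h1
  have h2 := S.elP y h1
  have h3 : orderOf y ∣ 2 := orderOf_dvd_of_pow_eq_one (by rw [pow_two]; exact h2)
  rw [hy] at h3
  omega

section y

variable {y : M} (hyN : y ∈ normalizer (P : Set M)) (hy : orderOf y = 3)

include hyN hy

theorem not_comm {u : M} (hu : u ∈ U) (hu1 : u ≠ 1) : y * u ≠ u * y := by
  intro h1
  apply S.not_mem_of_three hy
  rw [← S.cent u hu hu1, mem_cent]
  exact h1

theorem cardE : Nat.card ↥(P ⊓ centralizer ({y} : Set M)) = 4 := by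
  have : Fact (Nat.Prime 3) := ⟨by norm_num⟩
  have h1 := card_modEq_fix (p := 3) P y (by rw [← hy]; exact pow_orderOf_eq_one y)
    (fun a ha => (Subgroup.mem_normalizer_iff.mp hyN a).mp ha)
  rw [S.cardP] at h1
  have h2 : Nat.card ↥(P ⊓ centralizer ({y} : Set M)) ∣ 16 := S.cardP ▸ card_dvd_of_le inf_le_left
  have h3 : Nat.card ↥(P ⊓ centralizer ({y} : Set M)) ≠ 16 := by
    intro h3
    have h4 : P ⊓ centralizer ({y} : Set M) = P := by
      apply Subgroup.eq_of_le_of_card_ge inf_le_left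
      rw [h3, S.cardP]
    obtain ⟨z, hz, hz1⟩ := S.exists_z
    have h5 : z ∈ P ⊓ centralizer ({y} : Set M) := by rw [h4]; exact S.UP hz
    rw [mem_inf_cent] at h5
    exact S.not_comm hyN hy hz hz1 h5.2.symm
  have h4 : Nat.card ↥(P ⊓ centralizer ({y} : Set M)) ≠ 1 := by
    intro h4
    have h5 : v ∈ P ⊓ centralizer ({y} : Set M) := by
      rw [mem_inf_cent]; exact ⟨S.vP, (S.vZ y).symm⟩
    rw [Subgroup.card_eq_one.mp h4, mem_bot] at h5
    exact S.vU (h5 ▸ U.one_mem)
  generalize Nat.card ↥(P ⊓ centralizer ({y} : Set M)) = n at *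
  have h5 : n % 3 = 1 := by
    have : 16 % 3 = n % 3 := h1
    omega
  have h6 : n ∈ Nat.divisors 16 := by simp [h2]
  have h7 : Nat.divisors 16 = {1, 2, 4, 8, 16} := by decide
  rw [h7] at h6
  simp only [Finset.mem_insert, Finset.mem_singleton] at h6
  rcases h6 with h6 | h6 | h6 | h6 | h6 <;> subst h6 <;> simp_all

theorem zp_le : zpowers y ≤ normalizer (P : Set M) := by rwa [zpowers_le]

theorem cop (V : Subgroup M) (hV : V ≤ P) : (Nat.card (zpowers y)).Coprime (Nat.card V) := by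
  rw [Nat.card_zpowers, hy]
  have h1 : Nat.card V ∣ 2 ^ 4 := by
    have := card_dvd_of_le hV
    rw [S.cardP] at this; exact this
  exact Nat.Coprime.coprime_dvd_right h1 (by norm_num)

theorem comm_eq : ⁅P, zpowers y⁆ = U := by
  have _ := S.isMulCommutative
  have _ : IsMulCommutative U := by
    constructor
    constructor
    intro a b
    ext
    exact sq_comm S.elP (S.UP a.2) (S.UP b.2)
  obtain ⟨h1, h2⟩ := H91.abelian_decomp (zpowers y) P (S.zp_le hyN hy) (S.cop hyN hy P le_rfl)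
  have hyU : zpowers y ≤ normalizer (U : Set M) := by
    rw [zpowers_le]
    exact mem_normalizer_fintype (fun u hu => S.conj_mem hyN hu)
  obtain ⟨h3, h4⟩ := H91.abelian_decomp (zpowers y) U hyU (S.cop hyN hy U S.UP)
  have h5 : U ⊓ centralizer (zpowers y : Set M) = ⊥ := by
    rw [eq_bot_iff]
    rintro u hu
    rw [mem_inf_centr] at hu
    by_contra hc
    exact S.not_comm hyN hy hu.1 (fun h => hc (mem_bot.mpr h)) (hu.2 y (mem_zpowers y))
  rw [h5, bot_sup_eq] at h4
  have h6 : U ≤ ⁅P, zpowers y⁆ := by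
    conv_lhs => rw [← h4]
    exact commutator_mono S.UP le_rfl
  symm
  apply Subgroup.eq_of_le_of_card_ge h6
  have h7 : P ⊓ centralizer (zpowers y : Set M) = P ⊓ centralizer ({y} : Set M) := by
    ext a
    rw [mem_inf_centr, mem_inf_cent]
    constructor
    · rintro ⟨ha, h8⟩
      exact ⟨ha, (h8 y (mem_zpowers y)).symm⟩
    · rintro ⟨ha, h8⟩
      refine ⟨ha, ?_⟩
      rintro _ ⟨k, rfl⟩
      exact ((show Commute a y from h8).zpow_right k).symm.eq
  rw [h7] at h1 h2
  have h8 : ⁅P, zpowers y⁆ ≤ P := by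
    conv_rhs => rw [← h2]
    exact le_sup_right
  have h9 := card_mul_le_of_disjoint inf_le_left h8 h1
  rw [S.cardE hyN hy, S.cardP] at h9
  rw [S.cardU]
  omega

theorem sup_eq : P ⊔ zpowers y = normalizer (P : Set M) := by
  apply Subgroup.eq_of_le_of_card_ge (sup_le le_normalizer (S.zp_le hyN hy))
  rw [S.cardN]
  have h1 : P ⊓ zpowers y = ⊥ := by
    rw [inf_comm]
    exact (Subgroup.disjoint_of_coprime_natCard (S.cop hyN hy P le_rfl)).eq_bot
  have h2 := card_mul_le_of_disjoint (le_sup_left (a := P) (b := zpowers y)) le_sup_right h1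
  rw [S.cardP, Nat.card_zpowers, hy] at h2
  exact h2

theorem comm_normalizer : ⁅P, normalizer (P : Set M)⁆ = U := by
  apply le_antisymm
  · -- `N(P)` centralises `P/U`
    let D : Subgroup M :=
      { carrier := {n | n ∈ normalizer (P : Set M) ∧ ∀ a ∈ P, n * a * n⁻¹ * a⁻¹ ∈ U}
        one_mem' := ⟨one_mem _, fun a _ => by simp [U.one_mem]⟩
        mul_mem' := by
          rintro m n ⟨hm, hm2⟩ ⟨hn, hn2⟩
          refine ⟨mul_mem hm hn, fun a ha => ?_⟩
          have h1 : n * a * n⁻¹ ∈ P := (Subgroup.mem_normalizer_iff.mp hn a).mp ha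
          have e : m * n * a * (m * n)⁻¹ * a⁻¹ =
              (m * (n * a * n⁻¹) * m⁻¹ * (n * a * n⁻¹)⁻¹) * (n * a * n⁻¹ * a⁻¹) := by group
          rw [e]
          exact U.mul_mem (hm2 _ h1) (hn2 a ha)
        inv_mem' := by
          rintro n ⟨hn, hn2⟩
          have hni := inv_mem hn
          refine ⟨hni, fun a ha => ?_⟩
          have h1 : n⁻¹ * a * n ∈ P := by
            have := (Subgroup.mem_normalizer_iff.mp hni a).mp ha
            rwa [inv_inv] at this
          have h2 := hn2 _ h1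
          have e : n⁻¹ * a * n⁻¹⁻¹ * a⁻¹ = (n * (n⁻¹ * a * n) * n⁻¹ * (n⁻¹ * a * n)⁻¹)⁻¹ := by group
          rw [e]
          exact U.inv_mem h2 }
    have hD : normalizer (P : Set M) ≤ D := by
      rw [← S.sup_eq hyN hy, sup_le_iff, zpowers_le]
      constructor
      · intro p hp
        refine ⟨le_normalizer hp, fun a ha => ?_⟩
        rw [sq_comm S.elP hp ha]
        have : a * p * p⁻¹ * a⁻¹ = 1 := by group
        rw [this]; exact U.one_mem
      · refine ⟨hyN, fun a ha => ?_⟩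
        have h1 : ⁅a, y⁆ ∈ U := by
          rw [← S.comm_eq hyN hy]
          exact commutator_mem_commutator ha (mem_zpowers y)
        have e : y * a * y⁻¹ * a⁻¹ = ⁅a, y⁆⁻¹ := by rw [commutatorElement_def]; group
        rw [e]; exact U.inv_mem h1
    rw [commutator_le]
    intro a ha n hn
    have h1 := (hD hn).2 a ha
    have e : ⁅a, n⁆ = (n * a * n⁻¹ * a⁻¹)⁻¹ := by rw [commutatorElement_def]; group
    rw [e]; exact U.inv_mem h1
  · rw [← S.comm_eq hyN hy]
    exact commutator_mono le_rfl (S.zp_le hyN hy)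

end y

theorem inf_residual : P ⊓ Cfsg.pResidual 2 M = U := by
  have : Fact (Nat.Prime 2) := ⟨by norm_num⟩
  obtain ⟨T, hT⟩ := S.exists_sylow
  obtain ⟨y, hyN, hy⟩ := S.exists_y
  have hc : IsMulCommutative T := by
    have := S.isMulCommutative
    rw [← hT] at this
    exact this
  have := Transfer.inf_pResidual_eq_of_isMulCommutative T hc
  rw [← S.comm_normalizer hyN hy, ← hT]
  exact this

theorem mem_of_48 (h : Nat.card M = 48) {a : M} (ha : a * a = 1) : a ∈ P := by
  have h1 : normalizer (P : Set M) = ⊤ := by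
    apply Subgroup.eq_top_of_card_eq
    rw [S.cardN, h]
  have hn : P.Normal := normalizer_eq_top_iff.mp h1
  have h2 : P.index = 3 := by
    have := P.card_mul_index
    rw [S.cardP, h] at this; omega
  have h3 := Subgroup.pow_index_mem P a
  rw [h2, pow_succ, pow_two, ha, one_mul] at h3
  exact h3

/-- **The structure of `M`.** -/
theorem main : Nat.card M = 48 ∨ ∃ E L : Subgroup M, Nat.card E = 4 ∧ E ≤ P ∧ v ∈ E ∧ L.Normal ∧ U ≤ L ∧
    E ⊓ L = ⊥ ∧ E ⊔ L = ⊤ ∧ (∀ e ∈ E, ∀ l ∈ L, e * l = l * e) ∧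
      Nonempty (L ≃* alternatingGroup (Fin 5)) ∧ L = Cfsg.pResidual 2 M := by
  have : Fact (Nat.Prime 2) := ⟨by norm_num⟩
  obtain ⟨y, hyN, hy⟩ := S.exists_y
  obtain ⟨M0, hM0⟩ : ∃ M0, M0 = Cfsg.pResidual 2 M := ⟨_, rfl⟩
  have hn : M0.Normal := by rw [hM0]; infer_instance
  have hinf : P ⊓ M0 = U := hM0 ▸ S.inf_residual
  have hUM : U ≤ M0 := by rw [← hinf]; exact inf_le_right
  have hyM : y ∈ M0 := by
    rw [hM0]
    apply Transfer.mem_pResidual_of_coprime
    rw [hy]; norm_num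
  have hsup : P ⊔ M0 = ⊤ := by
    obtain ⟨T, hT⟩ := S.exists_sylow
    rw [hM0, ← hT]
    exact Transfer.sylow_sup_pResidual T
  have hidx : M0.index = 4 := by
    have h1 : M0.relIndex (P ⊔ M0) = M0.relIndex P := Subgroup.relIndex_sup_right P M0
    rw [hsup, relIndex_top_right] at h1
    have h2 := (M0.subgroupOf P).card_mul_index
    have h3 : Nat.card (M0.subgroupOf P) = 4 := by
      rw [← S.cardU, ← hinf]
      have : (M0.subgroupOf P).map P.subtype = P ⊓ M0 := by
        rw [Subgroup.subgroupOf_map_subtype, inf_comm]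
      rw [← this]
      exact Nat.card_congr ((M0.subgroupOf P).equivMapOfInjective _ (Subgroup.subtype_injective P)).toEquiv
    rw [h3, S.cardP] at h2
    rw [h1]
    change (M0.subgroupOf P).index = 4
    omega
  have hcM := M0.card_mul_index
  rw [hidx] at hcM
  have hU0c : Nat.card (U.subgroupOf M0) = 4 := by
    rw [← S.cardU]; exact Nat.card_congr (Subgroup.subgroupOfEquivOfLe hUM).toEquiv
  rcases ce4 (U := U.subgroupOf M0) hU0c (fun u hu => by
      rw [mem_subgroupOf] at hu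
      ext
      exact S.elP _ (S.UP hu)) (fun u hu hu1 x hx => by
      rw [mem_subgroupOf] at hu
      have hu1' : (u : M) ≠ 1 := fun h => hu1 (Subtype.ext h)
      have hP : ∀ w : M, w ∈ P ↔ w * u = u * w := fun w => by rw [← S.cent _ hu hu1', mem_cent]
      rw [mem_subgroupOf, ← hinf, Subgroup.mem_inf, hP]
      exact ⟨congrArg Subtype.val hx, x.2⟩) with h1 | ⟨h1, -⟩ | ⟨⟨e⟩⟩
  · exfalso
    have : (⟨y, hyM⟩ : M0) ∈ U.subgroupOf M0 := by rw [h1]; trivial
    rw [mem_subgroupOf] at this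
    exact S.not_mem_of_three hy (S.UP this)
  · left
    rw [← hcM, h1]
  · right
    have hcard0 : Nat.card M0 = 60 := by
      rw [Nat.card_congr e.toEquiv]
      have := nat_card_alternatingGroup (α := Fin 5)
      rw [this, Nat.card_eq_fintype_card, Fintype.card_fin]
      rfl
    have hEL : (P ⊓ centralizer ({y} : Set M)) ⊓ M0 = ⊥ := by
      rw [eq_bot_iff]
      rintro a ⟨ha1, ha2⟩
      have ha1' := mem_inf_cent.mp ha1
      have ha3 : a ∈ U := by rw [← hinf]; exact ⟨ha1'.1, ha2⟩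
      by_contra hc
      exact S.not_comm hyN hy ha3 (fun h => hc (mem_bot.mpr h)) ha1'.2.symm
    refine ⟨P ⊓ centralizer ({y} : Set M), M0, S.cardE hyN hy, inf_le_left, ?_, hn, hUM, hEL, ?_, ?_, ⟨e⟩, hM0⟩
    · rw [mem_inf_cent]; exact ⟨S.vP, (S.vZ y).symm⟩
    · apply Subgroup.eq_top_of_le_card
      have h1 := card_mul_le_of_disjoint (le_sup_left (a := P ⊓ centralizer ({y} : Set M)) (b := M0))
        le_sup_right hEL
      rw [S.cardE hyN hy, hcard0] at h1
      rw [← hcM, hcard0]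
      omega
    · obtain ⟨ψ, hψ1, hψ2⟩ := a5_ext M0 e
      intro a ha l hl
      have ha' := mem_inf_cent.mp ha
      suffices h2 : a ∈ ψ.ker by
        rw [hψ2, mem_centralizer_iff] at h2
        exact (h2 l hl).symm
      have hψi : ∀ m ∈ M0, ∀ m' ∈ M0, ψ m = ψ m' → m = m' := by
        intro m hm m' hm' hmm
        have h3 := hψ1 ⟨m, hm⟩
        have h4 := hψ1 ⟨m', hm'⟩
        change ψ m = _ at h3
        change ψ m' = _ at h4
        rw [h3, h4] at hmm
        exact congrArg Subtype.val (e.injective (Subtype.ext hmm))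
      have hV : ψ a ∈ U.map ψ := by
        apply four_self_cent (V := U.map ψ)
        · rw [← S.cardU]
          have hinj : Function.Injective (ψ.comp U.subtype) := by
            intro b c hbc
            exact Subtype.ext (hψi _ (hUM b.2) _ (hUM c.2) hbc)
          have h3 : (ψ.comp U.subtype).range = U.map ψ := by
            rw [MonoidHom.range_eq_map, ← Subgroup.map_map, ← MonoidHom.range_eq_map,
              Subgroup.range_subtype]
          rw [← h3]
          exact (Nat.card_congr (MonoidHom.ofInjective hinj).toEquiv).symm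
        · rintro _ ⟨b, hb, rfl⟩
          rw [← map_mul, S.elP b (S.UP hb), map_one]
        · rintro _ ⟨b, hb, rfl⟩
          have := hψ1 ⟨b, hUM hb⟩
          change ψ b = _ at this
          rw [this]
          exact (e ⟨b, hUM hb⟩).2
        · rintro _ ⟨b, hb, rfl⟩
          rw [← map_mul, ← map_mul, sq_comm S.elP ha'.1 (S.UP hb)]
      obtain ⟨b, hb, hab⟩ := hV
      have h5 : ψ b * ψ y = ψ y * ψ b := by
        rw [hab, ← map_mul, ← map_mul, ha'.2]
      rw [← map_mul, ← map_mul] at h5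
      have h6 := hψi _ (M0.mul_mem (hUM hb) hyM) _ (M0.mul_mem hyM (hUM hb)) h5
      have hb1 : b = 1 := by
        by_contra hb1
        exact S.not_comm hyN hy hb hb1 h6.symm
      rw [MonoidHom.mem_ker, ← hab, hb1, map_one]

end MSet

end Cfsg.Agent.LE
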