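import Cfsg.Agent.LE.Fix
import Cfsg.Agent.AutAlt.Basic

/-!
General lemmas: orbit counting, extensions of `A₅`, recognition of `A₄` (owner: helper58).
-/
set_option autoImplicit false

namespace Cfsg.Agent.LE

open Subgroup

/-- orbit-stabiliser for conjugation by a subgroup -/
theorem card_orbit {G : Type*} [Group G] [Finite G] (H : Subgroup G) (z : G) :
    Nat.card H = Nat.card ↥(H ⊓ centralizer ({z} : Set G)) *
      Nat.card {w : G // ∃ h ∈ H, h * z * h⁻¹ = w} := by
  classical
  let _ : MulAction H G := MulAction.compHom G (MulAut.conj.comp H.subtype)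
  have hsm : ∀ (h : H) (g : G), h • g = h * g * (h : G)⁻¹ := fun _ _ => rfl
  have _ := Fintype.ofFinite (MulAction.orbit H z)
  have _ := Fintype.ofFinite (MulAction.stabilizer H z)
  have h1 : Nat.card (MulAction.orbit H z) * Nat.card (MulAction.stabilizer H z) = Nat.card H := by
    have _ := Fintype.ofFinite H
    rw [Nat.card_eq_fintype_card, Nat.card_eq_fintype_card, Nat.card_eq_fintype_card]
    exact MulAction.card_orbit_mul_card_stabilizer_eq_card_group H z
  rw [← h1, mul_comm]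
  congr 1
  · apply Nat.card_congr
    refine ⟨fun h => ⟨h.1, ?_⟩, fun h => ⟨⟨h, h.2.1⟩, ?_⟩, fun h => ?_, fun h => ?_⟩
    · rw [mem_inf_cent]
      refine ⟨h.1.2, ?_⟩
      have := h.2
      rw [MulAction.mem_stabilizer_iff, hsm, mul_inv_eq_iff_eq_mul] at this
      exact this
    · rw [MulAction.mem_stabilizer_iff, hsm, mul_inv_eq_iff_eq_mul]
      exact (mem_inf_cent.mp h.2).2
    · rfl
    · rfl
  · apply Nat.card_congr
    refine ⟨fun w => ⟨w.1, ?_⟩, fun w => ⟨w.1, ?_⟩, fun w => ?_, fun w => ?_⟩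
    · obtain ⟨h, hh⟩ := w.2
      exact ⟨h, h.2, hh⟩
    · obtain ⟨h, hh, hw⟩ := w.2
      exact ⟨⟨h, hh⟩, hw⟩
    · rfl
    · rfl

theorem mul_inj_of_disjoint {G : Type*} [Group G] {A B : Subgroup G} (h : A ⊓ B = ⊥) {a a' b b' : G}
    (ha : a ∈ A) (ha' : a' ∈ A) (hb : b ∈ B) (hb' : b' ∈ B) (e : a * b = a' * b') : a = a' ∧ b = b' := by
  have h1 : a'⁻¹ * a = b' * b⁻¹ := by
    rw [inv_mul_eq_iff_eq_mul, ← mul_assoc, ← e]; group
  have h2 : a'⁻¹ * a ∈ A ⊓ B :=
    ⟨A.mul_mem (A.inv_mem ha') ha, by rw [h1]; exact B.mul_mem hb' (B.inv_mem hb)⟩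
  rw [h, mem_bot] at h2
  have h3 : a = a' := by
    rw [inv_mul_eq_one] at h2
    exact h2.symm
  subst h3
  exact ⟨rfl, mul_left_cancel e⟩

theorem card_mul_le_of_disjoint {G : Type*} [Group G] [Finite G] {A B P : Subgroup G} (hA : A ≤ P)
    (hB : B ≤ P) (h : A ⊓ B = ⊥) : Nat.card A * Nat.card B ≤ Nat.card P := by
  rw [← Nat.card_prod]
  apply Nat.card_le_card_of_injective (fun p : A × B => (⟨p.1 * p.2, P.mul_mem (hA p.1.2) (hB p.2.2)⟩ : P))
  rintro ⟨a, b⟩ ⟨a', b'⟩ hab
  have h1 : (a : G) * b = a' * b' := congrArg Subtype.val hab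
  obtain ⟨h2, h3⟩ := mul_inj_of_disjoint h a.2 a'.2 b.2 b'.2 h1
  exact Prod.ext (Subtype.ext h2) (Subtype.ext h3)

/-- A group with a normal subgroup `L ≅ A₅` maps to `S₅` with kernel `C(L)`. -/
theorem a5_ext {N : Type*} [Group N] (L : Subgroup N) [L.Normal] (e : L ≃* alternatingGroup (Fin 5)) :
    ∃ ψ : N →* Equiv.Perm (Fin 5), (∀ l : L, ψ l = e l) ∧ ψ.ker = centralizer (L : Set N) := by
  have hb := AutAlt.conjNormal_bijective (α := Fin 5) (by simp) (by simp)
  let E0 : Equiv.Perm (Fin 5) ≃* MulAut (alternatingGroup (Fin 5)) := MulEquiv.ofBijective _ hb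
  let ψ : N →* Equiv.Perm (Fin 5) :=
    E0.symm.toMonoidHom.comp ((MulAut.congr e).toMonoidHom.comp (MulAut.conjNormal (H := L)))
  have hψ : ∀ n, E0 (ψ n) = MulAut.congr e (MulAut.conjNormal n) := fun n => by
    change E0 (E0.symm _) = _
    rw [MulEquiv.apply_symm_apply]
    rfl
  refine ⟨ψ, ?_, ?_⟩
  · intro l
    apply E0.injective
    rw [hψ]
    ext a : 2
    change (e (MulAut.conjNormal (l : N) (e.symm a)) : Equiv.Perm (Fin 5)) =
      (MulAut.conjNormal ((e l : alternatingGroup (Fin 5)) : Equiv.Perm (Fin 5)) a : alternatingGroup (Fin 5))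
    rw [MulAut.conjNormal_apply]
    have h1 : (MulAut.conjNormal (l : N) (e.symm a) : L) = l * e.symm a * l⁻¹ := by
      ext
      rw [MulAut.conjNormal_apply]
      simp
    rw [h1]
    simp
  · ext n
    rw [MonoidHom.mem_ker, mem_centralizer_iff]
    have h1 : ψ n = 1 ↔ MulAut.conjNormal (H := L) n = 1 := by
      rw [← E0.map_eq_one_iff, hψ, MulEquiv.map_eq_one_iff]
    rw [h1]
    constructor
    · intro h2 l hl
      have h3 : (MulAut.conjNormal n (⟨l, hl⟩ : L) : N) = l := by rw [h2]; rfl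
      rw [MulAut.conjNormal_apply, mul_inv_eq_iff_eq_mul] at h3
      exact h3.symm
    · intro h2
      ext l
      rw [MulAut.conjNormal_apply, mul_inv_eq_iff_eq_mul, ← h2 l l.2]
      rfl

/-- A group of order 12 with a subgroup of order 3 with trivial core is `A₄`. -/
theorem iso_a4 {K : Type*} [Group K] [Finite K] (hK : Nat.card K = 12) (X : Subgroup K)
    (hX : Nat.card X = 3) (hn : ¬ X.Normal) : Nonempty (K ≃* alternatingGroup (Fin 4)) := by
  classical
  have hidx : X.index = 4 := by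
    have := X.card_mul_index
    rw [hX, hK] at this; omega
  have hcard : Nat.card (K ⧸ X) = 4 := hidx
  have _ := Fintype.ofFinite (K ⧸ X)
  have hcard' : Fintype.card (K ⧸ X) = 4 := by rw [← Nat.card_eq_fintype_card]; exact hcard
  let ρ : K →* Equiv.Perm (K ⧸ X) := MulAction.toPermHom K (K ⧸ X)
  have hker : ρ.ker = ⊥ := by
    have h1 : ρ.ker = X.normalCore := (Subgroup.normalCore_eq_ker X).symm
    rw [h1]
    have h2 : Nat.card X.normalCore ∣ 3 := hX ▸ card_dvd_of_le X.normalCore_le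
    rcases (Nat.dvd_prime (by norm_num)).mp h2 with h3 | h3
    · exact Subgroup.card_eq_one.mp h3
    · exfalso
      apply hn
      have h4 : X.normalCore = X := by
        apply Subgroup.eq_of_le_of_card_ge X.normalCore_le
        rw [h3, hX]
      rw [← h4]
      infer_instance
  have hinj : Function.Injective ρ := (MonoidHom.ker_eq_bot_iff ρ).mp hker
  have hrange : Nat.card ρ.range = 12 := by
    rw [← hK]
    exact (Nat.card_congr (MonoidHom.ofInjective hinj).toEquiv).symm
  have hi2 : ρ.range.index = 2 := by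
    have := ρ.range.card_mul_index
    rw [hrange, Nat.card_perm, hcard, show Nat.factorial 4 = 24 by decide] at this
    omega
  have halt : ρ.range = alternatingGroup (K ⧸ X) := Equiv.Perm.eq_alternatingGroup_of_index_eq_two hi2
  have e1 : K ≃* ρ.range := MonoidHom.ofInjective hinj
  have e2 : ρ.range ≃* alternatingGroup (K ⧸ X) := MulEquiv.subgroupCongr halt
  have e3 : K ⧸ X ≃ Fin 4 := Fintype.equivFinOfCardEq hcard'
  exact ⟨(e1.trans e2).trans (Equiv.altCongrHom e3)⟩

end Cfsg.Agent.LE
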