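/-
Interface: the local structure of a group of Hall-Janko type (to be produced by the base library of helper58,
consumed by the Sylow 3, 5, 7 analysis).
-/
import Mathlib

set_option autoImplicit false

namespace Cfsg.Agent.LE

open Subgroup

/-- Local structure of a group of `J₂` type. `z` is the 2-central involution, `t` the other one. -/
structure J2Loc {G : Type*} [Group G] (z t : G) (E L K : Subgroup G) : Prop where
  cardG : Nat.card G = 604800
  hz : orderOf z = 2
  ht : orderOf t = 2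
  hzt : ¬ IsConj z t
  /-- every involution is conjugate to `z` or `t` -/
  hcl : ∀ x : G, orderOf x = 2 → IsConj x z ∨ IsConj x t
  cardCz : Nat.card (centralizer ({z} : Set G)) = 1920
  /-- `K ≅ A₄` with Klein subgroup `E`, `L ≅ A₅`, `[K, L] = 1` -/
  eL : Nonempty (L ≃* alternatingGroup (Fin 5))
  eK : Nonempty (K ≃* alternatingGroup (Fin 4))
  hEK : E ≤ K
  cardE : Nat.card E = 4
  Esq : ∀ e ∈ E, e * e = 1
  htE : t ∈ E
  hEt : ∀ e ∈ E, e ≠ 1 → IsConj e t
  comm : ∀ k ∈ K, ∀ l ∈ L, k * l = l * k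
  disj : K ⊓ L = ⊥
  hCE : ∀ e ∈ E, e ≠ 1 → centralizer ({e} : Set G) = E ⊔ L
  hNE : normalizer (E : Set G) = K ⊔ L
  hzL : z ∈ L
  hLz : ∀ l ∈ L, orderOf l = 2 → IsConj l z
  /-- elements of order 3 centralising `z` -/
  three_card : ∀ x : G, orderOf x = 3 → x * z = z * x →
    Nat.card ↥(centralizer ({x} : Set G) ⊓ centralizer ({z} : Set G)) = 24
  three_inv : ∀ x : G, orderOf x = 3 → x * z = z * x →
    ∀ s : G, orderOf s = 2 → s * x = x * s → s * z = z * s → IsConj s z
  five_card : ∀ x : G, orderOf x = 5 → x * z = z * x →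
    Nat.card ↥(centralizer ({x} : Set G) ⊓ centralizer ({z} : Set G)) = 10
  three_conj : ∀ x : G, orderOf x = 3 → x * z = z * x → ∃ g : G, g * z = z * g ∧ g * x * g⁻¹ = x⁻¹

end Cfsg.Agent.LE
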