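import Cfsg.Agent.LE.CE4
import Cfsg.Agent.LE.AltUse
import Cfsg.Agent.LE.J2Loc

/-! Centralizers of elements of odd order of `L` in a group of Hall-Janko type. -/

set_option autoImplicit false
set_option linter.style.haveILetI false

namespace Cfsg.Agent.LE

open Subgroup
open Cfsg.Agent.H80

section general
variable {G : Type*} [Group G]

theorem mem_sup_comm {A B : Subgroup G} (hc : ∀ a ∈ A, ∀ b ∈ B, a * b = b * a) {g : G} :
    g ∈ A ⊔ B ↔ ∃ a ∈ A, ∃ b ∈ B, a * b = g := by
  have h1 := MonoidHom.noncommCoprod_range A.subtype B.subtype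
    (fun a b => hc a a.2 b b.2)
  rw [A.range_subtype, B.range_subtype] at h1
  rw [← h1, MonoidHom.mem_range]
  constructor
  · rintro ⟨⟨a, b⟩, h⟩
    exact ⟨a, a.2, b, b.2, h⟩
  · rintro ⟨a, ha, b, hb, h⟩
    exact ⟨(⟨a, ha⟩, ⟨b, hb⟩), h⟩

theorem card_sup_comm {A B : Subgroup G} (hc : ∀ a ∈ A, ∀ b ∈ B, a * b = b * a)
    (hd : A ⊓ B = ⊥) : Nat.card ↥(A ⊔ B) = Nat.card A * Nat.card B := by
  have h1 := MonoidHom.noncommCoprod_range A.subtype B.subtype
    (fun a b => hc a a.2 b b.2)
  rw [A.range_subtype, B.range_subtype] at h1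
  rw [← h1, ← Nat.card_prod]
  apply Nat.card_congr
  symm
  apply (MonoidHom.ofInjective _).toEquiv
  rw [injective_iff_map_eq_one]
  rintro ⟨a, b⟩ hab
  have h2 : (a : G) * b = 1 := hab
  have h3 : (a : G) ∈ A ⊓ B := ⟨a.2, by
    rw [eq_inv_of_mul_eq_one_left h2]; exact B.inv_mem b.2⟩
  rw [hd, mem_bot] at h3
  have h4 : (b : G) = 1 := by rwa [h3, one_mul] at h2
  exact Prod.ext (Subtype.ext h3) (Subtype.ext h4)

/-- relative version of `ce4`, modulo a central cyclic subgroup of odd order -/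
theorem ce4_rel {H : Type*} [Group H] [Finite H] (x : H) (hx : ∀ g : H, g * x = x * g)
    (hodd : Odd (orderOf x)) (E : Subgroup H) (hE : Nat.card E = 4) (hel : ∀ u ∈ E, u * u = 1)
    (h : ∀ u ∈ E, u ≠ 1 → ∀ g : H, g * u = u * g → g ∈ E ⊔ zpowers x) [(zpowers x).Normal] :
    Nat.card H = 4 * orderOf x ∨ Nat.card H = 12 * orderOf x ∨
      (Nat.card H = 60 * orderOf x ∧ Nonempty (H ⧸ zpowers x ≃* alternatingGroup (Fin 5))) := by
  set U : Subgroup (H ⧸ zpowers x) := E.map (QuotientGroup.mk' (zpowers x)) with hUdef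
  have hEx : ∀ e ∈ E, e ∈ zpowers x → e = 1 := by
    intro e he hex
    have h1 : orderOf e ∣ 2 := orderOf_dvd_of_pow_eq_one (by rw [pow_two]; exact hel e he)
    have h2 : orderOf e ∣ orderOf x := by
      rw [← Nat.card_zpowers x]
      exact Subgroup.orderOf_dvd_natCard _ hex
    have h3 : orderOf e ∣ 1 := by
      have h4 : Nat.Coprime 2 (orderOf x) := by
        rw [Nat.coprime_two_left]; exact hodd
      rw [← h4.gcd_eq_one]
      exact Nat.dvd_gcd h1 h2
    exact orderOf_eq_one_iff.1 (Nat.dvd_one.1 h3)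
  have hUcard : Nat.card U = 4 := by
    rw [← hE]
    have hinj : Function.Injective ((QuotientGroup.mk' (zpowers x)).domRestrict E) := by
      rw [injective_iff_map_eq_one]
      intro e he
      have h1 : QuotientGroup.mk' (zpowers x) (e : H) = 1 := he
      rw [← MonoidHom.mem_ker, QuotientGroup.ker_mk'] at h1
      exact Subtype.ext (hEx e e.2 h1)
    symm
    apply Nat.card_congr
    refine Equiv.ofBijective (fun e : E => (⟨QuotientGroup.mk' (zpowers x) e, ⟨e, e.2, rfl⟩⟩ : U)) ⟨?_, ?_⟩
    · intro a b hab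
      exact hinj (congrArg Subtype.val hab)
    · rintro ⟨_, e, he, rfl⟩
      exact ⟨⟨e, he⟩, rfl⟩
  have hUel : ∀ u ∈ U, u * u = 1 := by
    rintro _ ⟨e, he, rfl⟩
    rw [← map_mul, hel e he, map_one]
  have hUh : ∀ u ∈ U, u ≠ 1 → ∀ g : H ⧸ zpowers x, g * u = u * g → g ∈ U := by
    rintro _ ⟨e, he, rfl⟩ hne g hg
    obtain ⟨g, rfl⟩ := QuotientGroup.mk'_surjective (zpowers x) g
    have he1 : e ≠ 1 := by rintro rfl; exact hne (map_one _)
    have h1 : QuotientGroup.mk' (zpowers x) (e⁻¹ * (g * e * g⁻¹)) = 1 := by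
      rw [map_mul, map_mul, map_mul, hg, map_inv, map_inv]; group
    rw [← MonoidHom.mem_ker, QuotientGroup.ker_mk'] at h1
    obtain ⟨k, hk⟩ := Subgroup.mem_zpowers_iff.1 h1
    have hxe : x ^ k * e = e * x ^ k := by
      have : Commute x e := (hx e).symm
      exact (this.zpow_left k)
    have h2 : g * e * g⁻¹ = e * x ^ k := by rw [hk]; group
    have h3 : (e * x ^ k) * (e * x ^ k) = 1 := by
      rw [← h2]
      calc g * e * g⁻¹ * (g * e * g⁻¹) = g * (e * e) * g⁻¹ := by group
        _ = 1 := by rw [hel e he]; group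
    have h4 : x ^ k * x ^ k = 1 := by
      calc x ^ k * x ^ k = (e * e) * (x ^ k * x ^ k) := by rw [hel e he, one_mul]
        _ = e * (e * x ^ k) * x ^ k := by group
        _ = e * (x ^ k * e) * x ^ k := by rw [hxe]
        _ = (e * x ^ k) * (e * x ^ k) := by group
        _ = 1 := h3
    have h5 : x ^ k = 1 := by
      have h6 : orderOf (x ^ k) ∣ 2 := orderOf_dvd_of_pow_eq_one (by rw [pow_two]; exact h4)
      have h7 : orderOf (x ^ k) ∣ orderOf x := orderOf_dvd_of_mem_zpowers (Subgroup.zpow_mem_zpowers x k)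
      have h8 : Nat.Coprime 2 (orderOf x) := by rw [Nat.coprime_two_left]; exact hodd
      have h9 : orderOf (x ^ k) ∣ 1 := by
        rw [← h8.gcd_eq_one]; exact Nat.dvd_gcd h6 h7
      exact orderOf_eq_one_iff.1 (Nat.dvd_one.1 h9)
    rw [h5, mul_one] at h2
    have h6 : g * e = e * g := by
      calc g * e = (g * e * g⁻¹) * g := by group
        _ = e * g := by rw [h2]
    have h7 := h e he he1 g h6
    have h8 : E ⊔ zpowers x ≤ U.comap (QuotientGroup.mk' (zpowers x)) := by
      apply sup_le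
      · rw [← Subgroup.map_le_iff_le_comap]
      · rw [Subgroup.zpowers_le, Subgroup.mem_comap]
        have : QuotientGroup.mk' (zpowers x) x = 1 := by
          rw [← MonoidHom.mem_ker, QuotientGroup.ker_mk']; exact Subgroup.mem_zpowers x
        rw [this]; exact U.one_mem
    exact h8 h7
  have hcard : Nat.card H = Nat.card (H ⧸ zpowers x) * orderOf x := by
    rw [Subgroup.card_eq_card_quotient_mul_card_subgroup (zpowers x), Nat.card_zpowers]
  rcases ce4 hUcard hUel hUh with h1 | h1 | h1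
  · left
    rw [hcard, ← hUcard, h1, Subgroup.card_top]
  · right; left
    rw [hcard, h1.1]
  · right; right
    refine ⟨?_, h1⟩
    rw [hcard, A5.card h1]

/-- `x` as an element of its centralizer. -/
def selfC (x : G) : ↥(centralizer ({x} : Set G)) := ⟨x, mem_centralizer_singleton_iff.2 rfl⟩

theorem selfC_central (x : G) (g : ↥(centralizer ({x} : Set G))) : g * selfC x = selfC x * g :=
  Subtype.ext (mem_centralizer_singleton_iff.1 g.2)

instance zpowers_selfC_normal (x : G) : (zpowers (selfC x)).Normal := by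
  constructor
  intro n hn g
  obtain ⟨k, rfl⟩ := Subgroup.mem_zpowers_iff.1 hn
  have h1 : Commute g (selfC x) := selfC_central x g
  have h2 : g * selfC x ^ k * g⁻¹ = selfC x ^ k := by
    rw [(h1.zpow_right k).eq]; group
  rw [h2]
  exact Subgroup.zpow_mem_zpowers _ _

theorem orderOf_selfC (x : G) : orderOf (selfC x) = orderOf x := by
  rw [← Subgroup.orderOf_coe]; rfl

end general

section j2
variable {G : Type*} [Group G] [Finite G] {z t : G} {E L K : Subgroup G} (h : J2Loc z t E L K)
include h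

omit [Finite G] in
theorem J2Loc.commE {e l : G} (he : e ∈ E) (hl : l ∈ L) : e * l = l * e := h.comm e (h.hEK he) l hl

theorem J2Loc.cent_L {x : G} (hx : x ∈ L) (hp : orderOf x = 3 ∨ orderOf x = 5) :
    Nat.card (centralizer ({x} : Set G)) = 12 * orderOf x ∨
    (Nat.card (centralizer ({x} : Set G)) = 60 * orderOf x ∧
      Nonempty (↥(centralizer ({x} : Set G)) ⧸ zpowers (selfC x) ≃* alternatingGroup (Fin 5))) := by
  classical
  have hKC : K ≤ centralizer ({x} : Set G) := fun k hk =>
    mem_centralizer_singleton_iff.2 (h.comm k hk x hx)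
  have hEC : E ≤ centralizer ({x} : Set G) := h.hEK.trans hKC
  have hodd : Odd (orderOf x) := by rcases hp with hp | hp <;> rw [hp] <;> decide
  have key := ce4_rel (selfC x) (selfC_central x) (by rw [orderOf_selfC]; exact hodd)
    (E.subgroupOf (centralizer ({x} : Set G)))
    (by rw [Nat.card_congr (Subgroup.subgroupOfEquivOfLe hEC).toEquiv, h.cardE])
    (by
      intro u hu
      exact Subtype.ext (h.Esq _ hu))
    (by
      intro u hu hu1 g hg
      have hu' : (u : G) ∈ E := hu
      have hu1' : (u : G) ≠ 1 := fun h1 => hu1 (Subtype.ext h1)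
      have h1 : (g : G) ∈ centralizer ({(u : G)} : Set G) :=
        mem_centralizer_singleton_iff.2 (congrArg Subtype.val hg)
      rw [h.hCE _ hu' hu1', mem_sup_comm (fun a ha b hb => h.commE ha hb)] at h1
      obtain ⟨a, ha, l, hl, hal⟩ := h1
      have hgx := mem_centralizer_singleton_iff.1 g.2
      have hax : a * x = x * a := h.commE ha hx
      have hlx : l * x = x * l := by
        have h2 : a * l * x = x * (a * l) := by rw [hal]; exact hgx
        have h3 : a * (l * x) = a * (x * l) := by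
          rw [← mul_assoc, h2, ← mul_assoc, ← hax, mul_assoc]
        exact mul_left_cancel h3
      have hlz : (⟨l, hl⟩ : L) ∈ zpowers (⟨x, hx⟩ : L) := by
        rcases hp with hp | hp
        · exact A5.three_cent h.eL (by rw [← hp]; exact Subgroup.orderOf_mk x hx) (Subtype.ext hlx)
        · exact A5.five_cent h.eL (by rw [← hp]; exact Subgroup.orderOf_mk x hx) (Subtype.ext hlx)
      obtain ⟨k, hk⟩ := Subgroup.mem_zpowers_iff.1 hlz
      have hk' : x ^ k = l := congrArg Subtype.val hk
      have h4 : g = ⟨a, hEC ha⟩ * (selfC x) ^ k := by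
        apply Subtype.ext
        change (g : G) = a * x ^ k
        rw [hk', hal]
      rw [h4]
      exact Subgroup.mul_mem_sup (show (⟨a, hEC ha⟩ : ↥(centralizer ({x} : Set G))) ∈ _ from ha)
        (Subgroup.zpow_mem_zpowers _ _))
  rw [orderOf_selfC] at key
  rcases key with h1 | h1 | h1
  · exfalso
    have h2 : K ⊔ zpowers x ≤ centralizer ({x} : Set G) := by
      apply sup_le hKC
      rw [Subgroup.zpowers_le]
      exact mem_centralizer_singleton_iff.2 rfl
    have h3 : Nat.card ↥(K ⊔ zpowers x) = 12 * orderOf x := by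
      rw [card_sup_comm, A4.card h.eK, Nat.card_zpowers]
      · intro a ha b hb
        exact h.comm a ha b ((Subgroup.zpowers_le.2 hx) hb)
      · rw [eq_bot_iff, ← h.disj]
        exact inf_le_inf_left K (Subgroup.zpowers_le.2 hx)
    have h4 := Subgroup.card_dvd_of_le h2
    rw [h3, h1] at h4
    rcases hp with hp | hp <;> rw [hp] at h4 <;> omega
  · exact Or.inl h1
  · exact Or.inr h1

omit [Finite G] in
/-- in the normalizer of `⟨x⟩`, `x ∈ L`, every element centralizes or inverts `x`. -/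
theorem J2Loc.NE_conj {x g : G} (hx : x ∈ L) (hp : orderOf x = 3 ∨ orderOf x = 5)
    (hg : g ∈ normalizer (E : Set G)) (hgx : g * x * g⁻¹ ∈ zpowers x) :
    g * x * g⁻¹ = x ∨ g * x * g⁻¹ = x⁻¹ := by
  rw [h.hNE, mem_sup_comm h.comm] at hg
  obtain ⟨k, hk, l, hl, rfl⟩ := hg
  have h1 : k * l * x * (k * l)⁻¹ = l * x * l⁻¹ := by
    have h2 := h.comm k hk (l * x * l⁻¹) (L.mul_mem (L.mul_mem hl hx) (L.inv_mem hl))
    calc k * l * x * (k * l)⁻¹ = k * (l * x * l⁻¹) * k⁻¹ := by group
      _ = l * x * l⁻¹ * k * k⁻¹ := by rw [h2]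
      _ = l * x * l⁻¹ := by group
  rw [h1] at hgx ⊢
  rcases hp with hp | hp
  · obtain ⟨n, hn⟩ := Subgroup.mem_zpowers_iff.1 hgx
    have h3 : x ^ 3 = 1 := by rw [← hp]; exact pow_orderOf_eq_one x
    have hmod : l * x * l⁻¹ = x ^ (n % 3).toNat := by
      rw [← hn, ← zpow_natCast, Int.toNat_of_nonneg (Int.emod_nonneg n (by norm_num))]
      have := zpow_mod_orderOf x n
      rw [hp] at this
      exact this.symm
    have hlt : (n % 3).toNat < 3 := by omega
    have hx1 : x ≠ 1 := by rintro rfl; rw [orderOf_one] at hp; omega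
    have hne : l * x * l⁻¹ ≠ 1 := by
      intro hh; apply hx1; rwa [mul_inv_eq_one, mul_eq_left] at hh
    generalize (n % 3).toNat = m at hmod hlt
    interval_cases m
    · exact absurd (by rw [hmod, pow_zero]) hne
    · left; rw [hmod, pow_one]
    · right; rw [hmod]
      apply eq_inv_of_mul_eq_one_left
      rw [← pow_succ, h3]
  · have h5 : (⟨l, hl⟩ : L) * ⟨x, hx⟩ * (⟨l, hl⟩ : L)⁻¹ ∈ zpowers (⟨x, hx⟩ : L) := by
      obtain ⟨n, hn⟩ := Subgroup.mem_zpowers_iff.1 hgx
      exact Subgroup.mem_zpowers_iff.2 ⟨n, Subtype.ext hn⟩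
    rcases A5.five_norm h.eL (by rw [← hp]; exact Subgroup.orderOf_mk x hx) h5 with h6 | h6
    · left; exact congrArg Subtype.val h6
    · right; exact congrArg Subtype.val h6

end j2

end Cfsg.Agent.LE
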