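import Cfsg.Agent.LE.J2Pts

/-!
Signed permutations induced by `C_G(z)` on the five points (owner: helper58).
-/
set_option autoImplicit false

namespace Cfsg.Agent.LE

open Subgroup Cfsg.Agent.H90

variable {G : Type*} [Group G] {Q : Subgroup G} {z : G} {x : Fin 5 → G}

/-- power of `z` with exponent in `ZMod 2` -/
def zp (z : G) (a : ZMod 2) : G := z ^ a.val

theorem zp_zero : zp z 0 = 1 := by simp [zp]

theorem zp_one : zp z 1 = z := by
  have : (1 : ZMod 2).val = 1 := rfl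
  simp [zp, this]

theorem zp_cases (a : ZMod 2) : (a = 0 ∧ zp z a = 1) ∨ (a = 1 ∧ zp z a = z) := by
  fin_cases a
  · left; exact ⟨rfl, zp_zero⟩
  · right; exact ⟨rfl, zp_one⟩

theorem zp_add (h : XS Q z) (a b : ZMod 2) : zp z (a + b) = zp z a * zp z b := (h.pw a b).symm

theorem zp_inj (h : XS Q z) {a b : ZMod 2} (hab : zp z a = zp z b) : a = b := h.pw_inj hab

theorem zp_comm {c : G} (hc : c * z = z * c) (a : ZMod 2) : c * zp z a = zp z a * c := by
  unfold zp
  exact (show Commute c z from hc).pow_right _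

theorem zp_mem (h : XS Q z) (a : ZMod 2) : zp z a ∈ Q := Q.pow_mem h.mem _

theorem zp_self (h : XS Q z) (a : ZMod 2) : zp z a * zp z a = 1 := by
  rw [← zp_add h, CharTwo.add_self_eq_zero, zp_zero]

theorem zp_inv (h : XS Q z) (a : ZMod 2) : (zp z a)⁻¹ = zp z a :=
  inv_eq_of_mul_eq_one_left (zp_self h a)

theorem zp_zp (h : XS Q z) (a : ZMod 2) (w : G) : zp z a * (zp z a * w) = w := by
  rw [← mul_assoc, zp_self h, one_mul]

/-- `c` induces the signed permutation `(σ, s)` on the points `x i`. -/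
def Act (z : G) (x : Fin 5 → G) (c : G) (σ : Equiv.Perm (Fin 5)) (s : Fin 5 → ZMod 2) : Prop :=
  ∀ i, c * x i * c⁻¹ = zp z (s i) * x (σ i)

section

variable (h : PL Q z) (hx : Pts Q z x)

include h hx
set_option linter.unusedSectionVars false

theorem Pts.comm_z (i : Fin 5) : x i * z = z * x i := h.central _ (hx.mem i)

theorem Pts.inv (i : Fin 5) : (x i)⁻¹ = x i := inv_eq_of_mul_eq_one_left (hx.sq i)

theorem Pts.ne (a : ZMod 2) {i j : Fin 5} (hij : i ≠ j) : x i ≠ zp z a * x j := by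
  intro h1
  have h2 := hx.anti i j hij
  have h3 : x i * x j = x j * x i := by
    rw [h1, mul_assoc, ← mul_assoc (x j), zp_comm (hx.comm_z h j), mul_assoc]
  rw [h3] at h2
  exact h.ne_one (by simpa using h2.symm)

theorem Pts.eq_of {a b : ZMod 2} {i j : Fin 5} (hij : zp z a * x i = zp z b * x j) : i = j ∧ a = b := by
  by_cases hi : i = j
  · subst hi
    exact ⟨rfl, zp_inj h.toXS (mul_right_cancel hij)⟩
  · exfalso
    apply hx.ne h (a + b) hi
    rw [zp_add h.toXS, mul_assoc, ← hij, zp_zp h.toXS]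

theorem Pts.ne_zp (a : ZMod 2) (i : Fin 5) : x i ≠ zp z a := by
  intro h1
  have h3 : ∀ i : Fin 5, i ≠ i + 1 := by decide
  have h2 := hx.anti i (i + 1) (h3 i)
  rw [h1, zp_comm (hx.comm_z h (i + 1))] at h2
  exact h.ne_one (by simpa using h2.symm)

theorem Pts.two_ne_zp (a : ZMod 2) {i j : Fin 5} (hij : i ≠ j) : x i * x j ≠ zp z a := by
  intro h1
  apply hx.ne h a hij
  rw [← h1, mul_assoc, hx.sq, mul_one]

theorem act_unique {c : G} {σ τ : Equiv.Perm (Fin 5)} {s t : Fin 5 → ZMod 2} (h1 : Act z x c σ s)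
    (h2 : Act z x c τ t) : σ = τ ∧ s = t := by
  have h3 : ∀ i, σ i = τ i ∧ s i = t i := fun i =>
    hx.eq_of h (by rw [← h1 i, ← h2 i])
  exact ⟨Equiv.ext fun i => (h3 i).1, funext fun i => (h3 i).2⟩

omit hx in
theorem act_one : Act z x 1 1 0 := by
  intro i
  simp [zp_zero]

omit hx in
theorem act_mul {c d : G} (hc : c * z = z * c) {σ τ : Equiv.Perm (Fin 5)} {s t : Fin 5 → ZMod 2}
    (h1 : Act z x c σ s) (h2 : Act z x d τ t) :
    Act z x (c * d) (σ * τ) (fun i => t i + s (τ i)) := by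
  intro i
  have e : c * d * x i * (c * d)⁻¹ = c * (d * x i * d⁻¹) * c⁻¹ := by group
  rw [e, h2 i]
  have e2 : c * (zp z (t i) * x (τ i)) * c⁻¹ = (c * zp z (t i)) * x (τ i) * c⁻¹ := by group
  rw [e2, zp_comm hc]
  have e3 : zp z (t i) * c * x (τ i) * c⁻¹ = zp z (t i) * (c * x (τ i) * c⁻¹) := by group
  rw [e3, h1 (τ i), ← mul_assoc, ← zp_add h.toXS]
  rfl

omit hx in
theorem act_inv {c : G} (hc : c * z = z * c) {σ : Equiv.Perm (Fin 5)} {s : Fin 5 → ZMod 2}
    (h1 : Act z x c σ s) : Act z x c⁻¹ σ⁻¹ (fun i => s (σ⁻¹ i)) := by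
  intro i
  have e := h1 (σ⁻¹ i)
  rw [show σ (σ⁻¹ i) = i by simp] at e
  have e2 : x i = zp z (s (σ⁻¹ i)) * (c * x (σ⁻¹ i) * c⁻¹) := by
    rw [e, zp_zp h.toXS]
  have hc' : c⁻¹ * z = z * c⁻¹ := by
    rw [inv_mul_eq_iff_eq_mul, ← mul_assoc, hc]; group
  rw [e2, inv_inv]
  calc c⁻¹ * (zp z (s (σ⁻¹ i)) * (c * x (σ⁻¹ i) * c⁻¹)) * c
      = (c⁻¹ * zp z (s (σ⁻¹ i))) * c * x (σ⁻¹ i) := by group
    _ = zp z (s (σ⁻¹ i)) * x (σ⁻¹ i) := by rw [zp_comm hc']; group

theorem act_self (i : Fin 5) : Act z x (x i) 1 (fun j => if j = i then 0 else 1) := by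
  intro j
  rw [mul_inv_eq_iff_eq_mul, Equiv.Perm.coe_one, id]
  by_cases hj : j = i
  · subst hj
    simp [zp_zero]
  · simp only [if_neg hj]
    rw [zp_one, mul_assoc]
    exact hx.anti i j (fun hij => hj hij.symm)

omit hx in
theorem act_zp (a : ZMod 2) (hxz : ∀ i, x i * z = z * x i) : Act z x (zp z a) 1 0 := by
  intro i
  rw [mul_inv_eq_iff_eq_mul]
  simp only [Pi.zero_apply, zp_zero, one_mul, Equiv.Perm.coe_one, id]
  exact (zp_comm (hxz i) a).symm

theorem act_pair {i j : Fin 5} (hij : i ≠ j) :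
    Act z x (x i * x j) 1 (fun k => if k = i ∨ k = j then 1 else 0) := by
  have := act_mul h (hx.comm_z h i) (act_self h hx i) (act_self h hx j)
  intro k
  rw [this k]
  simp only [mul_one, Equiv.Perm.coe_one, id]
  congr 2
  by_cases h1 : k = i
  · subst h1
    rw [if_neg hij]
    simp
  · by_cases h2 : k = j
    · subst h2; simp [h1]
    · simp only [h1, h2, if_false, or_self]; rfl

/-- the product of the points -/
theorem prod_mem : ∃ a : ZMod 2, x 0 * (x 1 * (x 2 * (x 3 * x 4))) = zp z a := by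
  rcases hx.prod with h1 | h1
  · exact ⟨0, by rw [h1, zp_zero]⟩
  · exact ⟨1, by rw [h1, zp_one]⟩

omit hx in
theorem zp_mul_zp_aux (hxz : ∀ i, x i * z = z * x i) (a b : ZMod 2) (i : Fin 5) (w : G) :
    zp z a * x i * (zp z b * w) = zp z (a + b) * (x i * w) := by
  rw [zp_add h.toXS, mul_assoc, ← mul_assoc (x i), zp_comm (hxz i)]
  simp only [mul_assoc]

/-- effect of conjugation on the product of the five points -/
theorem act_prod {c : G} {σ : Equiv.Perm (Fin 5)} {s : Fin 5 → ZMod 2} (h1 : Act z x c σ s) :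
    c * (x 0 * (x 1 * (x 2 * (x 3 * x 4)))) * c⁻¹ =
      zp z (∑ i, s i) * (x (σ 0) * (x (σ 1) * (x (σ 2) * (x (σ 3) * x (σ 4))))) := by
  have hxz := hx.comm_z h
  have e : c * (x 0 * (x 1 * (x 2 * (x 3 * x 4)))) * c⁻¹ = (c * x 0 * c⁻¹) * ((c * x 1 * c⁻¹) *
      ((c * x 2 * c⁻¹) * ((c * x 3 * c⁻¹) * (c * x 4 * c⁻¹)))) := by group
  rw [e, h1, h1, h1, h1, h1]
  have k3 : zp z (s 3) * x (σ 3) * (zp z (s 4) * x (σ 4)) = zp z (s 3 + s 4) * (x (σ 3) * x (σ 4)) :=
    zp_mul_zp_aux h hxz _ _ _ _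
  rw [k3, zp_mul_zp_aux h hxz, zp_mul_zp_aux h hxz, zp_mul_zp_aux h hxz]
  congr 2
  simp only [Fin.sum_univ_succ, Fin.sum_univ_zero]
  simp only [add_zero]
  rfl

/-- a permutation of the points changes the product by its sign -/
theorem perm_prod (σ : Equiv.Perm (Fin 5)) :
    x (σ 0) * (x (σ 1) * (x (σ 2) * (x (σ 3) * x (σ 4)))) =
      zp z (if Equiv.Perm.sign σ = 1 then 0 else 1) * (x 0 * (x 1 * (x 2 * (x 3 * x 4)))) := by
  have hxz := hx.comm_z h
  have hσ : σ ∈ Submonoid.closure (Set.range fun i : Fin 4 => Equiv.swap i.castSucc i.succ) := by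
    rw [Equiv.Perm.mclosure_swap_castSucc_succ]; trivial
  induction hσ using Submonoid.closure_induction_right with
  | one => simp [zp_zero]
  | mul_right σ _ τ hτ ih =>
    obtain ⟨i, rfl⟩ := hτ
    have hne : (i.castSucc : Fin 5) ≠ i.succ := by
      intro h2; revert h2; revert i; decide
    have hsg : Equiv.Perm.sign (σ * Equiv.swap i.castSucc i.succ) = - Equiv.Perm.sign σ := by
      rw [Equiv.Perm.sign_mul, Equiv.Perm.sign_swap hne]; simp
    have key : x ((σ * Equiv.swap i.castSucc i.succ) 0) * (x ((σ * Equiv.swap i.castSucc i.succ) 1) *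
        (x ((σ * Equiv.swap i.castSucc i.succ) 2) * (x ((σ * Equiv.swap i.castSucc i.succ) 3) *
          x ((σ * Equiv.swap i.castSucc i.succ) 4)))) =
        z * (x (σ 0) * (x (σ 1) * (x (σ 2) * (x (σ 3) * x (σ 4))))) := by
      have an : ∀ a b : Fin 5, a ≠ b → x (σ a) * x (σ b) = z * (x (σ b) * x (σ a)) := fun a b hab =>
        hx.anti _ _ (fun hh => hab (σ.injective hh))
      have an' : ∀ a b : Fin 5, a ≠ b → ∀ w, x (σ a) * (x (σ b) * w) = z * (x (σ b) * (x (σ a) * w)) := by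
        intro a b hab w
        rw [← mul_assoc, an a b hab]; simp only [mul_assoc]
      have cz : ∀ a w, x a * (z * w) = z * (x a * w) := fun a w => by
        rw [← mul_assoc, hxz, mul_assoc]
      simp only [Equiv.Perm.mul_apply]
      fin_cases i
      · have e0 : Equiv.swap (Fin.castSucc (0 : Fin 4)) (Fin.succ 0) 0 = (1 : Fin 5) := by decide
        have e1 : Equiv.swap (Fin.castSucc (0 : Fin 4)) (Fin.succ 0) 1 = (0 : Fin 5) := by decide
        have e2 : Equiv.swap (Fin.castSucc (0 : Fin 4)) (Fin.succ 0) 2 = (2 : Fin 5) := by decide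
        have e3 : Equiv.swap (Fin.castSucc (0 : Fin 4)) (Fin.succ 0) 3 = (3 : Fin 5) := by decide
        have e4 : Equiv.swap (Fin.castSucc (0 : Fin 4)) (Fin.succ 0) 4 = (4 : Fin 5) := by decide
        simp only [Fin.zero_eta, e0, e1, e2, e3, e4]
        exact an' 1 0 (by decide) _
      · have e0 : Equiv.swap (Fin.castSucc (1 : Fin 4)) (Fin.succ 1) 0 = (0 : Fin 5) := by decide
        have e1 : Equiv.swap (Fin.castSucc (1 : Fin 4)) (Fin.succ 1) 1 = (2 : Fin 5) := by decide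
        have e2 : Equiv.swap (Fin.castSucc (1 : Fin 4)) (Fin.succ 1) 2 = (1 : Fin 5) := by decide
        have e3 : Equiv.swap (Fin.castSucc (1 : Fin 4)) (Fin.succ 1) 3 = (3 : Fin 5) := by decide
        have e4 : Equiv.swap (Fin.castSucc (1 : Fin 4)) (Fin.succ 1) 4 = (4 : Fin 5) := by decide
        simp only [Fin.mk_one, e0, e1, e2, e3, e4]
        rw [an' 2 1 (by decide), cz]
      · have e0 : Equiv.swap (Fin.castSucc (2 : Fin 4)) (Fin.succ 2) 0 = (0 : Fin 5) := by decide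
        have e1 : Equiv.swap (Fin.castSucc (2 : Fin 4)) (Fin.succ 2) 1 = (1 : Fin 5) := by decide
        have e2 : Equiv.swap (Fin.castSucc (2 : Fin 4)) (Fin.succ 2) 2 = (3 : Fin 5) := by decide
        have e3 : Equiv.swap (Fin.castSucc (2 : Fin 4)) (Fin.succ 2) 3 = (2 : Fin 5) := by decide
        have e4 : Equiv.swap (Fin.castSucc (2 : Fin 4)) (Fin.succ 2) 4 = (4 : Fin 5) := by decide
        simp only [Fin.reduceFinMk, e0, e1, e2, e3, e4]
        rw [an' 3 2 (by decide), cz, cz]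
      · have e0 : Equiv.swap (Fin.castSucc (3 : Fin 4)) (Fin.succ 3) 0 = (0 : Fin 5) := by decide
        have e1 : Equiv.swap (Fin.castSucc (3 : Fin 4)) (Fin.succ 3) 1 = (1 : Fin 5) := by decide
        have e2 : Equiv.swap (Fin.castSucc (3 : Fin 4)) (Fin.succ 3) 2 = (2 : Fin 5) := by decide
        have e3 : Equiv.swap (Fin.castSucc (3 : Fin 4)) (Fin.succ 3) 3 = (4 : Fin 5) := by decide
        have e4 : Equiv.swap (Fin.castSucc (3 : Fin 4)) (Fin.succ 3) 4 = (3 : Fin 5) := by decide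
        simp only [Fin.reduceFinMk, e0, e1, e2, e3, e4]
        rw [an 4 3 (by decide), cz, cz, cz]
    rw [key, ih, hsg, ← mul_assoc]
    congr 1
    have hs := Int.units_eq_one_or (Equiv.Perm.sign σ)
    rcases hs with hs | hs
    · rw [hs]; simp [zp_zero, zp_one]
    · rw [hs]; simp [zp_zero, zp_one, h.sq]

/-- the sign condition for elements of `C_G(z)` -/
theorem act_sum {c : G} (hc : c * z = z * c) {σ : Equiv.Perm (Fin 5)} {s : Fin 5 → ZMod 2}
    (h1 : Act z x c σ s) : ∑ i, s i = if Equiv.Perm.sign σ = 1 then 0 else 1 := by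
  have e := act_prod h hx h1
  rw [perm_prod h hx σ] at e
  obtain ⟨a, ha⟩ := prod_mem h hx
  rw [ha, zp_comm hc, mul_assoc, mul_inv_cancel, mul_one, ← zp_add h.toXS, ← zp_add h.toXS] at e
  have e2 := zp_inj h.toXS e
  have key : ∀ a b d : ZMod 2, a = d + (b + a) → d = b := by decide
  exact key _ _ _ e2

end

/-- even vectors -/
theorem even_cases : ∀ s : Fin 5 → ZMod 2, ∑ i, s i = 0 → s = 0 ∨
    (∃ i, s = fun j => if j = i then 0 else 1) ∨
      ∃ i j, i ≠ j ∧ s = fun k => if k = i ∨ k = j then 1 else 0 := by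
  decide

end Cfsg.Agent.LE
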