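import Cfsg.Agent.LE.J2K
import Cfsg.Agent.LE.OmFive
import Cfsg.Agent.H90.Setting
import Cfsg.Agent.H49.Core

/-!
From the hypotheses of the large-extraspecial form of Hall–Janko type to `J2Loc` (owner: helper58).
-/
set_option autoImplicit false

namespace Cfsg.Agent.LE

open Subgroup Cfsg.Agent.H90
open scoped commutatorElement

variable {G : Type*} [Group G] [Finite G]

theorem exists_base (z : G) (hz : orderOf z = 2) (Q : Subgroup (Subgroup.centralizer ({z} : Set G)))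
    [Q.Normal] (hF : Cfsg.generalizedFittingSubgroup (Subgroup.centralizer ({z} : Set G)) = Q)
    (hQ : Cfsg.IsExtraspecial 2 Q) (hcard : Nat.card Q = 2 ^ 5)
    (e : (Subgroup.centralizer ({z} : Set G)) ⧸ Q ≃* Cfsg.Omega (ZMod 2) (Cfsg.quadFormMinus 1 (ZMod 2) 1 1))
    (hnwc : ∃ g : G, (∃ hq : g * z * g⁻¹ ∈ Subgroup.centralizer ({z} : Set G),
      (⟨g * z * g⁻¹, hq⟩ : Subgroup.centralizer ({z} : Set G)) ∈ Q) ∧ g * z * g⁻¹ ≠ z) :
    ∃ x : Fin 5 → G, Base (Q.map (centralizer ({z} : Set G)).subtype) z x ∧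
      ∃ g : G, g * z * g⁻¹ ∈ Q.map (centralizer ({z} : Set G)).subtype ∧ g * z * g⁻¹ ≠ z := by
  have hset : Cfsg.IsExtraspecialCentralizerSetting z Q 2 := ⟨hz, hF, hQ, hcard, hnwc⟩
  have pl := pl_of_setting hset
  have cardQ : Nat.card ↥(Q.map (centralizer ({z} : Set G)).subtype) = 32 := by
    rw [card_of_setting hset]
    norm_num
  have cardC : Nat.card (centralizer ({z} : Set G)) = 1920 := by
    rw [Subgroup.card_eq_card_quotient_mul_card_subgroup Q, Nat.card_congr e.toEquiv, OmFive.omega_card,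
      hcard]
    norm_num
  obtain ⟨g, ⟨hq, hqQ⟩, hne⟩ := hnwc
  have hmem : g * z * g⁻¹ ∈ Q.map (centralizer ({z} : Set G)).subtype := ⟨_, hqQ, rfl⟩
  have : Fact (Nat.Prime 5) := ⟨by norm_num⟩
  obtain ⟨f, hf⟩ := exists_prime_orderOf_dvd_card' (G := centralizer ({z} : Set G)) 5
    (by rw [cardC]; norm_num)
  have hf5 : (f : G) ^ 5 = 1 := by
    rw [← hf, ← Subgroup.orderOf_coe, pow_orderOf_eq_one]
  have hf1 : (f : G) ≠ 1 := by
    intro h
    rw [← Subgroup.orderOf_coe, h, orderOf_one] at hf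
    omega
  obtain ⟨x, hx, _⟩ := exists_pts pl cardQ hf5 hf1 (mem_cent.mp f.2) hmem (conj_ne_one pl.ne_one) hne
    (conj_sq pl.sq)
  exact ⟨x, ⟨pl, hx, cardQ, cardC⟩, g, hmem, hne⟩

theorem Base.j2set {Q : Subgroup G} {z : G} {x : Fin 5 → G} (B : Base Q z x)
    (nwc : ∃ g, g * z * g⁻¹ ∈ Q ∧ g * z * g⁻¹ ≠ z) {t : G} (ht : orderOf t = 2) (htz : ¬ IsConj t z) :
    ∃ g, J2Set Q z x (g * t * g⁻¹) := by
  have htt : t * t = 1 := by rw [← pow_two, ← ht, pow_orderOf_eq_one]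
  have ht1 : t ≠ 1 := by rintro rfl; simp at ht
  obtain ⟨g, hg⟩ := exists_conj_centralizer B htt
  have hnc : ¬ IsConj (g * t * g⁻¹) z := fun h => htz ((isConj_iff.mpr ⟨g, rfl⟩ : IsConj t _).trans h)
  refine ⟨g, B, nwc, hg, ?_, conj_sq htt, hnc⟩
  intro hQ
  obtain ⟨k, hk1, hk2⟩ := nwc
  obtain ⟨c, _, hc⟩ := B.conj_Q hk1 (conj_ne_one B.pl.ne_one) hk2 (conj_sq B.pl.sq) hQ (conj_ne_one ht1)
    (fun h => hnc (by rw [h])) (conj_sq htt)
  apply hnc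
  refine IsConj.symm ?_
  rw [isConj_iff]
  exact ⟨c * k, by rw [← hc]; group⟩

theorem exists_j2Loc (z : G) (hz : orderOf z = 2) (Q : Subgroup (Subgroup.centralizer ({z} : Set G)))
    [Q.Normal] (hF : Cfsg.generalizedFittingSubgroup (Subgroup.centralizer ({z} : Set G)) = Q)
    (hQ : Cfsg.IsExtraspecial 2 Q) (hcard : Nat.card Q = 2 ^ 5)
    (e : (Subgroup.centralizer ({z} : Set G)) ⧸ Q ≃* Cfsg.Omega (ZMod 2) (Cfsg.quadFormMinus 1 (ZMod 2) 1 1))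
    (hnwc : ∃ g : G, (∃ hq : g * z * g⁻¹ ∈ Subgroup.centralizer ({z} : Set G),
      (⟨g * z * g⁻¹, hq⟩ : Subgroup.centralizer ({z} : Set G)) ∈ Q) ∧ g * z * g⁻¹ ≠ z)
    {t : G} (ht : orderOf t = 2) (htz : ¬ IsConj t z) :
    ∃ (g : G) (E L K : Subgroup G), J2Loc z (g * t * g⁻¹) E L K := by
  obtain ⟨x, B, nwc⟩ := exists_base z hz Q hF hQ hcard e hnwc
  obtain ⟨g, S⟩ := B.j2set nwc ht htz
  obtain ⟨E, L, W⟩ := S.caseM.resolve_left S.not_48
  obtain ⟨K, h⟩ := W.j2Loc S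
  exact ⟨g, E, L, K, h⟩

/-- **The local structure of groups of Hall–Janko type.** -/
theorem exists_j2Loc' (z : G) (hz : orderOf z = 2) (Q : Subgroup (Subgroup.centralizer ({z} : Set G)))
    [Q.Normal] (hF : Cfsg.generalizedFittingSubgroup (Subgroup.centralizer ({z} : Set G)) = Q)
    (hQ : Cfsg.IsExtraspecial 2 Q) (hcard : Nat.card Q = 2 ^ 5)
    (e : (Subgroup.centralizer ({z} : Set G)) ⧸ Q ≃* Cfsg.Omega (ZMod 2) (Cfsg.quadFormMinus 1 (ZMod 2) 1 1))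
    (hnwc : ∃ g : G, (∃ hq : g * z * g⁻¹ ∈ Subgroup.centralizer ({z} : Set G),
      (⟨g * z * g⁻¹, hq⟩ : Subgroup.centralizer ({z} : Set G)) ∈ Q) ∧ g * z * g⁻¹ ≠ z)
    (hcl : ∃ x y : G, orderOf x = 2 ∧ orderOf y = 2 ∧ ¬ IsConj x y) :
    ∃ (t : G) (E L K : Subgroup G), J2Loc z t E L K := by
  obtain ⟨a, b, ha, hb, hab⟩ := hcl
  by_cases haz : IsConj a z
  · have hbz : ¬ IsConj b z := fun h => hab (haz.trans h.symm)
    obtain ⟨g, E, L, K, h⟩ := exists_j2Loc z hz Q hF hQ hcard e hnwc hb hbz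
    exact ⟨_, E, L, K, h⟩
  · obtain ⟨g, E, L, K, h⟩ := exists_j2Loc z hz Q hF hQ hcard e hnwc ha haz
    exact ⟨_, E, L, K, h⟩

end Cfsg.Agent.LE
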