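import Cfsg.Agent.LE.J2Bridge
import Cfsg.Agent.Solv.Core

set_option autoImplicit false
open Cfsg

namespace Cfsg.Agent.LE
open Subgroup Cfsg.Agent.H90

theorem exists_noncentral_inv {G : Type*} [Group G] [Finite G] {Q : Subgroup G} {z : G} (h : XS Q z)
    (hc : Nat.card Q = 32) : ∃ x ∈ Q, orderOf x = 2 ∧ x ≠ z := by
  classical
  -- noncentral x
  have key : ∀ (A : Subgroup G), 8 ≤ Nat.card A → ∀ s : Finset G, s.card < 8 → ∃ x ∈ A, x ∉ s := by
    intro A hA s hs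
    by_contra hcon
    push Not at hcon
    have h1 : Nat.card A ≤ s.card := by
      have : (A : Set G) ⊆ (s : Set G) := fun x hx => by simpa using hcon x hx
      have h2 := Set.ncard_le_ncard this s.finite_toSet
      rw [Set.ncard_coe_finset] at h2
      exact h2
    omega
  obtain ⟨x, hxQ, hx⟩ := key Q (by omega) {1, z} (lt_of_le_of_lt (Finset.card_insert_le _ _) (by simp))
  simp only [Finset.mem_insert, Finset.mem_singleton, not_or] at hx
  have h2 := h.card_inf_centralizer_ge Q le_rfl hxQ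
  obtain ⟨y, hyQ, hy⟩ := key (Q ⊓ centralizer ({x} : Set G)) (by omega) {1, z, x, z * x}
    (lt_of_le_of_lt Finset.card_le_four (by norm_num))
  simp only [Finset.mem_insert, Finset.mem_singleton, not_or] at hy
  have hxy : y * x = x * y := mem_centralizer_singleton_iff.1 hyQ.2
  have ord : ∀ w : G, w * w = 1 → w ≠ 1 → orderOf w = 2 := fun w hw hw1 =>
    orderOf_eq_prime (by rw [pow_two, hw]) hw1
  rcases h.sqr hxQ with hx2 | hx2
  · exact ⟨x, hxQ, ord x hx2 hx.1, hx.2⟩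
  rcases h.sqr hyQ.1 with hy2 | hy2
  · exact ⟨y, hyQ.1, ord y hy2 hy.1, hy.2.1⟩
  have hinv : x⁻¹ = z * x := by
    rw [inv_eq_iff_mul_eq_one, h.sq.symm, ← hx2]
    have := h.central x hxQ
    rw [hx2, ← this, ← mul_assoc, hx2]
  refine ⟨x * y, Q.mul_mem hxQ hyQ.1, ord _ ?_ ?_, ?_⟩
  · calc x * y * (x * y) = x * (y * x) * y := by group
      _ = (x * x) * (y * y) := by rw [hxy]; group
      _ = 1 := by rw [hx2, hy2, h.sq]
  · intro h1
    exact hy.2.2.2 (by rw [← hinv]; exact eq_inv_of_mul_eq_one_right h1)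
  · intro h1
    apply hy.2.2.1
    have : y = x⁻¹ * z := by rw [← h1]; group
    rw [this, hinv, ← h.central _ hxQ, mul_assoc, h.sq, mul_one]

variable {G : Type*} [Group G] [Finite G]

theorem exists_base_of_card (z : G) (hz : orderOf z = 2) (Q : Subgroup (Subgroup.centralizer ({z} : Set G)))
    [Q.Normal] (hF : Cfsg.generalizedFittingSubgroup (Subgroup.centralizer ({z} : Set G)) = Q)
    (hQ : Cfsg.IsExtraspecial 2 Q) (hcard : Nat.card Q = 2 ^ 5)
    (cardC : Nat.card (centralizer ({z} : Set G)) = 1920)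
    (hnwc : ∃ g : G, (∃ hq : g * z * g⁻¹ ∈ Subgroup.centralizer ({z} : Set G),
      (⟨g * z * g⁻¹, hq⟩ : Subgroup.centralizer ({z} : Set G)) ∈ Q) ∧ g * z * g⁻¹ ≠ z) :
    ∃ x : Fin 5 → G, Base (Q.map (centralizer ({z} : Set G)).subtype) z x ∧
      ∃ g : G, g * z * g⁻¹ ∈ Q.map (centralizer ({z} : Set G)).subtype ∧ g * z * g⁻¹ ≠ z := by
  have hset : Cfsg.IsExtraspecialCentralizerSetting z Q 2 := ⟨hz, hF, hQ, hcard, hnwc⟩
  have pl := pl_of_setting hset
  have cardQ : Nat.card ↥(Q.map (centralizer ({z} : Set G)).subtype) = 32 := by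
    rw [card_of_setting hset]
    norm_num
  obtain ⟨g, ⟨hq, hqQ⟩, hne⟩ := hnwc
  have hmem : g * z * g⁻¹ ∈ Q.map (centralizer ({z} : Set G)).subtype := ⟨_, hqQ, rfl⟩
  have : Fact (Nat.Prime 5) := ⟨by norm_num⟩
  obtain ⟨f, hf⟩ := exists_prime_orderOf_dvd_card' (G := centralizer ({z} : Set G)) 5
    (by rw [cardC]; norm_num)
  have hf5 : (f : G) ^ 5 = 1 := by
    rw [← hf, ← Subgroup.orderOf_coe, pow_orderOf_eq_one]
  have hf1 : (f : G) ≠ 1 := by
    intro h
    rw [← Subgroup.orderOf_coe, h, orderOf_one] at hf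
    omega
  obtain ⟨x, hx, _⟩ := exists_pts pl cardQ hf5 hf1 (mem_cent.mp f.2) hmem (conj_ne_one pl.ne_one) hne
    (conj_sq pl.sq)
  exact ⟨x, ⟨pl, hx, cardQ, cardC⟩, g, hmem, hne⟩

/-- The local structure from the order of the centralizer. -/
theorem exists_j2Loc_of_card (z : G) (hz : orderOf z = 2) (Q : Subgroup (Subgroup.centralizer ({z} : Set G)))
    [Q.Normal] (hF : Cfsg.generalizedFittingSubgroup (Subgroup.centralizer ({z} : Set G)) = Q)
    (hQ : Cfsg.IsExtraspecial 2 Q) (hcard : Nat.card Q = 2 ^ 5)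
    (cardC : Nat.card (centralizer ({z} : Set G)) = 1920)
    (hnwc : ∃ g : G, (∃ hq : g * z * g⁻¹ ∈ Subgroup.centralizer ({z} : Set G),
      (⟨g * z * g⁻¹, hq⟩ : Subgroup.centralizer ({z} : Set G)) ∈ Q) ∧ g * z * g⁻¹ ≠ z)
    {t : G} (ht : orderOf t = 2) (htz : ¬ IsConj t z) :
    ∃ (g : G) (E L K : Subgroup G), J2Loc z (g * t * g⁻¹) E L K := by
  obtain ⟨x, B, nwc⟩ := exists_base_of_card z hz Q hF hQ hcard cardC hnwc
  obtain ⟨g, S⟩ := B.j2set nwc ht htz
  obtain ⟨E, L, W⟩ := S.caseM.resolve_left S.not_48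
  obtain ⟨K, h⟩ := W.j2Loc S
  exact ⟨g, E, L, K, h⟩

end Cfsg.Agent.LE
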