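import Cfsg.Agent.LE.J2Inv

/-!
Centralizers in `C_G(z)` of involutions outside `Q`, of elements of order 3 and 5 (owner: helper58).
-/
set_option autoImplicit false

namespace Cfsg.Agent.LE

open Subgroup Cfsg.Agent.H90

variable {G : Type*} [Group G] [Finite G] {Q : Subgroup G} {z : G} {x : Fin 5 → G}

/-- data on the centralizer of an involution `v` of `C_G(z) ∖ Q` -/
structure CentV (Q : Subgroup G) (z v u : G) : Prop where
  card : Nat.card ↥(centralizer ({z} : Set G) ⊓ centralizer ({v} : Set G)) = 16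
  sq : ∀ a ∈ centralizer ({z} : Set G) ⊓ centralizer ({v} : Set G), a * a = 1
  uQ : u ∈ Q
  u1 : u ≠ 1
  uz : u ≠ z
  uu : u * u = 1
  uv : u * v = v * u
  cent : ∀ q ∈ Q, q * v = v * q → q = 1 ∨ q = z ∨ q = u ∨ q = z * u

theorem t12 : t1 * t2 = t3 := by decide
theorem t21 : t2 * t1 = t3 := by decide

namespace Base

variable (B : Base Q z x)

include B

set_option linter.unusedSectionVars false

theorem mul_comm_z {c d z : G} (hc : c * z = z * c) (hd : d * z = z * d) : c * d * z = z * (c * d) := by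
  rw [mul_assoc, hd, ← mul_assoc, hc, mul_assoc]

theorem inv_comm_z {c z : G} (hc : c * z = z * c) : c⁻¹ * z = z * c⁻¹ := by
  rw [inv_mul_eq_iff_eq_mul, ← mul_assoc, hc]; group

/-- an involution over `(0 2)(1 3)` commuting with `v` -/
theorem nf_exists_w {v : G} (hvz : v * z = z * v) (hvv : v * v = 1) (hact : Act z x v t1 0)
    (hv : v ∉ Q) : ∃ w, w * z = z * w ∧ w * w = 1 ∧ w * v = v * w ∧ Act z x w t2 0 := by
  obtain ⟨w, hwz, hw⟩ := B.exists_act t2_mem (s := 0) (by simp)
  have h2 := act_mul B.pl hwz hw hw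
  have h3 : Act z x (w * w) 1 0 := by
    intro i
    rw [h2 i, show t2 * t2 = 1 by decide]
    simp
  have hww : w * w = 1 ∨ w * w = z := by
    obtain ⟨a, ha⟩ := eq_zp_of_act B.pl B.pts B.cardQ (mul_comm_z B hwz hwz) h3
    rcases zp_cases (z := z) a with ⟨_, h4⟩ | ⟨_, h4⟩
    · left; rw [ha, h4]
    · right; rw [ha, h4]
  have hwQ : w ∉ Q := by
    intro h4
    obtain ⟨s, _, hs⟩ := act_q B.pl B.pts B.cardQ h4
    have := (act_unique B.pl B.pts hw hs).1
    exact absurd this (by decide)
  have hww1 := B.sq_eq_one hvz hv hvv hwz hwQ hww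
  have h5 := act_mul B.pl hvz hact hw
  have h5' : Act z x (v * w) t3 0 := by
    intro i
    rw [h5 i, t12]
    simp
  have hvwz := mul_comm_z B hvz hwz
  have hvwQ : v * w ∉ Q := by
    intro h4
    obtain ⟨s, _, hs⟩ := act_q B.pl B.pts B.cardQ h4
    have := (act_unique B.pl B.pts h5' hs).1
    exact absurd this (by decide)
  have h6 : v * w * (v * w) = 1 ∨ v * w * (v * w) = z := by
    have h7 := act_mul B.pl hvwz h5' h5'
    have h8 : Act z x (v * w * (v * w)) 1 0 := by
      intro i
      rw [h7 i, show t3 * t3 = 1 by decide]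
      simp
    obtain ⟨a, ha⟩ := eq_zp_of_act B.pl B.pts B.cardQ (mul_comm_z B hvwz hvwz) h8
    rcases zp_cases (z := z) a with ⟨_, h4⟩ | ⟨_, h4⟩
    · left; rw [ha, h4]
    · right; rw [ha, h4]
  have h7 := B.sq_eq_one hvz hv hvv hvwz hvwQ h6
  refine ⟨w, hwz, hww1, ?_, hw⟩
  have hvi : v⁻¹ = v := inv_eq_of_mul_eq_one_left hvv
  have hwi : w⁻¹ = w := inv_eq_of_mul_eq_one_left hww1
  have h8 : (v * w)⁻¹ = v * w := inv_eq_of_mul_eq_one_left h7
  rw [mul_inv_rev, hvi, hwi] at h8
  exact h8

theorem centV {v : G} (hvz : v * z = z * v) (hv : v ∉ Q) (hvv : v * v = 1) : ∃ u, CentV Q z v u := by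
  classical
  obtain ⟨y, B, hact⟩ := B.normal_form hvz hv hvv
  obtain ⟨w, hwz, hww, hwv, hw⟩ := B.nf_exists_w hvz hvv hact hv
  have hu1 : y 4 ≠ 1 := by
    intro h1
    exact B.pts.ne_zp B.pl 0 4 (by rw [h1, zp_zero])
  have huz : y 4 ≠ z := by
    intro h1
    exact B.pts.ne_zp B.pl 1 4 (by rw [h1, zp_one])
  have huv : y 4 * v = v * y 4 := (B.nf_conj hvz hvv hact 4).symm
  have huw : y 4 * w = w * y 4 := by
    have := hw 4
    rw [mul_inv_eq_iff_eq_mul, show t2 4 = 4 by decide] at this
    simpa [zp_zero] using this.symm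
  have huZ := B.pts.comm_z B.pl 4
  have hcent : ∀ q ∈ Q, q * v = v * q → q = 1 ∨ q = z ∨ q = y 4 ∨ q = z * y 4 := by
    intro q hq hqv
    rcases B.nf_centQ hvz hvv hact hq hqv with ⟨a, ha⟩ | ⟨a, ha⟩ <;>
      rcases zp_cases (z := z) a with ⟨_, h4⟩ | ⟨_, h4⟩ <;> rw [h4] at ha
    · exact Or.inl ha
    · exact Or.inr (Or.inl ha)
    · exact Or.inr (Or.inr (Or.inl (by rw [ha, one_mul])))
    · exact Or.inr (Or.inr (Or.inr ha))
  -- decomposition of an element of the centralizer
  have hsplit : ∀ a ∈ centralizer ({z} : Set G) ⊓ centralizer ({v} : Set G),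
      ∃ k, (k = 1 ∨ k = v ∨ k = w ∨ k = v * w) ∧ ∃ q ∈ Q, q * v = v * q ∧ a = q * k := by
    intro a ha
    rw [mem_inf_cent, mem_cent] at ha
    obtain ⟨haz, hav⟩ := ha
    obtain ⟨σ, hσ, s, hs, h1⟩ := B.act haz
    have h2 := act_mul B.pl haz h1 hact
    have h3 := act_mul B.pl hvz hact h1
    rw [hav] at h2
    have h4 := (act_unique B.pl B.pts h2 h3).1
    have main : ∀ k, k * z = z * k → k * v = v * k → ∀ t, Act z y k σ t →
        ∃ q ∈ Q, q * v = v * q ∧ a = q * k := by
      intro k hkz hkv t hk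
      refine ⟨a * k⁻¹, ?_, ?_, by group⟩
      · have h5 := act_mul B.pl haz h1 (act_inv B.pl hkz hk)
        exact B.mem_of_act_one (mul_comm_z B haz (inv_comm_z B hkz)) (by simpa using h5)
      · exact mul_comm_z B hav (inv_comm_z B hkv)
    rcases cent_t1 σ (Equiv.Perm.mem_alternatingGroup.mp hσ) h4 with h5 | h5 | h5 | h5
    · subst h5
      exact ⟨1, Or.inl rfl, main 1 (by simp) (by simp) 0 (act_one B.pl)⟩
    · subst h5
      exact ⟨v, Or.inr (Or.inl rfl), main v hvz rfl 0 hact⟩
    · subst h5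
      exact ⟨w, Or.inr (Or.inr (Or.inl rfl)), main w hwz hwv 0 hw⟩
    · subst h5
      refine ⟨v * w, Or.inr (Or.inr (Or.inr rfl)), main (v * w) (mul_comm_z B hvz hwz)
        (mul_comm_z B rfl hwv) 0 ?_⟩
      have := act_mul B.pl hvz hact hw
      intro i
      rw [this i, t12]
      simp
  have hsq : ∀ a ∈ centralizer ({z} : Set G) ⊓ centralizer ({v} : Set G), a * a = 1 := by
    intro a ha
    obtain ⟨k, hk, q, hq, hqv, rfl⟩ := hsplit a ha
    have hkk : k * k = 1 := by
      rcases hk with rfl | rfl | rfl | rfl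
      · simp
      · exact hvv
      · exact hww
      · calc v * w * (v * w) = v * (w * v) * w := by group
          _ = (v * v) * (w * w) := by rw [hwv]; group
          _ = 1 := by rw [hvv, hww, one_mul]
    have hgen : ∀ g : G, g * v = v * g → g * w = w * g → g * k = k * g := by
      intro g hgv hgw
      rcases hk with rfl | rfl | rfl | rfl
      · simp
      · exact hgv
      · exact hgw
      · rw [← mul_assoc, hgv, mul_assoc, hgw, mul_assoc]
    have hzk : z * k = k * z := hgen z hvz.symm hwz.symm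
    have huk : y 4 * k = k * y 4 := hgen _ huv huw
    have hqq : q * q = 1 ∧ q * k = k * q := by
      rcases hcent q hq hqv with rfl | rfl | rfl | rfl
      · simp
      · exact ⟨B.pl.sq, hzk⟩
      · exact ⟨B.pts.sq 4, huk⟩
      · constructor
        · calc z * y 4 * (z * y 4) = z * (y 4 * z) * y 4 := by group
            _ = (z * z) * (y 4 * y 4) := by rw [huZ]; group
            _ = 1 := by rw [B.pl.sq, B.pts.sq, one_mul]
        · rw [mul_assoc, huk, ← mul_assoc, hzk, mul_assoc]
    calc q * k * (q * k) = q * (k * q) * k := by group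
      _ = (q * q) * (k * k) := by rw [← hqq.2]; group
      _ = 1 := by rw [hqq.1, hkk, one_mul]
  refine ⟨y 4, ⟨?_, hsq, B.pts.mem 4, hu1, huz, B.pts.sq 4, huv, hcent⟩⟩
  -- the order
  obtain ⟨ρ, h1, h2, h3⟩ := exists_hom_alt B.pl B.pts B.cardQ B.cardC
  obtain ⟨E, hE⟩ : ∃ E, E = centralizer ({z} : Set G) ⊓ centralizer ({v} : Set G) := ⟨_, rfl⟩
  have hEle : E ≤ centralizer ({z} : Set G) := hE ▸ inf_le_left
  obtain ⟨φ, hφ⟩ : ∃ φ : E →* Equiv.Perm (Fin 5), φ = ρ.comp (Subgroup.inclusion hEle) := ⟨_, rfl⟩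
  have hφe : ∀ e : E, ∃ s, Act z y (e : G) (φ e) s := by
    intro e; rw [hφ]; exact h1 (Subgroup.inclusion hEle e)
  have e1 : Nat.card φ.ker = 4 := by
    have e2 : φ.ker.map E.subtype = zpowers z ⊔ zpowers (y 4) := by
      ext g
      rw [card_sup_zpowers_of_involutions B.pl.sq (B.pts.sq 4) B.pl.ne_one hu1 huz huZ]
      constructor
      · rintro ⟨e, he, rfl⟩
        have he' : (e : G) ∈ centralizer ({z} : Set G) ⊓ centralizer ({v} : Set G) := by
          rw [← hE]; exact e.2
        have he2 : (e : G) ∈ Q := by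
          have : ρ (Subgroup.inclusion hEle e) = 1 := by rw [hφ] at he; exact he
          exact (h2 _).mp this
        rw [mem_inf_cent] at he'
        exact hcent _ he2 he'.2
      · intro hg
        have hgQ : g ∈ Q := by
          rcases hg with rfl | rfl | rfl | rfl
          · exact Q.one_mem
          · exact B.pl.mem
          · exact B.pts.mem 4
          · exact Q.mul_mem B.pl.mem (B.pts.mem 4)
        have hgv : g * v = v * g := by
          rcases hg with rfl | rfl | rfl | rfl
          · simp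
          · exact hvz.symm
          · exact huv
          · exact mul_comm_z B hvz.symm huv
        have hgE : g ∈ E := by
          rw [hE, mem_inf_cent, mem_cent]
          exact ⟨B.pl.central g hgQ, hgv⟩
        refine ⟨⟨g, hgE⟩, ?_, rfl⟩
        change φ ⟨g, hgE⟩ = 1
        rw [hφ]
        exact (h2 _).mpr hgQ
    have e3 : Nat.card (φ.ker.map E.subtype) = Nat.card φ.ker :=
      (Nat.card_congr (φ.ker.equivMapOfInjective _ (Subgroup.subtype_injective E)).toEquiv).symm
    rw [← e3, e2, card_four_group B.pl.sq (B.pts.sq 4) B.pl.ne_one hu1 huz huZ]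
  have e4 : Nat.card φ.range = 4 := by
    have e5 : (φ.range : Set (Equiv.Perm (Fin 5))) = (({1, t1, t2, t3} : Finset (Equiv.Perm (Fin 5))) :
        Set (Equiv.Perm (Fin 5))) := by
      ext τ
      simp only [Finset.coe_insert, Finset.coe_singleton, Set.mem_insert_iff, Set.mem_singleton_iff,
        SetLike.mem_coe]
      constructor
      · rintro ⟨e, rfl⟩
        obtain ⟨s, hs⟩ := hφe e
        have he' : (e : G) ∈ centralizer ({z} : Set G) ⊓ centralizer ({v} : Set G) := by
          rw [← hE]; exact e.2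
        rw [mem_inf_cent, mem_cent] at he'
        have h4 := act_mul B.pl he'.1 hs hact
        have h5 := act_mul B.pl hvz hact hs
        rw [he'.2] at h4
        have h6 := (act_unique B.pl B.pts h4 h5).1
        have h7 : φ e ∈ alternatingGroup (Fin 5) := by
          rw [← h3, hφ]; exact ⟨_, rfl⟩
        exact cent_t1 _ (Equiv.Perm.mem_alternatingGroup.mp h7) h6
      · have mk : ∀ g : G, g * z = z * g → g * v = v * g → ∀ σ s, Act z y g σ s → σ ∈ φ.range := by
          intro g hgz hgv σ s hg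
          have hgE : g ∈ E := by
            rw [hE, mem_inf_cent, mem_cent]; exact ⟨hgz, hgv⟩
          refine ⟨⟨g, hgE⟩, ?_⟩
          obtain ⟨s', hs'⟩ := hφe ⟨g, hgE⟩
          exact (act_unique B.pl B.pts hs' hg).1
        rintro (rfl | rfl | rfl | rfl)
        · exact one_mem _
        · exact mk v hvz rfl _ _ hact
        · exact mk w hwz hwv _ _ hw
        · rw [← t12]
          exact mul_mem (mk v hvz rfl _ _ hact) (mk w hwz hwv _ _ hw)
    have e6 : Nat.card φ.range = Nat.card ((({1, t1, t2, t3} : Finset (Equiv.Perm (Fin 5))) :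
        Set (Equiv.Perm (Fin 5)))) := by
      rw [← e5]; rfl
    rw [e6, Nat.card_coe_set_eq, Set.ncard_coe_finset]
    decide
  rw [← hE, ← Subgroup.card_mul_index φ.ker, Subgroup.index_ker, e1, e4]

end Base

end Cfsg.Agent.LE
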