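import Cfsg.Agent.LE.FourA5

/-!
Fusion of involutions in a group of `J₂` type (owner: helper58).
-/
set_option autoImplicit false

namespace Cfsg.Agent.LE

open Subgroup Cfsg.Agent.H90
open scoped commutatorElement

variable {G : Type*} [Group G] [Finite G] {Q : Subgroup G} {z v : G} {x : Fin 5 → G}

/-- The hypotheses of `J₂` type with a chosen non-2-central involution `v ∈ C_G(z)`. -/
structure J2Set (Q : Subgroup G) (z : G) (x : Fin 5 → G) (v : G) : Prop where
  B : Base Q z x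
  nwc : ∃ g : G, g * z * g⁻¹ ∈ Q ∧ g * z * g⁻¹ ≠ z
  vz : v * z = z * v
  vQ : v ∉ Q
  vv : v * v = 1
  nc : ¬ IsConj v z

theorem conj_sq {g a : G} (ha : a * a = 1) : (g * a * g⁻¹) * (g * a * g⁻¹) = 1 := by
  have e : (g * a * g⁻¹) * (g * a * g⁻¹) = g * (a * a) * g⁻¹ := by group
  rw [e, ha]; simp

theorem conj_ne_one {g a : G} (ha : a ≠ 1) : g * a * g⁻¹ ≠ 1 := by
  intro h
  apply ha
  calc a = g⁻¹ * (g * a * g⁻¹) * g := by group
    _ = 1 := by rw [h]; group

theorem conj_comm {g a b : G} (h : a * b = b * a) :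
    (g * a * g⁻¹) * (g * b * g⁻¹) = (g * b * g⁻¹) * (g * a * g⁻¹) := by
  calc (g * a * g⁻¹) * (g * b * g⁻¹) = g * (a * b) * g⁻¹ := by group
    _ = g * (b * a) * g⁻¹ := by rw [h]
    _ = (g * b * g⁻¹) * (g * a * g⁻¹) := by group

/-- Every involution of `G` is conjugate into `C_G(z)`. -/
theorem exists_conj_centralizer (B : Base Q z x) {a : G} (ha : a * a = 1) :
    ∃ g, (g * a * g⁻¹) * z = z * (g * a * g⁻¹) := by
  have : Fact (Nat.Prime 2) := ⟨by norm_num⟩
  obtain ⟨S, hS⟩ := B.pl.isPGroup.exists_le_sylow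
  have hSz : (S : Subgroup G) ≤ centralizer ({z} : Set G) := by
    have : Nontrivial S := by
      refine ⟨⟨1, ⟨z, hS B.pl.mem⟩, ?_⟩⟩
      intro h
      exact B.pl.ne_one (congrArg Subtype.val h).symm
    have hc := S.isPGroup'.center_nontrivial
    obtain ⟨c, hc1⟩ := exists_ne (1 : Subgroup.center S)
    have hcomm : ∀ s ∈ S, (c : S) * (s : G) = s * (c : S) := by
      intro s hs
      have := Subgroup.mem_center_iff.mp c.2 ⟨s, hs⟩
      exact (congrArg Subtype.val this).symm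
    have h1 := B.pl.cent ((c : S) : G) (fun q hq => hcomm q (hS hq))
    have hcz : ((c : S) : G) = z := by
      rcases h1 with h1 | h1
      · exfalso
        apply hc1
        apply Subtype.ext
        exact Subtype.ext h1
      · exact h1
    intro s hs
    rw [mem_cent, ← hcz]
    exact (hcomm s hs).symm
  obtain ⟨k, _, hk⟩ := (Nat.dvd_prime_pow Nat.prime_two (m := 1)).mp
    (show orderOf a ∣ 2 ^ 1 from orderOf_dvd_of_pow_eq_one (by rw [pow_one, pow_two]; exact ha))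
  obtain ⟨g, hg⟩ := exists_conj_mem_sylow (p := 2) S hk
  refine ⟨g⁻¹, ?_⟩
  have := hSz hg
  rwa [mem_cent, show g⁻¹ * a * g = g⁻¹ * a * g⁻¹⁻¹ by group] at this

namespace J2Set

variable (S : J2Set Q z x v)

include S
set_option linter.unusedSectionVars false

theorem v1 : v ≠ 1 := fun h => S.vQ (h ▸ Q.one_mem)

theorem orderOf_v : orderOf v = 2 := orderOf_eq_prime (by rw [pow_two]; exact S.vv) S.v1

theorem conj_of_mem {q : G} (hq : q ∈ Q) (hq1 : q ≠ 1) (hqq : q * q = 1) : IsConj z q := by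
  by_cases hqz : q = z
  · rw [hqz]
  · obtain ⟨g, hg1, hg2⟩ := S.nwc
    obtain ⟨c, _, hc⟩ := S.B.conj_Q hg1 (conj_ne_one S.B.pl.ne_one) hg2 (conj_sq S.B.pl.sq) hq hq1 hqz hqq
    rw [isConj_iff]
    exact ⟨c * g, by rw [← hc]; group⟩

theorem conj_v {a : G} (haz : a * z = z * a) (haQ : a ∉ Q) (haa : a * a = 1) :
    ∃ c, c * z = z * c ∧ c * v * c⁻¹ = a :=
  S.B.conj_involution S.vz S.vQ S.vv haz haQ (Or.inl haa)

theorem mem_of_conj {a : G} (haz : a * z = z * a) (hc : IsConj z a) : a ∈ Q := by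
  by_contra haQ
  obtain ⟨g, hg⟩ := isConj_iff.mp hc
  obtain ⟨c, _, hc⟩ := S.conj_v haz haQ (by rw [← hg]; exact conj_sq S.B.pl.sq)
  apply S.nc
  rw [isConj_iff]
  exact ⟨g⁻¹ * c, by rw [mul_inv_rev, inv_inv]; calc
    g⁻¹ * c * v * (c⁻¹ * g) = g⁻¹ * (c * v * c⁻¹) * g := by group
    _ = z := by rw [hc, ← hg]; group⟩

theorem not_mem_of_conj {a : G} (hc : IsConj v a) : a ∉ Q := by
  intro haQ
  obtain ⟨g, hg⟩ := isConj_iff.mp hc
  apply S.nc
  have h1 := S.conj_of_mem haQ (by rw [← hg]; exact conj_ne_one S.v1) (by rw [← hg]; exact conj_sq S.vv)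
  exact (hc.trans h1.symm)

/-- two classes of involutions -/
theorem classes {a : G} (ha : orderOf a = 2) : IsConj z a ∨ IsConj v a := by
  have haa : a * a = 1 := by rw [← pow_two, ← ha]; exact pow_orderOf_eq_one a
  have ha1 : a ≠ 1 := by rintro rfl; simp at ha
  obtain ⟨g, hg⟩ := exists_conj_centralizer S.B haa
  by_cases hQ : g * a * g⁻¹ ∈ Q
  · left
    have := S.conj_of_mem hQ (conj_ne_one ha1) (conj_sq haa)
    exact this.trans (isConj_iff.mpr ⟨g⁻¹, by group⟩)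
  · right
    obtain ⟨c, _, hc⟩ := S.conj_v hg hQ (conj_sq haa)
    rw [isConj_iff]
    refine ⟨g⁻¹ * c, ?_⟩
    calc g⁻¹ * c * v * (g⁻¹ * c)⁻¹ = g⁻¹ * (c * v * c⁻¹) * g := by group
      _ = a := by rw [hc]; group

/-- transitivity on commuting pairs -/
theorem pair {u t : G} (hu : IsConj z u) (ht : IsConj v t) (hut : t * u = u * t) :
    ∃ g, g * z * g⁻¹ = u ∧ g * v * g⁻¹ = t := by
  obtain ⟨g, hg⟩ := isConj_iff.mp hu
  obtain ⟨k, hk⟩ := isConj_iff.mp ht
  have h1 : (g⁻¹ * t * g) * z = z * (g⁻¹ * t * g) := by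
    have := conj_comm (g := g⁻¹) hut
    rw [← hg] at this
    have e : g⁻¹ * (g * z * g⁻¹) * g⁻¹⁻¹ = z := by group
    rw [e, inv_inv] at this
    exact this
  have h2 : g⁻¹ * t * g ∉ Q := by
    apply S.not_mem_of_conj
    rw [isConj_iff]
    exact ⟨g⁻¹ * k, by rw [← hk]; group⟩
  have htt : t * t = 1 := by rw [← hk]; exact conj_sq S.vv
  obtain ⟨c, hcz, hc⟩ := S.conj_v h1 h2 (by
    have := conj_sq (g := g⁻¹) htt
    rwa [inv_inv] at this)
  refine ⟨g * c, ?_, ?_⟩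
  · calc g * c * z * (g * c)⁻¹ = g * (c * z) * c⁻¹ * g⁻¹ := by group
      _ = g * z * g⁻¹ := by rw [hcz]; group
      _ = u := hg
  · calc g * c * v * (g * c)⁻¹ = g * (c * v * c⁻¹) * g⁻¹ := by group
      _ = t := by rw [hc]; group

/-- conjugating a two-point centralizer -/
theorem cent_pair {u t : G} (hu : IsConj z u) (ht : IsConj v t) (hut : t * u = u * t) :
    Nat.card ↥(centralizer ({u} : Set G) ⊓ centralizer ({t} : Set G)) = 16 ∧
      ∀ a, a * u = u * a → a * t = t * a → a * a = 1 := by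
  obtain ⟨g, hg1, hg2⟩ := S.pair hu ht hut
  obtain ⟨u0, hu0⟩ := S.B.centV S.vz S.vQ S.vv
  have key : ∀ a, (a * u = u * a ∧ a * t = t * a) ↔
      g⁻¹ * a * g ∈ centralizer ({z} : Set G) ⊓ centralizer ({v} : Set G) := by
    intro a
    rw [mem_inf_cent, mem_cent, ← hg1, ← hg2]
    have e : ∀ w : G, (a * (g * w * g⁻¹) = g * w * g⁻¹ * a ↔ g⁻¹ * a * g * w = w * (g⁻¹ * a * g)) := by
      intro w
      constructor
      · intro h
        have h2 : g⁻¹ * (a * (g * w * g⁻¹)) * g = g⁻¹ * (g * w * g⁻¹ * a) * g := by rw [h]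
        calc g⁻¹ * a * g * w = g⁻¹ * (a * (g * w * g⁻¹)) * g := by group
          _ = g⁻¹ * (g * w * g⁻¹ * a) * g := h2
          _ = w * (g⁻¹ * a * g) := by group
      · intro h
        have h2 : g * (g⁻¹ * a * g * w) * g⁻¹ = g * (w * (g⁻¹ * a * g)) * g⁻¹ := by rw [h]
        calc a * (g * w * g⁻¹) = g * (g⁻¹ * a * g * w) * g⁻¹ := by group
          _ = g * (w * (g⁻¹ * a * g)) * g⁻¹ := h2
          _ = g * w * g⁻¹ * a := by group
    rw [e z, e v]
  constructor
  · rw [← hu0.card]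
    apply Nat.card_congr
    refine ⟨fun a => ⟨g⁻¹ * a * g, ?_⟩, fun a => ⟨g * a * g⁻¹, ?_⟩, fun a => ?_, fun a => ?_⟩
    · rw [← key]
      have := a.2
      rw [mem_inf_cent, mem_cent] at this
      exact this
    · rw [mem_inf_cent, mem_cent, key]
      have e : g⁻¹ * (g * (a : G) * g⁻¹) * g = a := by group
      rw [e]; exact a.2
    · ext; simp only; group
    · ext; simp only; group
  · intro a ha1 ha2
    have h1 := hu0.sq _ ((key a).mp ⟨ha1, ha2⟩)
    have := conj_sq (g := g) h1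
    have e : g * (g⁻¹ * a * g) * g⁻¹ = a := by group
    rwa [e] at this

theorem mem_QV {q : G} : q ∈ Q ⊓ centralizer ({v} : Set G) ↔ q ∈ Q ∧ q * v = v * q := mem_inf_cent

theorem card_QV : Nat.card ↥(Q ⊓ centralizer ({v} : Set G)) = 4 := by
  obtain ⟨u, hu⟩ := S.B.centV S.vz S.vQ S.vv
  have hc := S.B.pl.central u hu.uQ
  rw [← card_four_group S.B.pl.sq hu.uu S.B.pl.ne_one hu.u1 hu.uz hc]
  congr 1
  have : Q ⊓ centralizer ({v} : Set G) = zpowers z ⊔ zpowers u := by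
    ext q
    rw [card_sup_zpowers_of_involutions S.B.pl.sq hu.uu S.B.pl.ne_one hu.u1 hu.uz hc, mem_inf_cent]
    constructor
    · rintro ⟨hq, hqv⟩
      exact hu.cent q hq hqv
    · rintro (rfl | rfl | rfl | rfl)
      · exact ⟨Q.one_mem, by simp⟩
      · exact ⟨S.B.pl.mem, S.vz.symm⟩
      · exact ⟨hu.uQ, hu.uv⟩
      · refine ⟨Q.mul_mem S.B.pl.mem hu.uQ, ?_⟩
        rw [mul_assoc, hu.uv, ← mul_assoc, ← S.vz, mul_assoc]
  rw [this]

/-- for an involution `u` of `Q` commuting with `v`: `C(u) ∩ C(v) = C(z) ∩ C(v)` -/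
theorem cent_eq {u : G} (hu : u ∈ Q) (hu1 : u ≠ 1) (huv : u * v = v * u) :
    centralizer ({u} : Set G) ⊓ centralizer ({v} : Set G) =
      centralizer ({z} : Set G) ⊓ centralizer ({v} : Set G) := by
  obtain ⟨u0, hu0⟩ := S.B.centV S.vz S.vQ S.vv
  have huP : u ∈ centralizer ({z} : Set G) ⊓ centralizer ({v} : Set G) := by
    rw [mem_inf_cent, mem_cent]
    exact ⟨S.B.pl.central u hu, huv⟩
  have huu := hu0.sq u huP
  have h1 := (S.cent_pair (S.conj_of_mem hu hu1 huu) (IsConj.refl v) huv.symm).1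
  symm
  apply Subgroup.eq_of_le_of_card_ge
  · intro a ha
    rw [mem_inf_cent, mem_cent]
    refine ⟨sq_comm hu0.sq ha huP, ?_⟩
    exact (mem_inf_cent.mp ha).2
  · rw [h1, hu0.card]

/-- `M = C_G(v)` is in the situation `MSet`. -/
theorem mset : MSet ((centralizer ({z} : Set G) ⊓ centralizer ({v} : Set G)).subgroupOf (centralizer ({v} : Set G)))
    ((Q ⊓ centralizer ({v} : Set G)).subgroupOf (centralizer ({v} : Set G)))
    (⟨v, mem_cent.mpr rfl⟩ : centralizer ({v} : Set G)) := by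
  obtain ⟨u0, hu0⟩ := S.B.centV S.vz S.vQ S.vv
  have hsub : Q ⊓ centralizer ({v} : Set G) ≤ centralizer ({z} : Set G) ⊓ centralizer ({v} : Set G) := by
    apply inf_le_inf_right
    intro q hq
    rw [mem_cent]; exact S.B.pl.central q hq
  refine ⟨?_, ?_, ?_, ?_, ?_, ?_, ?_, ?_, ?_, ?_⟩
  · rw [Nat.card_congr (Subgroup.subgroupOfEquivOfLe inf_le_right).toEquiv, hu0.card]
  · intro a ha
    ext
    exact hu0.sq _ (mem_subgroupOf.mp ha)
  · intro a ha
    rw [mem_subgroupOf] at ha ⊢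
    exact hsub ha
  · rw [Nat.card_congr (Subgroup.subgroupOfEquivOfLe inf_le_right).toEquiv, S.card_QV]
  · intro u hu hu1
    rw [mem_subgroupOf, mem_inf_cent] at hu
    have h1 := S.cent_eq hu.1 (fun h => hu1 (Subtype.ext h)) hu.2
    ext m
    rw [mem_subgroupOf, ← h1, mem_cent, mem_inf_cent, mem_cent]
    constructor
    · intro h2
      exact ⟨congrArg Subtype.val h2, mem_cent.mp m.2⟩
    · intro h2
      exact Subtype.ext h2.1
  · rw [mem_subgroupOf, mem_inf_cent, mem_cent]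
    exact ⟨S.vz, rfl⟩
  · rw [mem_subgroupOf, mem_inf_cent]
    exact fun h => S.vQ h.1
  · intro m
    exact Subtype.ext (mem_cent.mp m.2)
  · intro u hu hu1 u' hu' hu1'
    rw [mem_subgroupOf, mem_inf_cent] at hu hu'
    have e1 : (u : G) ≠ 1 := fun h => hu1 (Subtype.ext h)
    have e2 : (u' : G) ≠ 1 := fun h => hu1' (Subtype.ext h)
    have c1 := S.conj_of_mem hu.1 e1 (hu0.sq _ (hsub (mem_inf_cent.mpr hu)))
    have c2 := S.conj_of_mem hu'.1 e2 (hu0.sq _ (hsub (mem_inf_cent.mpr hu')))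
    obtain ⟨g, hg1, hg2⟩ := S.pair c1 (IsConj.refl v) hu.2.symm
    obtain ⟨k, hk1, hk2⟩ := S.pair c2 (IsConj.refl v) hu'.2.symm
    have hm : k * g⁻¹ ∈ centralizer ({v} : Set G) := by
      rw [mem_cent]
      have h3 : g⁻¹ * v = v * g⁻¹ := by
        rw [mul_inv_eq_iff_eq_mul] at hg2
        rw [inv_mul_eq_iff_eq_mul, ← mul_assoc, hg2]; group
      rw [mul_inv_eq_iff_eq_mul] at hk2
      rw [mul_assoc, h3, ← mul_assoc, hk2, mul_assoc]
    refine ⟨⟨k * g⁻¹, hm⟩, Subtype.ext ?_⟩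
    change k * g⁻¹ * u * (k * g⁻¹)⁻¹ = u'
    rw [← hk1, ← hg1]; group
  · intro m u hu hmu
    rw [mem_subgroupOf, mem_inf_cent] at hu ⊢
    rw [mem_subgroupOf, mem_inf_cent, mem_cent] at hmu
    refine ⟨?_, hmu.2⟩
    by_cases hu1 : (u : G) = 1
    · have : ((m * u * m⁻¹ : centralizer ({v} : Set G)) : G) = 1 := by
        change (m : G) * u * (m : G)⁻¹ = 1
        rw [hu1]; simp
      rw [this]; exact Q.one_mem
    · apply S.mem_of_conj hmu.1
      have c1 := S.conj_of_mem hu.1 hu1 (hu0.sq _ (hsub (mem_inf_cent.mpr hu)))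
      exact c1.trans (isConj_iff.mpr ⟨m, rfl⟩)

end J2Set

end Cfsg.Agent.LE
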