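import Cfsg.Agent.LE.J2Perm

/-!
The homomorphism `C_G(z) → A₅` (owner: helper58).
-/
set_option autoImplicit false

namespace Cfsg.Agent.LE

open Subgroup Cfsg.Agent.H90

variable {G : Type*} [Group G] [Finite G] {Q : Subgroup G} {z : G} {x : Fin 5 → G}

section

variable (h : PL Q z) (hx : Pts Q z x) (hQ : Nat.card Q = 32)

include h hx hQ
set_option linter.unusedSectionVars false

theorem exists_hom : ∃ ρ : centralizer ({z} : Set G) →* Equiv.Perm (Fin 5),
    (∀ c : centralizer ({z} : Set G), ∃ s, Act z x (c : G) (ρ c) s) ∧ ∀ c, ρ c = 1 ↔ (c : G) ∈ Q := by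
  classical
  have hc : ∀ c : centralizer ({z} : Set G), (c : G) * z = z * c := fun c => mem_cent.mp c.2
  choose σ s hs using fun c : centralizer ({z} : Set G) => exists_act h hx hQ (hc c)
  let ρ : centralizer ({z} : Set G) →* Equiv.Perm (Fin 5) :=
    { toFun := σ
      map_one' := (act_unique h hx (hs 1) (act_one h)).1
      map_mul' := fun c d => (act_unique h hx (hs (c * d))
        (by rw [Subgroup.coe_mul]; exact act_mul h (hc c) (hs c) (hs d))).1 }
  refine ⟨ρ, fun c => ⟨s c, hs c⟩, fun c => ⟨fun h1 => ?_, fun h1 => ?_⟩⟩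
  · have h1' : σ c = 1 := h1
    have h2 := hs c
    rw [h1'] at h2
    have h3 := act_sum h hx (hc c) h2
    simp only [Equiv.Perm.sign_one, if_true] at h3
    obtain ⟨q, hq, hq2⟩ := exists_q h hx h3
    obtain ⟨a, ha⟩ := act_ext h hx hQ (hc c) (h.central _ hq) h2 hq2
    rw [ha]
    exact Q.mul_mem (zp_mem h.toXS a) hq
  · obtain ⟨t, _, ht⟩ := act_q h hx hQ h1
    exact (act_unique h hx (hs c) ht).1

theorem exists_hom_alt (hC : Nat.card (centralizer ({z} : Set G)) = 1920) :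
    ∃ ρ : centralizer ({z} : Set G) →* Equiv.Perm (Fin 5),
    (∀ c : centralizer ({z} : Set G), ∃ s, Act z x (c : G) (ρ c) s) ∧ (∀ c, ρ c = 1 ↔ (c : G) ∈ Q) ∧
      ρ.range = alternatingGroup (Fin 5) := by
  obtain ⟨ρ, h1, h2⟩ := exists_hom h hx hQ
  refine ⟨ρ, h1, h2, ?_⟩
  apply Equiv.Perm.eq_alternatingGroup_of_index_eq_two
  have hQle : Q ≤ centralizer ({z} : Set G) := fun q hq => mem_cent.mpr (h.central q hq)
  have hker : ρ.ker = Q.subgroupOf (centralizer ({z} : Set G)) := by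
    ext c
    rw [MonoidHom.mem_ker, h2, mem_subgroupOf]
  have e1 : Nat.card ρ.ker = 32 := by
    rw [hker, Nat.card_congr (Subgroup.subgroupOfEquivOfLe hQle).toEquiv, hQ]
  have e2 : Nat.card ρ.ker * Nat.card ρ.range = 1920 := by
    rw [← hC, ← Subgroup.card_mul_index ρ.ker, Subgroup.index_ker]
  have e3 : Nat.card ρ.range = 60 := by
    rw [e1] at e2; omega
  have e4 := Subgroup.card_mul_index ρ.range
  rw [e3, Nat.card_perm, Nat.card_eq_fintype_card, Fintype.card_fin,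
    show Nat.factorial 5 = 120 by decide] at e4
  omega

end

/-- everything about the action of `C_G(z)` on the five points -/
structure Base (Q : Subgroup G) (z : G) (x : Fin 5 → G) : Prop where
  pl : PL Q z
  pts : Pts Q z x
  cardQ : Nat.card Q = 32
  cardC : Nat.card (centralizer ({z} : Set G)) = 1920

namespace Base

variable (B : Base Q z x)

include B

/-- elements of `C_G(z)` induce even signed permutations -/
theorem act {c : G} (hc : c * z = z * c) :
    ∃ σ ∈ alternatingGroup (Fin 5), ∃ s, ∑ i, s i = 0 ∧ Act z x c σ s := by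
  obtain ⟨ρ, h1, h2, h3⟩ := exists_hom_alt B.pl B.pts B.cardQ B.cardC
  obtain ⟨s, hs⟩ := h1 ⟨c, mem_cent.mpr hc⟩
  have h4 : ρ ⟨c, mem_cent.mpr hc⟩ ∈ alternatingGroup (Fin 5) := by
    rw [← h3]; exact ⟨_, rfl⟩
  refine ⟨_, h4, s, ?_, hs⟩
  have := act_sum B.pl B.pts hc hs
  rw [if_pos (Equiv.Perm.mem_alternatingGroup.mp h4)] at this
  exact this

theorem mem_of_act_one {c : G} (hc : c * z = z * c) {s : Fin 5 → ZMod 2} (h1 : Act z x c 1 s) :
    c ∈ Q := by
  have h3 := act_sum B.pl B.pts hc h1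
  simp only [Equiv.Perm.sign_one, if_true] at h3
  obtain ⟨q, hq, hq2⟩ := exists_q B.pl B.pts h3
  obtain ⟨a, ha⟩ := act_ext B.pl B.pts B.cardQ hc (B.pl.central _ hq) h1 hq2
  rw [ha]
  exact Q.mul_mem (zp_mem B.pl.toXS a) hq

/-- every even signed permutation is induced -/
theorem exists_act {σ : Equiv.Perm (Fin 5)} (hσ : σ ∈ alternatingGroup (Fin 5)) {s : Fin 5 → ZMod 2}
    (hs : ∑ i, s i = 0) : ∃ c : G, c * z = z * c ∧ Act z x c σ s := by
  obtain ⟨ρ, h1, h2, h3⟩ := exists_hom_alt B.pl B.pts B.cardQ B.cardC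
  rw [← h3] at hσ
  obtain ⟨c, rfl⟩ := hσ
  obtain ⟨t, ht⟩ := h1 c
  have hc := mem_cent.mp c.2
  have ht2 := act_sum B.pl B.pts hc ht
  have h4 : ρ c ∈ alternatingGroup (Fin 5) := by
    rw [← h3]; exact ⟨_, rfl⟩
  rw [if_pos (Equiv.Perm.mem_alternatingGroup.mp h4)] at ht2
  have hr : ∑ i, (s ((ρ c)⁻¹ i) + t ((ρ c)⁻¹ i)) = 0 := by
    rw [Finset.sum_add_distrib, Equiv.sum_comp, Equiv.sum_comp, hs, ht2, add_zero]
  obtain ⟨q, hq, hq2⟩ := exists_q B.pl B.pts hr
  refine ⟨q * c, ?_, ?_⟩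
  · rw [mul_assoc, hc, ← mul_assoc, B.pl.central q hq, mul_assoc]
  · have := act_mul B.pl (B.pl.central q hq) hq2 ht
    intro i
    rw [this i]
    simp only [one_mul]
    congr 2
    have e : (ρ c)⁻¹ ((ρ c) i) = i := by simp
    rw [e]
    have key : ∀ a b : ZMod 2, a + (b + a) = b := by decide
    exact key _ _

theorem ext {c d : G} (hc : c * z = z * c) (hd : d * z = z * d) {σ : Equiv.Perm (Fin 5)}
    {s : Fin 5 → ZMod 2} (h1 : Act z x c σ s) (h2 : Act z x d σ s) : ∃ a, c = zp z a * d :=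
  act_ext B.pl B.pts B.cardQ hc hd h1 h2

end Base

end Cfsg.Agent.LE
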