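import Cfsg.Agent.LE.J2Hom

/-!
Involutions of `C_G(z)` outside `Q`, for `Q = 2^{1+4}_-`, `C_G(z)/Q = A₅` (owner: helper58).
-/
set_option autoImplicit false

namespace Cfsg.Agent.LE

open Subgroup Cfsg.Agent.H90

variable {G : Type*} [Group G] [Finite G] {Q : Subgroup G} {z : G} {x : Fin 5 → G}

/-- `(0 1)(2 3)` -/
def t1 : Equiv.Perm (Fin 5) := Equiv.swap 0 1 * Equiv.swap 2 3

/-- `(0 2)(1 3)` -/
def t2 : Equiv.Perm (Fin 5) := Equiv.swap 0 2 * Equiv.swap 1 3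

/-- `(0 3)(1 2)` -/
def t3 : Equiv.Perm (Fin 5) := Equiv.swap 0 3 * Equiv.swap 1 2

theorem t1_mem : t1 ∈ alternatingGroup (Fin 5) := Equiv.Perm.mem_alternatingGroup.mpr (by decide)
theorem t2_mem : t2 ∈ alternatingGroup (Fin 5) := Equiv.Perm.mem_alternatingGroup.mpr (by decide)
theorem t3_mem : t3 ∈ alternatingGroup (Fin 5) := Equiv.Perm.mem_alternatingGroup.mpr (by decide)

set_option maxRecDepth 100000 in
theorem conj_std : ∀ σ : Equiv.Perm (Fin 5), Equiv.Perm.sign σ = 1 → σ * σ = 1 → σ ≠ 1 →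
    ∃ π : Equiv.Perm (Fin 5), Equiv.Perm.sign π = 1 ∧ π⁻¹ * σ * π = t1 := by
  decide

set_option maxRecDepth 100000 in
theorem cent_t1 : ∀ σ : Equiv.Perm (Fin 5), Equiv.Perm.sign σ = 1 → σ * t1 = t1 * σ →
    σ = 1 ∨ σ = t1 ∨ σ = t2 ∨ σ = t3 := by
  decide

theorem even_split : ∀ r : Fin 5 → ZMod 2, ∑ i, r i = 0 → (∀ i, r i + r (t1 i) = 0) →
    ∃ y : Fin 5 → ZMod 2, ∑ i, y i = 0 ∧ ∀ i, y i + y (t1 i) = r i := by
  decide

theorem even_fix : ∀ r : Fin 5 → ZMod 2, ∑ i, r i = 0 → (∀ i, r (t1 i) = r i) →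
    r = 0 ∨ (r = fun j => if j = 4 then 0 else 1) ∨ (r = fun k => if k = 0 ∨ k = 1 then 1 else 0) ∨
      (r = fun k => if k = 2 ∨ k = 3 then 1 else 0) := by
  decide

namespace Base

section

variable (B : Base Q z x)

include B

set_option linter.unusedSectionVars false

/-- change of labels and signs -/
theorem relabel (π : Equiv.Perm (Fin 5)) (a : Fin 5 → ZMod 2) :
    Base Q z (fun i => zp z (a i) * x (π i)) where
  pl := B.pl
  cardQ := B.cardQ
  cardC := B.cardC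
  pts := by
    have hxz := B.pts.comm_z B.pl
    refine ⟨fun i => Q.mul_mem (zp_mem B.pl.toXS _) (B.pts.mem _), fun i => ?_, fun i j hij => ?_, ?_⟩
    · rw [zp_mul_zp_aux B.pl hxz, B.pts.sq, CharTwo.add_self_eq_zero, zp_zero, one_mul]
    · rw [zp_mul_zp_aux B.pl hxz, zp_mul_zp_aux B.pl hxz, B.pts.anti _ _ (fun hh => hij (π.injective hh)),
        add_comm (a j), ← mul_assoc z (zp z _), zp_comm (c := z) rfl, mul_assoc]
    · have e : ∀ w : G, zp z (a 3) * x (π 3) * (zp z (a 4) * w) = zp z (a 3 + a 4) * (x (π 3) * w) :=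
        fun w => zp_mul_zp_aux B.pl hxz _ _ _ _
      rw [zp_mul_zp_aux B.pl hxz, zp_mul_zp_aux B.pl hxz, zp_mul_zp_aux B.pl hxz,
        zp_mul_zp_aux B.pl hxz, perm_prod B.pl B.pts π]
      obtain ⟨b, hb⟩ := prod_mem B.pl B.pts
      rw [hb, ← zp_add B.pl.toXS, ← zp_add B.pl.toXS]
      rcases zp_cases (z := z) (a 0 + (a 1 + (a 2 + (a 3 + a 4))) +
        ((if Equiv.Perm.sign π = 1 then 0 else 1) + b)) with ⟨_, h1⟩ | ⟨_, h1⟩
      · exact Or.inl h1
      · exact Or.inr h1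

theorem act_relabel (π : Equiv.Perm (Fin 5)) (a : Fin 5 → ZMod 2) {c : G} (hc : c * z = z * c)
    {σ : Equiv.Perm (Fin 5)} {s : Fin 5 → ZMod 2} (h1 : Act z x c σ s) :
    Act z (fun i => zp z (a i) * x (π i)) c (π⁻¹ * σ * π)
      (fun i => a i + s (π i) + a ((π⁻¹ * σ * π) i)) := by
  intro i
  have e1 : c * (zp z (a i) * x (π i)) * c⁻¹ = (c * zp z (a i)) * x (π i) * c⁻¹ := by group
  rw [e1, zp_comm hc]
  have e2 : zp z (a i) * c * x (π i) * c⁻¹ = zp z (a i) * (c * x (π i) * c⁻¹) := by group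
  rw [e2, h1, ← mul_assoc, ← zp_add B.pl.toXS]
  have e3 : π ((π⁻¹ * σ * π) i) = σ (π i) := by simp
  simp only [e3]
  rw [← mul_assoc, ← zp_add B.pl.toXS]
  congr 2
  have key : ∀ a b c : ZMod 2, a + b = a + b + c + c := by decide
  exact key _ _ _

theorem sigma_ne_one {v : G} (hv : v ∉ Q) (hvz : v * z = z * v) {σ : Equiv.Perm (Fin 5)}
    {s : Fin 5 → ZMod 2} (h1 : Act z x v σ s) : σ ≠ 1 := by
  rintro rfl
  exact hv (B.mem_of_act_one hvz h1)

theorem sq_act {v : G} (hvz : v * z = z * v) (hvv : v * v = 1 ∨ v * v = z) {σ : Equiv.Perm (Fin 5)}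
    {s : Fin 5 → ZMod 2} (h1 : Act z x v σ s) : σ * σ = 1 ∧ ∀ i, s i + s (σ i) = 0 := by
  have h2 := act_mul B.pl hvz h1 h1
  have h3 : Act z x (v * v) 1 0 := by
    rcases hvv with h4 | h4
    · rw [h4]; exact act_one B.pl
    · have h5 := act_zp B.pl 1 (B.pts.comm_z B.pl)
      rw [zp_one] at h5
      rw [h4]; exact h5
  obtain ⟨h4, h5⟩ := act_unique B.pl B.pts h2 h3
  exact ⟨h4, fun i => congrFun h5 i⟩

/-- normal form of an involution outside `Q` -/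
theorem normal_form {v : G} (hvz : v * z = z * v) (hv : v ∉ Q) (hvv : v * v = 1) :
    ∃ x' : Fin 5 → G, Base Q z x' ∧ Act z x' v t1 0 := by
  obtain ⟨σ, hσ, s, hs, h1⟩ := B.act hvz
  obtain ⟨h2, h3⟩ := B.sq_act hvz (Or.inl hvv) h1
  obtain ⟨π, hπ, hπσ⟩ := conj_std σ (Equiv.Perm.mem_alternatingGroup.mp hσ) h2 (B.sigma_ne_one hv hvz h1)
  have B1 := B.relabel π 0
  have h4 := B.act_relabel π 0 hvz h1
  rw [hπσ] at h4
  have h5 : ∃ s', ∑ i, s' i = 0 ∧ Act z (fun i => zp z ((0 : Fin 5 → ZMod 2) i) * x (π i)) v t1 s' := by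
    refine ⟨_, ?_, h4⟩
    have := act_sum B1.pl B1.pts hvz h4
    rw [this, if_pos (Equiv.Perm.mem_alternatingGroup.mp t1_mem)]
  obtain ⟨s', hs', h6⟩ := h5
  obtain ⟨_, h7⟩ := B1.sq_act hvz (Or.inl hvv) h6
  obtain ⟨y, _, hy⟩ := even_split s' hs' h7
  refine ⟨_, B1.relabel 1 y, ?_⟩
  have h8 := B1.act_relabel 1 y hvz h6
  intro i
  rw [h8 i]
  simp only [inv_one, one_mul, mul_one, Equiv.Perm.coe_one, id]
  congr 2
  have key : ∀ a b c : ZMod 2, a + c = b → a + b + c = 0 := by decide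
  exact key _ _ _ (hy i)

end

section

variable (B : Base Q z x) {v : G} (hvz : v * z = z * v) (hvv : v * v = 1) (hact : Act z x v t1 0)

include B hvz hvv hact
set_option linter.unusedSectionVars false

theorem nf_conj (i : Fin 5) : v * x i = x (t1 i) * v := by
  have := hact i
  rw [mul_inv_eq_iff_eq_mul] at this
  simpa [zp_zero] using this

/-- an element of `Q` inverted... moving `v` to `z v` -/
theorem nf_flip : (x 0 * x 1) * v * (x 0 * x 1)⁻¹ = z * v := by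
  have h0 : v * x 0 = x 1 * v := B.nf_conj hvz hvv hact 0
  have h1 : v * x 1 = x 0 * v := B.nf_conj hvz hvv hact 1
  have i0 := B.pts.inv B.pl 0
  have i1 := B.pts.inv B.pl 1
  rw [mul_inv_rev, i0, i1]
  calc x 0 * x 1 * v * (x 1 * x 0) = x 0 * x 1 * (v * x 1) * x 0 := by group
    _ = x 0 * x 1 * x 0 * (v * x 0) := by rw [h1]; group
    _ = (x 0 * x 1) * (x 0 * x 1) * v := by rw [h0]; group
    _ = z * v := by
      have := sq_pair B.pl B.pts B.cardQ (i := 0) (j := 1) (by decide) 0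
      rw [zp_zero, one_mul] at this
      rw [this]

theorem nf_lemmaA {w : G} (hwz : w * z = z * w) (hwv : w * v⁻¹ ∈ Q) (hww : w * w = 1 ∨ w * w = z) :
    ∃ y ∈ Q, y * v * y⁻¹ = w := by
  obtain ⟨r, hr, hr2⟩ := act_q B.pl B.pts B.cardQ hwv
  have h1 := act_mul B.pl (B.pl.central _ hwv) hr2 hact
  have h2 : w * v⁻¹ * v = w := by group
  rw [h2] at h1
  obtain ⟨h3, h4⟩ := B.sq_act hwz hww h1
  have h5 := act_sum B.pl B.pts hwz h1
  rw [if_pos (by rw [one_mul]; exact Equiv.Perm.mem_alternatingGroup.mp t1_mem)] at h5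
  obtain ⟨y, hy, hy2⟩ := even_split _ h5 (by simpa using h4)
  obtain ⟨q, hq, hq2⟩ := exists_q B.pl B.pts hy
  have hqz := B.pl.central q hq
  have h6 := act_mul B.pl (c := q * v) (by rw [mul_assoc, hvz, ← mul_assoc, hqz, mul_assoc])
    (act_mul B.pl hqz hq2 hact) (act_inv B.pl hqz hq2)
  have h7 : q * v * q⁻¹ * z = z * (q * v * q⁻¹) := by
    have hqi : q⁻¹ * z = z * q⁻¹ := by rw [inv_mul_eq_iff_eq_mul, ← mul_assoc, hqz]; group
    rw [mul_assoc, hqi, ← mul_assoc, mul_assoc q v z, hvz, ← mul_assoc q z v, hqz]; group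
  have h8 : Act z x w t1 (fun i => y i + y (t1 i)) := by
    intro i
    rw [h1 i, one_mul]
    congr 2
    exact (hy2 i).symm
  have h6' : Act z x (q * v * q⁻¹) t1 (fun i => y i + y (t1 i)) := by
    intro i
    rw [h6 i]
    simp
  obtain ⟨a, ha⟩ := B.ext hwz h7 h8 h6'
  rcases zp_cases (z := z) a with ⟨_, h9⟩ | ⟨_, h9⟩
  · exact ⟨q, hq, by rw [ha, h9, one_mul]⟩
  · refine ⟨q * (x 0 * x 1), Q.mul_mem hq (Q.mul_mem (B.pts.mem _) (B.pts.mem _)), ?_⟩
    calc q * (x 0 * x 1) * v * (q * (x 0 * x 1))⁻¹ = q * ((x 0 * x 1) * v * (x 0 * x 1)⁻¹) * q⁻¹ := by group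
      _ = q * z * v * q⁻¹ := by rw [B.nf_flip hvz hvv hact]; group
      _ = z * (q * v * q⁻¹) := by rw [hqz]; group
      _ = w := by rw [ha, h9]

/-- the centralizer of `v` in `Q` -/
theorem nf_centQ {q : G} (hq : q ∈ Q) (hqv : q * v = v * q) :
    (∃ a, q = zp z a) ∨ ∃ a, q = zp z a * x 4 := by
  obtain ⟨r, hr, hr2⟩ := act_q B.pl B.pts B.cardQ hq
  have hqz := B.pl.central q hq
  have h1 := act_mul B.pl hqz hr2 hact
  have h2 := act_mul B.pl hvz hact hr2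
  rw [hqv] at h1
  have h3 := (act_unique B.pl B.pts h1 h2).2
  have h4 : ∀ i, r (t1 i) = r i := by
    intro i
    have := congrFun h3 i
    simpa using this
  have hx0 : v * x 0 = x 1 * v := B.nf_conj hvz hvv hact 0
  have hx1 : v * x 1 = x 0 * v := B.nf_conj hvz hvv hact 1
  have hx2 : v * x 2 = x 3 * v := B.nf_conj hvz hvv hact 2
  have hx3 : v * x 3 = x 2 * v := B.nf_conj hvz hvv hact 3
  -- pairs do not commute
  have pair : ∀ i j, i ≠ j → v * x i = x j * v → v * x j = x i * v → ∀ a, q ≠ zp z a * (x i * x j) := by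
    intro i j hij hi hj a ha
    rw [ha] at hqv
    have e1 : v * (zp z a * (x i * x j)) = zp z a * (x j * x i) * v := by
      rw [← mul_assoc, zp_comm hvz, mul_assoc, ← mul_assoc v, hi, mul_assoc (x j), hj]
      simp only [mul_assoc]
    rw [e1] at hqv
    have e2 := mul_left_cancel (mul_right_cancel hqv)
    rw [B.pts.anti i j hij] at e2
    exact B.pl.ne_one (by simpa using e2)
  rcases even_fix r hr h4 with rfl | rfl | rfl | rfl
  · exact Or.inl (act_trivial B.pl B.pts B.cardQ hq hr2)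
  · right
    exact B.ext hqz (B.pts.comm_z B.pl 4) hr2 (act_self B.pl B.pts 4)
  · exfalso
    obtain ⟨a, ha⟩ := B.ext hqz (B.pl.central _ (Q.mul_mem (B.pts.mem 0) (B.pts.mem 1))) hr2
      (act_pair B.pl B.pts (i := 0) (j := 1) (by decide))
    exact pair 0 1 (by decide) hx0 hx1 a ha
  · exfalso
    obtain ⟨a, ha⟩ := B.ext hqz (B.pl.central _ (Q.mul_mem (B.pts.mem 2) (B.pts.mem 3))) hr2
      (act_pair B.pl B.pts (i := 2) (j := 3) (by decide))
    exact pair 2 3 (by decide) hx2 hx3 a ha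

end

/-- Lemma A: an element of the coset `Qv` with central square is conjugate to `v` under `Q`. -/
theorem lemmaA (B : Base Q z x) {v w : G} (hvz : v * z = z * v) (hv : v ∉ Q) (hvv : v * v = 1)
    (hwz : w * z = z * w) (hwv : w * v⁻¹ ∈ Q) (hww : w * w = 1 ∨ w * w = z) :
    ∃ y ∈ Q, y * v * y⁻¹ = w := by
  obtain ⟨x', B', h1⟩ := B.normal_form hvz hv hvv
  exact B'.nf_lemmaA hvz hvv h1 hwz hwv hww

omit [Finite G] in
theorem comm_conj {c v z : G} (hcz : c * z = z * c) (hvz : v * z = z * v) :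
    c * v * c⁻¹ * z = z * (c * v * c⁻¹) := by
  have hci : c⁻¹ * z = z * c⁻¹ := by rw [inv_mul_eq_iff_eq_mul, ← mul_assoc, hcz]; group
  calc c * v * c⁻¹ * z = c * v * (c⁻¹ * z) := by group
    _ = c * (v * z) * c⁻¹ := by rw [hci]; group
    _ = (c * z) * v * c⁻¹ := by rw [hvz]; group
    _ = z * (c * v * c⁻¹) := by rw [hcz]; group

/-- all involutions of `C_G(z)` outside `Q` are conjugate in `C_G(z)`; more generally any element
with central square outside `Q` is conjugate to a given involution. -/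
theorem conj_involution (B : Base Q z x) {v w : G} (hvz : v * z = z * v) (hv : v ∉ Q) (hvv : v * v = 1)
    (hwz : w * z = z * w) (hw : w ∉ Q) (hww : w * w = 1 ∨ w * w = z) :
    ∃ c, c * z = z * c ∧ c * v * c⁻¹ = w := by
  obtain ⟨σ, hσ, s, hs, h1⟩ := B.act hvz
  obtain ⟨τ, hτ, t, ht, h2⟩ := B.act hwz
  obtain ⟨h3, -⟩ := B.sq_act hvz (Or.inl hvv) h1
  obtain ⟨h4, -⟩ := B.sq_act hwz hww h2
  obtain ⟨π, hπ, hπσ⟩ := conj_std σ (Equiv.Perm.mem_alternatingGroup.mp hσ) h3 (B.sigma_ne_one hv hvz h1)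
  obtain ⟨ϖ, hϖ, hϖτ⟩ := conj_std τ (Equiv.Perm.mem_alternatingGroup.mp hτ) h4 (B.sigma_ne_one hw hwz h2)
  obtain ⟨c, hcz, hc⟩ := B.exists_act (σ := ϖ * π⁻¹) (mul_mem (Equiv.Perm.mem_alternatingGroup.mpr hϖ)
    (inv_mem (Equiv.Perm.mem_alternatingGroup.mpr hπ))) (s := 0) (by simp)
  have hcv := act_mul B.pl (by rw [mul_assoc, hvz, ← mul_assoc, hcz, mul_assoc])
    (act_mul B.pl hcz hc h1) (act_inv B.pl hcz hc)
  have hτ' : ϖ * π⁻¹ * σ * (ϖ * π⁻¹)⁻¹ = τ := by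
    have : ϖ * (π⁻¹ * σ * π) * ϖ⁻¹ = ϖ * (ϖ⁻¹ * τ * ϖ) * ϖ⁻¹ := by rw [hπσ, hϖτ]
    calc ϖ * π⁻¹ * σ * (ϖ * π⁻¹)⁻¹ = ϖ * (π⁻¹ * σ * π) * ϖ⁻¹ := by group
      _ = ϖ * (ϖ⁻¹ * τ * ϖ) * ϖ⁻¹ := this
      _ = τ := by group
  have hz' := comm_conj hcz hvz
  have hq : w * (c * v * c⁻¹)⁻¹ ∈ Q := by
    have h5 := act_mul B.pl hwz h2 (act_inv B.pl hz' hcv)
    rw [hτ'] at h5
    apply B.mem_of_act_one _ (by simpa using h5)
    rw [mul_assoc, show (c * v * c⁻¹)⁻¹ * z = z * (c * v * c⁻¹)⁻¹ by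
      rw [inv_mul_eq_iff_eq_mul, ← mul_assoc, hz']; group, ← mul_assoc, hwz, mul_assoc]
  have hvQ : c * v * c⁻¹ ∉ Q := by
    intro h6
    apply hv
    have hci : c⁻¹ * z = z * c⁻¹ := by rw [inv_mul_eq_iff_eq_mul, ← mul_assoc, hcz]; group
    have := B.pl.norm c⁻¹ hci _ h6
    have e : c⁻¹ * (c * v * c⁻¹) * c⁻¹⁻¹ = v := by group
    rwa [e] at this
  have hsq : c * v * c⁻¹ * (c * v * c⁻¹) = 1 := by
    have e : c * v * c⁻¹ * (c * v * c⁻¹) = c * (v * v) * c⁻¹ := by group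
    rw [e, hvv]; simp
  obtain ⟨y, hy, hyw⟩ := B.lemmaA hz' hvQ hsq hwz hq hww
  refine ⟨y * c, ?_, ?_⟩
  · rw [mul_assoc, hcz, ← mul_assoc, B.pl.central y hy, mul_assoc]
  · rw [← hyw]; group

/-- elements outside `Q` with central square are involutions -/
theorem sq_eq_one (B : Base Q z x) {v w : G} (hvz : v * z = z * v) (hv : v ∉ Q) (hvv : v * v = 1)
    (hwz : w * z = z * w) (hw : w ∉ Q) (hww : w * w = 1 ∨ w * w = z) : w * w = 1 := by
  obtain ⟨c, _, hc⟩ := B.conj_involution hvz hv hvv hwz hw hww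
  have e : c * v * c⁻¹ * (c * v * c⁻¹) = c * (v * v) * c⁻¹ := by group
  rw [← hc, e, hvv]; simp

end Base

end Cfsg.Agent.LE
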