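import Cfsg.Agent.LE.J2N
import Cfsg.Agent.LE.Gen
import Cfsg.Agent.LE.J2Loc

/-!
The normalizer of `E` in a group of `J₂` type (owner: helper58).
-/
set_option autoImplicit false

namespace Cfsg.Agent.LE

open Subgroup Cfsg.Agent.H90
open scoped commutatorElement

variable {G : Type*} [Group G] [Finite G] {Q : Subgroup G} {z v : G} {x : Fin 5 → G}

theorem a5_center {L : Type*} [Group L] (e : L ≃* alternatingGroup (Fin 5)) {l : L}
    (h : ∀ m : L, m * l = l * m) : l = 1 := by
  have h1 : e l ∈ Subgroup.center (alternatingGroup (Fin 5)) := by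
    rw [Subgroup.mem_center_iff]
    intro g
    obtain ⟨m, rfl⟩ := e.surjective g
    rw [← map_mul, h, map_mul]
  rw [alternatingGroup.center_eq_bot (by simp), Subgroup.mem_bot] at h1
  rwa [MulEquiv.map_eq_one_iff] at h1

theorem a5_card : Nat.card (alternatingGroup (Fin 5)) = 60 := by
  rw [nat_card_alternatingGroup, Nat.card_eq_fintype_card, Fintype.card_fin]
  rfl

namespace J2M

variable {E L : Subgroup G} (S : J2Set Q z x v) (W : J2M Q z v E L)

include S W
set_option linter.unusedSectionVars false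

theorem Ez {e : G} (he : e ∈ E) : e * z = z * e := (mem_inf_cent.mp (W.EP he)).1 |> mem_cent.mp

theorem Evc {e : G} (he : e ∈ E) : e * v = v * e := (mem_inf_cent.mp (W.EP he)).2

theorem EnotQ {e : G} (he : e ∈ E) (he1 : e ≠ 1) : e ∉ Q := by
  intro h
  apply he1
  have h1 : e ∈ E ⊓ L := ⟨he, W.QL (mem_inf_cent.mpr ⟨h, W.Evc S he⟩)⟩
  rw [W.inf] at h1
  exact mem_bot.mp h1

theorem Econj {e : G} (he : e ∈ E) (he1 : e ≠ 1) : IsConj v e :=
  S.conj_of_out (W.Ez S he) (W.EnotQ S he he1) (W.Esq S he)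

theorem Ecomm {e f : G} (he : e ∈ E) (hf : f ∈ E) : e * f = f * e := by
  have h1 := W.Esq S he
  have h2 := W.Esq S hf
  have h3 := W.Esq S (E.mul_mem he hf)
  calc e * f = (f * f) * (e * f) * (e * e) := by rw [h1, h2, one_mul, mul_one]
    _ = f * ((f * e) * (f * e)) * e := by group
    _ = f * e := by rw [W.Esq S (E.mul_mem hf he), mul_one]

theorem centE {e : G} (he : e ∈ E) (he1 : e ≠ 1) : centralizer ({e} : Set G) = E ⊔ L := by
  symm
  have hle : E ⊔ L ≤ centralizer ({e} : Set G) := by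
    rw [sup_le_iff]
    constructor
    · intro f hf
      exact mem_cent.mpr (W.Ecomm S hf he)
    · intro l hl
      exact mem_cent.mpr (W.comm e he l hl).symm
  apply Subgroup.eq_of_le_of_card_ge hle
  obtain ⟨g, hg⟩ := isConj_iff.mp (W.Econj S he he1)
  rw [W.sup]
  apply le_of_eq
  apply Nat.card_congr
  refine ⟨fun a => ⟨g⁻¹ * a * g, ?_⟩, fun a => ⟨g * a * g⁻¹, ?_⟩, fun a => ?_, fun a => ?_⟩
  · have h2 := conj_comm (g := g⁻¹) (mem_cent.mp a.2)
    have e1 : g⁻¹ * e * g⁻¹⁻¹ = v := by rw [← hg]; group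
    rw [e1, inv_inv] at h2
    rw [mem_cent]
    exact h2
  · have := mem_cent.mp a.2
    rw [mem_cent, ← hg]
    exact conj_comm this
  · apply Subtype.ext; simp [mul_assoc]
  · apply Subtype.ext; simp [mul_assoc]

/-- `E` is the centre of `C(v)` -/
theorem mem_E {m : G} (hm : m * v = v * m) (h : ∀ l ∈ L, m * l = l * m) : m ∈ E := by
  obtain ⟨e, he, l, hl, rfl⟩ := (W.mem_M S).mp hm
  obtain ⟨eL⟩ := W.eL
  have h1 : (⟨l, hl⟩ : L) = 1 := by
    apply a5_center eL
    intro m
    apply Subtype.ext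
    change (m : G) * l = l * m
    have h2 := h m m.2
    have h3 := W.comm e he m m.2
    have h4 : e * (l * m) = e * (m * l) := by
      calc e * (l * m) = e * l * m := by group
        _ = m * (e * l) := h2
        _ = (m * e) * l := by group
        _ = e * (m * l) := by rw [← h3]; group
    exact (mul_left_cancel h4).symm
  have h5 : l = 1 := congrArg Subtype.val h1
  rw [h5, mul_one]
  exact he

theorem mem_cent_E {e m : G} (he : e ∈ E) (he1 : e ≠ 1) : m * e = e * m ↔ m * v = v * m := by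
  rw [← mem_cent, ← mem_cent, W.centE S he he1, W.sup]

/-- elements of `G` conjugating `v` into `E` normalise `E` -/
theorem norm_of_conj {g : G} (hg : g * v * g⁻¹ ∈ E) : ∀ e ∈ E, g * e * g⁻¹ ∈ E := by
  have hne : g * v * g⁻¹ ≠ 1 := conj_ne_one S.v1
  intro e he
  have key : ∀ m : G, m * v = v * m → g⁻¹ * m * g * v = v * (g⁻¹ * m * g) := by
    intro m hm
    rw [← W.mem_cent_E S hg hne] at hm
    have := conj_comm (g := g⁻¹) hm
    simpa [mul_assoc] using this
  apply W.mem_E S
  · rw [← W.mem_cent_E S hg hne]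
    exact conj_comm (W.Evc S he)
  · intro l hl
    have h1 := key l (W.Lv S hl)
    have h2 : (g⁻¹ * l * g) * e = e * (g⁻¹ * l * g) := by
      by_cases he1 : e = 1
      · rw [he1, mul_one, one_mul]
      · exact (W.mem_cent_E S he he1).mpr h1
    have h3 := conj_comm (g := g) h2
    have e1 : g * (g⁻¹ * l * g) * g⁻¹ = l := by group
    rw [e1] at h3
    exact h3.symm

theorem mem_norm {g : G} : g ∈ normalizer (E : Set G) ↔ g * v * g⁻¹ ∈ E := by
  constructor
  · intro h
    exact (mem_normalizer_iff.mp h v).mp W.vE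
  · intro h
    exact mem_normalizer_fintype (fun n hn => W.norm_of_conj S h n hn)

theorem orbitE {w : G} : (∃ h ∈ normalizer (E : Set G), h * v * h⁻¹ = w) ↔ w ∈ E ∧ w ≠ 1 := by
  constructor
  · rintro ⟨h, hh, rfl⟩
    exact ⟨(W.mem_norm S).mp hh, conj_ne_one S.v1⟩
  · rintro ⟨hw, hw1⟩
    obtain ⟨g, hg⟩ := isConj_iff.mp (W.Econj S hw hw1)
    exact ⟨g, (W.mem_norm S).mpr (by rw [hg]; exact hw), hg⟩

theorem norm_inf : normalizer (E : Set G) ⊓ centralizer ({v} : Set G) = centralizer ({v} : Set G) := by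
  apply inf_eq_right.mpr
  intro g hg
  rw [W.mem_norm S, mul_inv_eq_of_eq_mul (mem_cent.mp hg)]
  exact W.vE

theorem cardN : Nat.card (normalizer (E : Set G)) = 720 := by
  rw [card_orbit (normalizer (E : Set G)) v, W.norm_inf S, W.cardM S]
  have : Nat.card {w : G // ∃ h ∈ normalizer (E : Set G), h * v * h⁻¹ = w} = 3 := by
    have h1 : Nat.card {w : G // ∃ h ∈ normalizer (E : Set G), h * v * h⁻¹ = w} =
        Nat.card {w : E // w ≠ 1} := by
      apply Nat.card_congr
      refine ⟨fun w => ⟨⟨w, ((W.orbitE S).mp w.2).1⟩, fun h => ((W.orbitE S).mp w.2).2 (congrArg Subtype.val h)⟩,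
        fun w => ⟨w.1, (W.orbitE S).mpr ⟨w.1.2, fun h => w.2 (Subtype.ext h)⟩⟩, fun _ => rfl, fun _ => rfl⟩
    rw [h1]
    classical
    have _ := Fintype.ofFinite E
    rw [Nat.card_eq_fintype_card, Fintype.card_subtype_compl, Fintype.card_subtype_eq,
      ← Nat.card_eq_fintype_card, W.cardE]
  rw [this]

theorem E_le_N : E ≤ normalizer (E : Set G) := le_normalizer

theorem M_le_N : centralizer ({v} : Set G) ≤ normalizer (E : Set G) := by
  rw [← W.norm_inf S]; exact inf_le_left

theorem L_le_N : L ≤ normalizer (E : Set G) :=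
  fun _ hl => W.M_le_N S (mem_cent.mpr (W.Lv S hl))

theorem L_norm {n l : G} (hn : n ∈ normalizer (E : Set G)) (hl : l ∈ L) : n * l * n⁻¹ ∈ L := by
  have h1 := (W.mem_norm S).mp hn
  have h2 : n * v * n⁻¹ ≠ 1 := conj_ne_one S.v1
  have hmap : L.map (MulAut.conj n).toMonoidHom ≤ L := by
    conv_lhs => rw [W.gen]
    rw [MonoidHom.map_closure, closure_le]
    rintro _ ⟨a, ⟨ha1, ha2⟩, rfl⟩
    rw [W.gen]
    apply Subgroup.subset_closure
    refine ⟨?_, ?_⟩
    · rw [mem_cent, ← W.mem_cent_E S h1 h2]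
      exact conj_comm (mem_cent.mp ha1)
    · change (orderOf ((MulAut.conj n) a)).Coprime 2
      rw [MulEquiv.orderOf_eq]
      exact ha2
  exact hmap ⟨l, hl, rfl⟩

end J2M

/-- the third factor -/
theorem J2M.exists_K {E L : Subgroup G} (S : J2Set Q z x v) (W : J2M Q z v E L) :
    ∃ K : Subgroup G, Nonempty (K ≃* alternatingGroup (Fin 4)) ∧ E ≤ K ∧
      (∀ k ∈ K, ∀ l ∈ L, k * l = l * k) ∧ K ⊓ L = ⊥ ∧ normalizer (E : Set G) = K ⊔ L := by
  classical
  obtain ⟨eL⟩ := W.eL
  let N := normalizer (E : Set G)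
  have hLN : L ≤ N := W.L_le_N S
  let L' : Subgroup N := L.subgroupOf N
  have _ : L'.Normal := ⟨fun l hl n => W.L_norm S n.2 hl⟩
  let e' : L' ≃* alternatingGroup (Fin 5) := (subgroupOfEquivOfLe hLN).trans eL
  obtain ⟨ψ, hψ, hker⟩ := a5_ext L' e'
  let K : Subgroup G := (ψ.ker).map N.subtype
  have memK : ∀ k, k ∈ K ↔ k ∈ N ∧ ∀ l ∈ L, k * l = l * k := by
    intro k
    constructor
    · rintro ⟨k', hk', rfl⟩
      refine ⟨k'.2, fun l hl => ?_⟩
      rw [SetLike.mem_coe, hker, mem_centralizer_iff] at hk'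
      exact (congrArg Subtype.val (hk' ⟨l, hLN hl⟩ hl)).symm
    · rintro ⟨hk, h⟩
      refine ⟨⟨k, hk⟩, ?_, rfl⟩
      rw [SetLike.mem_coe, hker, mem_centralizer_iff]
      intro l hl
      exact Subtype.ext (h l hl).symm
  have hKN : K ≤ N := fun k hk => ((memK k).mp hk).1
  have hEK : E ≤ K := fun e he => (memK e).mpr ⟨le_normalizer he, fun l hl => W.comm e he l hl⟩
  have hcomm : ∀ k ∈ K, ∀ l ∈ L, k * l = l * k := fun k hk => ((memK k).mp hk).2
  have hinf : K ⊓ L = ⊥ := by
    rw [eq_bot_iff]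
    rintro l ⟨hk, hl⟩
    have h1 : (⟨l, hl⟩ : L) = 1 := a5_center eL (fun m => Subtype.ext (hcomm l hk m m.2).symm)
    exact mem_bot.mpr (congrArg Subtype.val h1)
  have hcardL : Nat.card L = 60 := W.cardL S
  have hcardN : Nat.card N = 720 := W.cardN S
  -- the order of K
  have hcardK : Nat.card K = 12 := by
    have h1 : Nat.card K = Nat.card ψ.ker := card_map_sub _
    have h2 : Nat.card N = Nat.card ψ.ker * Nat.card ψ.range := by
      rw [Subgroup.card_eq_card_quotient_mul_card_subgroup ψ.ker, mul_comm,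
        Nat.card_congr (QuotientGroup.quotientKerEquivRange ψ).toEquiv]
    have h3 : alternatingGroup (Fin 5) ≤ ψ.range := by
      intro σ hσ
      obtain ⟨l, hl⟩ := e'.surjective ⟨σ, hσ⟩
      exact ⟨l, by rw [hψ, hl]⟩
    have h4 : 60 ∣ Nat.card ψ.range := by
      rw [← a5_card]; exact Subgroup.card_dvd_of_le h3
    have h5 : Nat.card ψ.range ∣ 120 := by
      have := Subgroup.card_subgroup_dvd_card ψ.range
      rw [Nat.card_perm, Nat.card_fin] at this
      exact this
    have h6 : 4 ∣ Nat.card K := by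
      rw [← W.cardE]; exact Subgroup.card_dvd_of_le hEK
    rw [hcardN, ← h1] at h2
    obtain ⟨a, ha⟩ := h4
    rw [ha] at h5 h2
    have h7 : a ∣ 2 := (Nat.mul_dvd_mul_iff_left (by norm_num : 0 < 60)).mp h5
    rcases (Nat.dvd_prime Nat.prime_two).mp h7 with rfl | rfl
    · omega
    · omega
  have hsup : N = K ⊔ L := by
    symm
    apply Subgroup.eq_of_le_of_card_ge (sup_le hKN hLN)
    rw [card_sup_comm hcomm hinf, hcardK, hcardL, hcardN]
  refine ⟨K, ?_, hEK, hcomm, hinf, hsup⟩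
  -- K ≅ A₄
  have : Fact (Nat.Prime 3) := ⟨by norm_num⟩
  obtain ⟨y, hy⟩ := exists_prime_orderOf_dvd_card' (G := K) 3 (by rw [hcardK]; norm_num)
  apply iso_a4 hcardK (zpowers y) (by rw [Nat.card_zpowers, hy])
  intro hnorm
  -- y commutes with E
  have hyE : ∀ e ∈ E, (y : G) * e = e * y := by
    intro e he
    have hEy : ∀ e ∈ E, (y : G) * e * (y : G)⁻¹ ∈ E := fun e he =>
      (mem_normalizer_iff.mp (hKN y.2) e).mp he
    let e' : K := ⟨e, hEK he⟩
    have h1 : e' * y * e'⁻¹ * y⁻¹ ∈ zpowers y :=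
      mul_mem (hnorm.conj_mem y (mem_zpowers y) e') (inv_mem (mem_zpowers y))
    have h2 : ((e' * y * e'⁻¹ * y⁻¹ : K) : G) ∈ E := by
      have e1 : ((e' * y * e'⁻¹ * y⁻¹ : K) : G) = e * ((y : G) * e⁻¹ * (y : G)⁻¹) := by
        push_cast; group; rfl
      rw [e1]
      exact E.mul_mem he (hEy _ (E.inv_mem he))
    have h3 : e' * y * e'⁻¹ * y⁻¹ = 1 := by
      have h4 : (e' * y * e'⁻¹ * y⁻¹) ^ 2 = 1 := by
        apply Subtype.ext
        rw [pow_two]
        exact W.Esq S h2
      have h5 : (e' * y * e'⁻¹ * y⁻¹) ^ 3 = 1 := by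
        obtain ⟨k, hk⟩ := h1
        simp only at hk
        rw [← hk, ← zpow_natCast, ← zpow_mul, mul_comm, zpow_mul, zpow_natCast, ← hy, pow_orderOf_eq_one, one_zpow]
      rw [pow_succ, h4, one_mul] at h5
      exact h5
    have h6 : e' * y = y * e' := by
      rw [mul_inv_eq_one, mul_inv_eq_iff_eq_mul] at h3
      exact h3
    exact (congrArg Subtype.val h6).symm
  have hyv : (y : G) * v = v * y := hyE v W.vE
  have hyin : (y : G) ∈ E := W.mem_E S hyv (fun l hl => hcomm y y.2 l hl)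
  have h7 := W.Esq S hyin
  have h8 : orderOf (y : G) ∣ 2 := orderOf_dvd_of_pow_eq_one (by rw [pow_two]; exact h7)
  rw [Subgroup.orderOf_coe, hy] at h8
  omega

/-- **The local structure of a group of `J₂` type.** -/
theorem J2M.j2Loc {E L : Subgroup G} (S : J2Set Q z x v) (W : J2M Q z v E L) :
    ∃ K : Subgroup G, J2Loc z v E L K := by
  obtain ⟨K, hK1, hK2, hK3, hK4, hK5⟩ := W.exists_K S
  refine ⟨K, ?_⟩
  refine
    { cardG := W.cardG S
      hz := orderOf_eq_prime (by rw [pow_two]; exact S.B.pl.sq) S.B.pl.ne_one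
      ht := S.orderOf_v
      hzt := fun h => S.nc h.symm
      hcl := fun a ha => (S.classes ha).imp (fun h => h.symm) (fun h => h.symm)
      cardCz := S.B.cardC
      eL := W.eL
      eK := hK1
      hEK := hK2
      cardE := W.cardE
      Esq := fun e he => W.Esq S he
      htE := W.vE
      hEt := fun e he he1 => (W.Econj S he he1).symm
      comm := hK3
      disj := hK4
      hCE := fun e he he1 => W.centE S he he1
      hNE := hK5
      hzL := W.zL S
      hLz := ?_
      three_card := ?_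
      three_inv := ?_
      five_card := ?_
      three_conj := ?_ }
  · intro l hl hl2
    obtain ⟨c, _, hc⟩ := W.conjL S hl (by rintro rfl; simp at hl2) (by rw [← pow_two, ← hl2, pow_orderOf_eq_one])
    exact (isConj_iff.mpr ⟨c, hc⟩ : IsConj z l).symm
  · intro y hy hyz
    exact (S.B.three hyz (by rw [← pow_two, ← pow_succ']; exact orderOf_dvd_iff_pow_eq_one.mp (by rw [hy])) (by rintro rfl; simp at hy)).1
  · intro y hy hyz s hs hsy hsz
    have h1 := (S.B.three hyz (by rw [← pow_two, ← pow_succ']; exact orderOf_dvd_iff_pow_eq_one.mp (by rw [hy])) (by rintro rfl; simp at hy)).2.1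
      s hsy hsz (by rw [← pow_two, ← hs, pow_orderOf_eq_one])
    exact (S.conj_of_mem h1 (by rintro rfl; simp at hs) (by rw [← pow_two, ← hs, pow_orderOf_eq_one])).symm
  · intro y hy hyz
    exact S.B.five hyz (by rw [← hy, pow_orderOf_eq_one]) (by rintro rfl; simp at hy)
  · intro y hy hyz
    exact (S.B.three hyz (by rw [← pow_two, ← pow_succ']; exact orderOf_dvd_iff_pow_eq_one.mp (by rw [hy])) (by rintro rfl; simp at hy)).2.2

end Cfsg.Agent.LE
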