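import Cfsg.Agent.LE.J2Fus
import Cfsg.Agent.H80.Isolated

/-!
`C_G(v) = E × L` with `L ≅ A₅`, or order 48; exclusion of the latter (owner: helper58).
-/
set_option autoImplicit false

namespace Cfsg.Agent.LE

open Subgroup Cfsg.Agent.H90
open scoped commutatorElement

variable {G : Type*} [Group G] [Finite G] {Q : Subgroup G} {z v : G} {x : Fin 5 → G}

/-- `C_G(v) = E × L` -/
structure J2M (Q : Subgroup G) (z v : G) (E L : Subgroup G) : Prop where
  cardE : Nat.card E = 4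
  vE : v ∈ E
  EP : E ≤ centralizer ({z} : Set G) ⊓ centralizer ({v} : Set G)
  QL : Q ⊓ centralizer ({v} : Set G) ≤ L
  inf : E ⊓ L = ⊥
  sup : E ⊔ L = centralizer ({v} : Set G)
  comm : ∀ e ∈ E, ∀ l ∈ L, e * l = l * e
  eL : Nonempty (L ≃* alternatingGroup (Fin 5))
  norm : ∀ g, g * v = v * g → ∀ l ∈ L, g * l * g⁻¹ ∈ L
  gen : L = closure {a : G | a ∈ centralizer ({v} : Set G) ∧ (orderOf a).Coprime 2}

theorem card_map_sub {H : Subgroup G} (K : Subgroup H) : Nat.card (K.map H.subtype) = Nat.card K :=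
  (Nat.card_congr (K.equivMapOfInjective _ (Subgroup.subtype_injective H)).toEquiv).symm

/-- if the central involution `w` is in `⟨a b⟩` for involutions `a`, `b` then `a`, `b` centralise `w` -/
theorem comm_of_mem_zpowers {a b w : G} (ha : a * a = 1) (hb : b * b = 1)
    (hw : w * w = 1) (h : w ∈ zpowers (a * b)) : a * w = w * a ∧ b * w = w * b := by
  obtain ⟨k, rfl⟩ := h
  simp only at hw ⊢
  have hai : a⁻¹ = a := inv_eq_of_mul_eq_one_left ha
  have hbi : b⁻¹ = b := inv_eq_of_mul_eq_one_left hb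
  have hwi : ((a * b) ^ k)⁻¹ = (a * b) ^ k := inv_eq_of_mul_eq_one_left hw
  have e1 : a * (a * b) * a⁻¹ = (a * b)⁻¹ := by
    rw [mul_inv_rev, hai, hbi, ← mul_assoc, ha, one_mul]
  have e2 : b * (a * b) * b⁻¹ = (a * b)⁻¹ := by
    rw [mul_inv_rev, hai, hbi, mul_assoc, mul_assoc, hb, mul_one]
  constructor
  · rw [← mul_inv_eq_iff_eq_mul]
    rw [← conj_zpow, e1, inv_zpow, hwi]
  · rw [← mul_inv_eq_iff_eq_mul]
    rw [← conj_zpow, e2, inv_zpow, hwi]

namespace J2Set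

variable (S : J2Set Q z x v)

include S
set_option linter.unusedSectionVars false

theorem cardP : Nat.card ↥(centralizer ({z} : Set G) ⊓ centralizer ({v} : Set G)) = 16 := by
  obtain ⟨u0, hu0⟩ := S.B.centV S.vz S.vQ S.vv
  exact hu0.card

theorem elP : ∀ a ∈ centralizer ({z} : Set G) ⊓ centralizer ({v} : Set G), a * a = 1 := by
  obtain ⟨u0, hu0⟩ := S.B.centV S.vz S.vQ S.vv
  exact hu0.sq

theorem caseM : Nat.card (centralizer ({v} : Set G)) = 48 ∨ ∃ E L, J2M Q z v E L := by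
  rcases S.mset.main with h | ⟨E, L, h1, h2, h3, h4, h5, h6, h7, h8, h9, h10⟩
  · exact Or.inl h
  · right
    refine ⟨E.map (centralizer ({v} : Set G)).subtype, L.map (centralizer ({v} : Set G)).subtype, ?_⟩
    constructor
    · rw [card_map_sub, h1]
    · exact ⟨_, h3, rfl⟩
    · rintro _ ⟨e, he, rfl⟩
      exact mem_subgroupOf.mp (h2 he)
    · intro q hq
      exact ⟨⟨q, hq.2⟩, h5 (mem_subgroupOf.mpr hq), rfl⟩
    · rw [← Subgroup.map_inf _ _ _ (Subgroup.subtype_injective _), h6, Subgroup.map_bot]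
    · rw [← Subgroup.map_sup, h7, ← MonoidHom.range_eq_map, Subgroup.range_subtype]
    · rintro _ ⟨e, he, rfl⟩ _ ⟨l, hl, rfl⟩
      exact congrArg Subtype.val (h8 e he l hl)
    · obtain ⟨e⟩ := h9
      exact ⟨(L.equivMapOfInjective _ (Subgroup.subtype_injective _)).symm.trans e⟩
    · rintro g hg _ ⟨l, hl, rfl⟩
      exact ⟨_, h4.conj_mem l hl ⟨g, mem_cent.mpr hg⟩, rfl⟩
    · rw [h10, Transfer.pResidual_map_subtype]

/-- another involution outside `Q` in `C_G(z)` -/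
theorem of_out {b : G} (hbz : b * z = z * b) (hbQ : b ∉ Q) (hbb : b * b = 1) : J2Set Q z x b where
  B := S.B
  nwc := S.nwc
  vz := hbz
  vQ := hbQ
  vv := hbb
  nc := by
    intro h
    exact hbQ (S.mem_of_conj hbz h.symm)

theorem conj_of_out {b : G} (hbz : b * z = z * b) (hbQ : b ∉ Q) (hbb : b * b = 1) : IsConj v b := by
  obtain ⟨c, _, hc⟩ := S.conj_v hbz hbQ hbb
  exact isConj_iff.mpr ⟨c, hc⟩

/-- the number of involutions of `C_G(z)` outside `Q` -/
theorem card_out : Nat.card {b : G // b * z = z * b ∧ b ∉ Q ∧ b * b = 1} = 120 := by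
  have h1 := card_orbit (centralizer ({z} : Set G)) v
  rw [S.B.cardC, S.cardP] at h1
  have h2 : Nat.card {w : G // ∃ h ∈ centralizer ({z} : Set G), h * v * h⁻¹ = w} =
      Nat.card {b : G // b * z = z * b ∧ b ∉ Q ∧ b * b = 1} := by
    apply Nat.card_congr
    apply Equiv.subtypeEquivRight
    intro w
    constructor
    · rintro ⟨c, hc, rfl⟩
      rw [mem_cent] at hc
      refine ⟨Base.comm_conj hc S.vz, ?_, conj_sq S.vv⟩
      apply S.not_mem_of_conj
      exact isConj_iff.mpr ⟨c, rfl⟩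
    · rintro ⟨h1, h2, h3⟩
      obtain ⟨c, hc, hcw⟩ := S.conj_v h1 h2 h3
      exact ⟨c, mem_cent.mpr hc, hcw⟩
  rw [h2] at h1
  omega

/-- the number of non-central involutions of `Q` not commuting with an involution outside `Q` -/
theorem card_fiber {b : G} (hbz : b * z = z * b) (hbQ : b ∉ Q) (hbb : b * b = 1) :
    Nat.card {a : G // (a ∈ Q ∧ a * a = 1 ∧ a ≠ 1 ∧ a ≠ z) ∧ a * b ≠ b * a} = 8 := by
  have S' := S.of_out hbz hbQ hbb
  have h1 : Nat.card {a : G // (a ∈ Q ∧ a * a = 1 ∧ a ≠ 1 ∧ a ≠ z) ∧ a * b ≠ b * a} =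
      ({a : G | a ∈ Q ∧ a * a = 1 ∧ a ≠ 1 ∧ a ≠ z} \
        (((Q ⊓ centralizer ({b} : Set G) : Subgroup G) : Set G) \ {1, z})).ncard := by
    rw [← Nat.card_coe_set_eq]
    apply Nat.card_congr
    apply Equiv.subtypeEquivRight
    intro a
    simp only [Set.mem_sdiff, Set.mem_ofPred_eq, SetLike.mem_coe, mem_inf_cent, Set.mem_insert_iff,
      Set.mem_singleton_iff]
    tauto
  have h2 : ({a : G | a ∈ Q ∧ a * a = 1 ∧ a ≠ 1 ∧ a ≠ z}).ncard = 10 := by
    rw [← Nat.card_coe_set_eq]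
    exact S.B.card_invQ
  have hpair : ({1, z} : Set G) ⊆ ((Q ⊓ centralizer ({b} : Set G) : Subgroup G) : Set G) := by
    rintro a (rfl | rfl)
    · exact one_mem _
    · rw [SetLike.mem_coe, mem_inf_cent]; exact ⟨S.B.pl.mem, hbz.symm⟩
  have h3 : (((Q ⊓ centralizer ({b} : Set G) : Subgroup G) : Set G) \ {1, z}).ncard = 2 := by
    rw [Set.ncard_sdiff hpair, Set.ncard_pair S.B.pl.ne_one.symm]
    have : ((Q ⊓ centralizer ({b} : Set G) : Subgroup G) : Set G).ncard = 4 := S'.card_QV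
    rw [this]
  have hsub : (((Q ⊓ centralizer ({b} : Set G) : Subgroup G) : Set G) \ {1, z}) ⊆
      {a : G | a ∈ Q ∧ a * a = 1 ∧ a ≠ 1 ∧ a ≠ z} := by
    rintro a ⟨ha1, ha2⟩
    rw [SetLike.mem_coe, mem_inf_cent] at ha1
    simp only [Set.mem_insert_iff, Set.mem_singleton_iff, not_or] at ha2
    refine ⟨ha1.1, ?_, ha2.1, ha2.2⟩
    apply S'.elP
    rw [mem_inf_cent, mem_cent]
    exact ⟨S.B.pl.central a ha1.1, ha1.2⟩
  rw [h1, Set.ncard_sdiff hsub, h2, h3]

theorem n1 : Nat.card {p : G × G // IsConj z p.1 ∧ IsConj v p.2 ∧ z ∈ zpowers (p.1 * p.2)} = 960 := by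
  classical
  have key : ∀ p : G × G, (IsConj z p.1 ∧ IsConj v p.2 ∧ z ∈ zpowers (p.1 * p.2)) ↔
      (p.2 * z = z * p.2 ∧ p.2 ∉ Q ∧ p.2 * p.2 = 1) ∧
        ((p.1 ∈ Q ∧ p.1 * p.1 = 1 ∧ p.1 ≠ 1 ∧ p.1 ≠ z) ∧ p.1 * p.2 ≠ p.2 * p.1) := by
    rintro ⟨a, b⟩
    simp only
    constructor
    · rintro ⟨ha, hb, hz⟩
      obtain ⟨g, hg⟩ := isConj_iff.mp ha
      obtain ⟨k, hk⟩ := isConj_iff.mp hb
      have haa : a * a = 1 := by rw [← hg]; exact conj_sq S.B.pl.sq
      have hbb : b * b = 1 := by rw [← hk]; exact conj_sq S.vv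
      have ha1 : a ≠ 1 := by rw [← hg]; exact conj_ne_one S.B.pl.ne_one
      obtain ⟨h1, h2⟩ := comm_of_mem_zpowers haa hbb S.B.pl.sq hz
      have haQ := S.mem_of_conj h1 ha
      have hbQ := S.not_mem_of_conj hb
      have hab : a * b ≠ b * a := by
        intro hab
        have h3 : (a * b) * (a * b) = 1 := by
          calc (a * b) * (a * b) = a * (b * a) * b := by group
            _ = (a * a) * (b * b) := by rw [← hab]; group
            _ = 1 := by rw [haa, hbb, one_mul]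
        rcases (mem_zpowers_two h3).mp hz with h4 | h4
        · exact S.B.pl.ne_one h4
        · apply hbQ
          have : b = a * z := by rw [h4, ← mul_assoc, haa, one_mul]
          rw [this]
          exact Q.mul_mem haQ S.B.pl.mem
      refine ⟨⟨h2, hbQ, hbb⟩, ⟨haQ, haa, ha1, ?_⟩, hab⟩
      rintro rfl
      exact hab h2.symm
    · rintro ⟨⟨h1, h2, h3⟩, ⟨h4, h5, h6, h7⟩, h8⟩
      refine ⟨S.conj_of_mem h4 h6 h5, S.conj_of_out h1 h2 h3, ?_⟩
      rw [← S.B.pow_four_eq h4 h6 h7 h5 h1 h2 h3 h8]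
      exact pow_mem (mem_zpowers _) 4
  have h1 : Nat.card {p : G × G // IsConj z p.1 ∧ IsConj v p.2 ∧ z ∈ zpowers (p.1 * p.2)} =
      Nat.card ((b : {b : G // b * z = z * b ∧ b ∉ Q ∧ b * b = 1}) ×
        {a : G // (a ∈ Q ∧ a * a = 1 ∧ a ≠ 1 ∧ a ≠ z) ∧ a * b ≠ b * a}) := by
    apply Nat.card_congr
    refine ⟨fun p => ⟨⟨p.1.2, ((key p.1).mp p.2).1⟩, ⟨p.1.1, ((key p.1).mp p.2).2⟩⟩,
      fun p => ⟨(p.2.1, p.1.1), (key _).mpr ⟨p.1.2, p.2.2⟩⟩, fun p => rfl, fun p => rfl⟩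
  have _ := Fintype.ofFinite {b : G // b * z = z * b ∧ b ∉ Q ∧ b * b = 1}
  rw [h1, Nat.card_sigma, Finset.sum_congr rfl (fun b _ => S.card_fiber b.2.1 b.2.2.1 b.2.2.2)]
  rw [Finset.sum_const, Finset.card_univ, ← Nat.card_eq_fintype_card, S.card_out]
  rfl

/-- many conjugates of `z` -/
theorem card_class : 30 ≤ Nat.card {w : G // IsConj z w} := by
  obtain ⟨g, hg1, hg2⟩ := S.nwc
  obtain ⟨s, hs⟩ : ∃ s, s = g * z * g⁻¹ := ⟨_, rfl⟩
  rw [← hs] at hg1 hg2
  have hss : s * s = 1 := by rw [hs]; exact conj_sq S.B.pl.sq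
  have hs1 : s ≠ 1 := by rw [hs]; exact conj_ne_one S.B.pl.ne_one
  -- r = z^(g⁻¹)
  have hrz : (g⁻¹ * z * g) * z = z * (g⁻¹ * z * g) := by
    have h1 := S.B.pl.central s hg1
    have h2 := conj_comm (g := g⁻¹) h1
    rw [hs] at h2
    have e : g⁻¹ * (g * z * g⁻¹) * g⁻¹⁻¹ = z := by group
    rw [e, inv_inv] at h2
    exact h2.symm
  have hrQ : g⁻¹ * z * g ∈ Q := S.mem_of_conj hrz (isConj_iff.mpr ⟨g⁻¹, by rw [inv_inv]⟩)
  have hr1 : g⁻¹ * z * g ≠ 1 := by
    have := conj_ne_one (g := g⁻¹) S.B.pl.ne_one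
    rwa [inv_inv] at this
  have hrz' : g⁻¹ * z * g ≠ z := by
    intro h1
    apply hg2
    rw [hs]
    calc g * z * g⁻¹ = g * (g⁻¹ * z * g) * g⁻¹ := by rw [h1]
      _ = z := by group
  have hrr : (g⁻¹ * z * g) * (g⁻¹ * z * g) = 1 := by
    have := conj_sq (g := g⁻¹) S.B.pl.sq
    rwa [inv_inv] at this
  obtain ⟨a, i, hai⟩ := invol_form S.B.pl S.B.pts S.B.cardQ hrQ hr1 hrz' hrr
  have hex : ∀ i : Fin 5, ∃ j, i ≠ j := by decide
  obtain ⟨j, hj⟩ := hex i
  -- w = g x_j g⁻¹ does not commute with z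
  obtain ⟨w, hw⟩ : ∃ w, w = g * x j * g⁻¹ := ⟨_, rfl⟩
  have hzw : z * w = s * (w * z) := by
    have h1 : z = g * (zp z a * x i) * g⁻¹ := by rw [← hai]; group
    have h2 : zp z a * x i * x j = z * (x j * (zp z a * x i)) := by
      rw [mul_assoc, S.B.pts.anti i j hj, ← mul_assoc (x j), zp_comm (S.B.pts.comm_z S.B.pl j), ← mul_assoc,
        ← zp_comm (c := z) rfl]
      simp only [mul_assoc]
    calc z * w = (g * (zp z a * x i) * g⁻¹) * (g * x j * g⁻¹) := by rw [← h1, hw]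
      _ = g * (zp z a * x i * x j) * g⁻¹ := by group
      _ = (g * z * g⁻¹) * ((g * x j * g⁻¹) * (g * (zp z a * x i) * g⁻¹)) := by rw [h2]; group
      _ = s * (w * z) := by rw [← h1, ← hw, ← hs]
  have hwz : w * z ≠ z * w := by
    intro h
    rw [← h] at hzw
    exact hs1 (by simpa using hzw.symm)
  have hwconj : IsConj z w := by
    have h1 := S.conj_of_mem (S.B.pts.mem j) (by
      intro h; exact S.B.pts.ne_zp S.B.pl 0 j (by rw [h, zp_zero])) (S.B.pts.sq j)
    exact h1.trans (isConj_iff.mpr ⟨g, hw.symm⟩)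
  -- centralizers
  have hK2 : Nat.card ↥(centralizer ({z} : Set G) ⊓ centralizer ({s} : Set G)) = 192 := by
    have h1 := card_orbit (centralizer ({z} : Set G)) s
    rw [S.B.cardC] at h1
    have h2 : Nat.card {w : G // ∃ h ∈ centralizer ({z} : Set G), h * s * h⁻¹ = w} = 10 := by
      rw [← S.B.card_invQ]
      apply Nat.card_congr
      apply Equiv.subtypeEquivRight
      intro w
      constructor
      · rintro ⟨c, hc, rfl⟩
        rw [mem_cent] at hc
        refine ⟨S.B.pl.norm c hc s hg1, conj_sq hss, conj_ne_one hs1, ?_⟩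
        intro h
        apply hg2
        rw [mul_inv_eq_iff_eq_mul, ← hc] at h
        exact mul_left_cancel h
      · rintro ⟨h1, h2, h3, h4⟩
        obtain ⟨c, hc, hcw⟩ := S.B.conj_Q hg1 hs1 hg2 hss h1 h3 h4 h2
        exact ⟨c, mem_cent.mpr hc, hcw⟩
    rw [h2] at h1
    omega
  have hle : centralizer ({z} : Set G) ⊓ centralizer ({w} : Set G) ≤
      centralizer ({z} : Set G) ⊓ centralizer ({s} : Set G) := by
    intro c hc
    rw [mem_inf_cent, mem_cent] at hc ⊢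
    refine ⟨hc.1, ?_⟩
    have hs' : s = z * w * z⁻¹ * w⁻¹ := by rw [hzw]; group
    have c1 : Commute c z := hc.1
    have c2 : Commute c w := hc.2
    rw [hs']
    exact (((c1.mul_right c2).mul_right c1.inv_right).mul_right c2.inv_right).eq
  have hlt : 2 * Nat.card ↥(centralizer ({z} : Set G) ⊓ centralizer ({w} : Set G)) ≤ 192 := by
    rw [← hK2]
    have h1 := card_dvd_of_le hle
    have h2 : Nat.card ↥(centralizer ({z} : Set G) ⊓ centralizer ({w} : Set G)) ≠
        Nat.card ↥(centralizer ({z} : Set G) ⊓ centralizer ({s} : Set G)) := by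
      intro h2
      have h3 := Subgroup.eq_of_le_of_card_ge hle h2.ge
      have h4 : z ∈ centralizer ({z} : Set G) ⊓ centralizer ({s} : Set G) := by
        rw [mem_inf_cent, mem_cent]
        exact ⟨rfl, (S.B.pl.central s hg1).symm⟩
      rw [← h3, mem_inf_cent] at h4
      exact hwz h4.2.symm
    obtain ⟨k, hk⟩ := h1
    have hpos : 0 < Nat.card ↥(centralizer ({z} : Set G) ⊓ centralizer ({w} : Set G)) := Nat.card_pos
    have hk2 : 2 ≤ k := by
      rcases k with _ | _ | k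
      · rw [mul_zero] at hk; omega
      · rw [zero_add, mul_one] at hk; omega
      · omega
    rw [hk, mul_comm 2]
    exact Nat.mul_le_mul_left _ hk2
  have horb := card_orbit (centralizer ({z} : Set G)) w
  rw [S.B.cardC] at horb
  have h20 : 20 ≤ Nat.card {w' : G // ∃ h ∈ centralizer ({z} : Set G), h * w * h⁻¹ = w'} := by
    by_contra hc
    push Not at hc
    have : Nat.card ↥(centralizer ({z} : Set G) ⊓ centralizer ({w} : Set G)) *
        Nat.card {w' : G // ∃ h ∈ centralizer ({z} : Set G), h * w * h⁻¹ = w'} ≤ 96 * 19 :=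
      Nat.mul_le_mul (by omega) (by omega)
    omega
  have hd : Disjoint {a : G | a ∈ Q ∧ a * a = 1 ∧ a ≠ 1 ∧ a ≠ z}
      {w' : G | ∃ h ∈ centralizer ({z} : Set G), h * w * h⁻¹ = w'} := by
    rw [Set.disjoint_left]
    rintro w' ⟨h1, -⟩ ⟨c, hc, rfl⟩
    rw [mem_cent] at hc
    apply hwz
    have h2 := S.B.pl.central _ h1
    have h3 := conj_comm (g := c⁻¹) h2
    have e1 : c⁻¹ * (c * w * c⁻¹) * c⁻¹⁻¹ = w := by group
    have e2 : c⁻¹ * z * c⁻¹⁻¹ = z := by
      rw [inv_inv, mul_assoc, ← hc]; group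
    rwa [e1, e2] at h3
  have hunion : ({a : G | a ∈ Q ∧ a * a = 1 ∧ a ≠ 1 ∧ a ≠ z} ∪
      {w' : G | ∃ h ∈ centralizer ({z} : Set G), h * w * h⁻¹ = w'}) ⊆ {w' : G | IsConj z w'} := by
    rintro w' (⟨h1, h2, h3, h4⟩ | ⟨c, hc, rfl⟩)
    · exact S.conj_of_mem h1 h3 h2
    · exact hwconj.trans (isConj_iff.mpr ⟨c, rfl⟩)
  have h1 := Set.ncard_le_ncard hunion (Set.toFinite _)
  rw [Set.ncard_union_eq hd (Set.toFinite _) (Set.toFinite _)] at h1
  have e1 : ({a : G | a ∈ Q ∧ a * a = 1 ∧ a ≠ 1 ∧ a ≠ z}).ncard = 10 := by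
    rw [← Nat.card_coe_set_eq]; exact S.B.card_invQ
  have e2 : ({w' : G | ∃ h ∈ centralizer ({z} : Set G), h * w * h⁻¹ = w'}).ncard =
      Nat.card {w' : G // ∃ h ∈ centralizer ({z} : Set G), h * w * h⁻¹ = w'} := by
    rw [← Nat.card_coe_set_eq]; rfl
  have e3 : ({w' : G | IsConj z w'}).ncard = Nat.card {w' : G // IsConj z w'} := by
    rw [← Nat.card_coe_set_eq]; rfl
  rw [e1, e2, e3] at h1
  omega

theorem orderOf_z : orderOf z = 2 := S.B.pl.orderOf_z

theorem order_formula : Nat.card G = Nat.card (centralizer ({v} : Set G)) * 960 +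
    1920 * Nat.card {p : G × G // IsConj z p.1 ∧ IsConj v p.2 ∧ v ∈ zpowers (p.1 * p.2)} := by
  have h := H80.thompson_order_formula z v S.orderOf_z S.orderOf_v (fun h => S.nc h.symm) (fun t ht => S.classes ht)
  rw [S.n1, S.B.cardC] at h
  exact h

/-- the small case does not occur -/
theorem not_48 : Nat.card (centralizer ({v} : Set G)) ≠ 48 := by
  intro h48
  have hP : ∀ a : G, a * v = v * a → a * a = 1 → a * z = z * a := by
    intro a hav haa
    have := S.mset.mem_of_48 h48 (a := ⟨a, mem_cent.mpr hav⟩) (Subtype.ext haa)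
    rw [mem_subgroupOf, mem_inf_cent, mem_cent] at this
    exact this.1
  have hn2 : Nat.card {p : G × G // IsConj z p.1 ∧ IsConj v p.2 ∧ v ∈ zpowers (p.1 * p.2)} = 3 := by
    have h3 : Nat.card {w : G // w ∈ Q ⊓ centralizer ({v} : Set G) ∧ w ≠ 1} = 3 := by
      rw [card_ne_one_sub, S.card_QV]
    rw [← h3]
    have fwd : ∀ p : G × G, (IsConj z p.1 ∧ IsConj v p.2 ∧ v ∈ zpowers (p.1 * p.2)) →
        (p.1 ∈ Q ⊓ centralizer ({v} : Set G) ∧ p.1 ≠ 1) ∧ p.2 = p.1 * v := by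
      rintro ⟨a, b⟩ ⟨ha, hb, hv⟩
      simp only at ha hb hv ⊢
      obtain ⟨g, hg⟩ := isConj_iff.mp ha
      obtain ⟨k, hk⟩ := isConj_iff.mp hb
      have haa : a * a = 1 := by rw [← hg]; exact conj_sq S.B.pl.sq
      have hbb : b * b = 1 := by rw [← hk]; exact conj_sq S.vv
      have ha1 : a ≠ 1 := by rw [← hg]; exact conj_ne_one S.B.pl.ne_one
      obtain ⟨h1, h2⟩ := comm_of_mem_zpowers haa hbb S.vv hv
      have haz := hP a h1 haa
      have hbz := hP b h2 hbb
      have hab : (a * b) * (a * b) = 1 := by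
        apply S.elP
        rw [mem_inf_cent, mem_cent]
        exact ⟨Base.mul_comm_z S.B haz hbz, Base.mul_comm_z S.B h1 h2⟩
      refine ⟨⟨mem_inf_cent.mpr ⟨S.mem_of_conj haz ha, h1⟩, ha1⟩, ?_⟩
      rcases (mem_zpowers_two hab).mp hv with h4 | h4
      · exact absurd h4 S.v1
      · rw [h4, ← mul_assoc, haa, one_mul]
    have bwd : ∀ w : G, (w ∈ Q ⊓ centralizer ({v} : Set G) ∧ w ≠ 1) →
        IsConj z w ∧ IsConj v (w * v) ∧ v ∈ zpowers (w * (w * v)) := by
      rintro w ⟨hw, hw1⟩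
      rw [mem_inf_cent] at hw
      have hwz := S.B.pl.central w hw.1
      have hww : w * w = 1 := S.elP w (by rw [mem_inf_cent, mem_cent]; exact ⟨hwz, hw.2⟩)
      refine ⟨S.conj_of_mem hw.1 hw1 hww, ?_, ?_⟩
      · apply S.conj_of_out (Base.mul_comm_z S.B hwz S.vz)
        · intro h
          apply S.vQ
          have := Q.mul_mem (Q.inv_mem hw.1) h
          rwa [inv_mul_cancel_left] at this
        · calc w * v * (w * v) = w * (v * w) * v := by group
            _ = (w * w) * (v * v) := by rw [← hw.2]; group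
            _ = 1 := by rw [hww, S.vv, one_mul]
      · rw [← mul_assoc, hww, one_mul]; exact mem_zpowers v
    apply Nat.card_congr
    refine ⟨fun p => ⟨p.1.1, (fwd p.1 p.2).1⟩, fun w => ⟨(w.1, w.1 * v), bwd w.1 w.2⟩, fun p => ?_,
      fun w => rfl⟩
    apply Subtype.ext
    exact Prod.ext rfl (fwd p.1 p.2).2.symm
  have h1 := S.order_formula
  rw [hn2, h48] at h1
  have h2 := H80.card_conj_mul_card_centralizer z
  rw [S.B.cardC, h1] at h2
  have h3 := S.card_class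
  omega

end J2Set

end Cfsg.Agent.LE
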