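import Cfsg.Agent.LE.J2M
import Cfsg.Agent.LE.J2A

/-!
The order of a group of `J₂` type and the normalizer of `E` (owner: helper58).
-/
set_option autoImplicit false

namespace Cfsg.Agent.LE

open Subgroup Cfsg.Agent.H90
open scoped commutatorElement

variable {G : Type*} [Group G] [Finite G] {Q : Subgroup G} {z v : G} {x : Fin 5 → G}

set_option maxRecDepth 1000000 in
theorem count13 : (Finset.univ.filter (fun b : Equiv.Perm (Fin 5) =>
    (b * b = 1 ∧ b ≠ 1 ∧ Equiv.Perm.sign b = 1) ∧ (t1 * b) ^ 15 = 1)).card = 13 := by decide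

set_option maxRecDepth 1000000 in
theorem count15 : (Finset.univ.filter (fun a : Equiv.Perm (Fin 5) =>
    a * a = 1 ∧ a ≠ 1 ∧ Equiv.Perm.sign a = 1)).card = 15 := by decide

theorem count13' {a : Equiv.Perm (Fin 5)} (ha : a * a = 1 ∧ a ≠ 1 ∧ Equiv.Perm.sign a = 1) :
    Nat.card {b : Equiv.Perm (Fin 5) // (b * b = 1 ∧ b ≠ 1 ∧ Equiv.Perm.sign b = 1) ∧ (a * b) ^ 15 = 1} = 13 := by
  obtain ⟨π, hπ, hπa⟩ := conj_std a ha.2.2 ha.1 ha.2.1
  have h1 : Nat.card {b : Equiv.Perm (Fin 5) // (b * b = 1 ∧ b ≠ 1 ∧ Equiv.Perm.sign b = 1) ∧ (t1 * b) ^ 15 = 1} = 13 := by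
    rw [Nat.card_eq_fintype_card, Fintype.card_subtype]
    exact count13
  rw [← h1]
  apply Nat.card_congr
  apply Equiv.subtypeEquiv (MulAut.conj π⁻¹).toEquiv
  intro b
  change _ ↔ (((MulAut.conj π⁻¹ b) * (MulAut.conj π⁻¹ b) = 1 ∧ (MulAut.conj π⁻¹ b) ≠ 1 ∧
    Equiv.Perm.sign (MulAut.conj π⁻¹ b) = 1) ∧ (t1 * (MulAut.conj π⁻¹ b)) ^ 15 = 1)
  have e1 : t1 = MulAut.conj π⁻¹ a := by rw [MulAut.conj_apply, inv_inv, hπa]
  have e2 : Equiv.Perm.sign (MulAut.conj π⁻¹ b) = Equiv.Perm.sign b := by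
    rw [MulAut.conj_apply]; simp [hπ]
  have e3 : (MulAut.conj π⁻¹ b) ≠ 1 ↔ b ≠ 1 := by
    rw [Ne, MulEquiv.map_eq_one_iff]
  have e4 : (MulAut.conj π⁻¹ b) * (MulAut.conj π⁻¹ b) = 1 ↔ b * b = 1 := by
    rw [← map_mul, MulEquiv.map_eq_one_iff]
  have e5 : (t1 * (MulAut.conj π⁻¹ b)) ^ 15 = 1 ↔ (a * b) ^ 15 = 1 := by
    rw [e1, ← map_mul, ← map_pow, MulEquiv.map_eq_one_iff]
  rw [e2, e3, e4, e5]

/-- pairs of involutions of `A₅` with product of odd order -/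
theorem count195 {L : Type*} [Group L] (e : L ≃* alternatingGroup (Fin 5)) :
    Nat.card {p : L × L // (p.1 * p.1 = 1 ∧ p.1 ≠ 1) ∧ (p.2 * p.2 = 1 ∧ p.2 ≠ 1) ∧
      Odd (orderOf (p.1 * p.2))} = 195 := by
  classical
  have hodd : ∀ l : L, Odd (orderOf l) ↔ ((e l : Equiv.Perm (Fin 5))) ^ 15 = 1 := by
    intro l
    have e1 : orderOf l = orderOf (e l : Equiv.Perm (Fin 5)) := by
      rw [Subgroup.orderOf_coe, MulEquiv.orderOf_eq]
    rw [e1]
    constructor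
    · intro h
      have h60 : orderOf (e l : Equiv.Perm (Fin 5)) ∣ 60 := by
        rw [Subgroup.orderOf_coe]
        have h1 := orderOf_dvd_natCard (e l)
        have h2 : Nat.card (alternatingGroup (Fin 5)) = 60 := by
          rw [nat_card_alternatingGroup, Nat.card_eq_fintype_card, Fintype.card_fin]; rfl
        rwa [h2] at h1
      apply orderOf_dvd_iff_pow_eq_one.mp
      have : Nat.Coprime (orderOf (e l : Equiv.Perm (Fin 5))) 4 := by
        have := Nat.Coprime.pow_right 2 (Nat.coprime_two_right.mpr h)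
        simpa using this
      exact this.dvd_of_dvd_mul_right (by simpa using h60)
    · intro h
      have := orderOf_dvd_of_pow_eq_one h
      exact Odd.of_dvd_nat (by decide) this
  have hinv : ∀ l : L, (l * l = 1 ∧ l ≠ 1) ↔ ((e l : Equiv.Perm (Fin 5)) * (e l : Equiv.Perm (Fin 5)) = 1 ∧
      (e l : Equiv.Perm (Fin 5)) ≠ 1 ∧ Equiv.Perm.sign (e l : Equiv.Perm (Fin 5)) = 1) := by
    intro l
    have h1 : Equiv.Perm.sign (e l : Equiv.Perm (Fin 5)) = 1 := Equiv.Perm.mem_alternatingGroup.mp (e l).2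
    have h2 : ((e l : Equiv.Perm (Fin 5)) * (e l : Equiv.Perm (Fin 5)) = 1) ↔ l * l = 1 := by
      rw [← Subgroup.coe_mul, ← map_mul, ← Subgroup.coe_one, Subtype.coe_inj, MulEquiv.map_eq_one_iff]
    have h3 : ((e l : Equiv.Perm (Fin 5)) ≠ 1) ↔ l ≠ 1 := by
      rw [Ne, ← Subgroup.coe_one, Subtype.coe_inj, MulEquiv.map_eq_one_iff]
    rw [h2, h3]
    tauto
  have h1 : Nat.card {p : L × L // (p.1 * p.1 = 1 ∧ p.1 ≠ 1) ∧ (p.2 * p.2 = 1 ∧ p.2 ≠ 1) ∧
      Odd (orderOf (p.1 * p.2))} =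
      Nat.card ((a : {a : Equiv.Perm (Fin 5) // a * a = 1 ∧ a ≠ 1 ∧ Equiv.Perm.sign a = 1}) ×
        {b : Equiv.Perm (Fin 5) // (b * b = 1 ∧ b ≠ 1 ∧ Equiv.Perm.sign b = 1) ∧ ((a : Equiv.Perm (Fin 5)) * b) ^ 15 = 1}) := by
    apply Nat.card_congr
    refine ⟨fun p => ⟨⟨e p.1.1, (hinv _).mp p.2.1⟩, ⟨e p.1.2, (hinv _).mp p.2.2.1, ?_⟩⟩,
      fun p => ⟨(e.symm ⟨p.1.1, Equiv.Perm.mem_alternatingGroup.mpr p.1.2.2.2⟩,
        e.symm ⟨p.2.1, Equiv.Perm.mem_alternatingGroup.mpr p.2.2.1.2.2⟩), ?_, ?_, ?_⟩, fun p => ?_, fun p => ?_⟩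
    · have := (hodd _).mp p.2.2.2
      rwa [map_mul, Subgroup.coe_mul] at this
    · rw [hinv]; simpa using p.1.2
    · rw [hinv]; simpa using p.2.2.1
    · rw [hodd, map_mul, Subgroup.coe_mul]
      simpa using p.2.2.2
    · apply Subtype.ext; simp
    · obtain ⟨⟨a, ha⟩, ⟨b, hb⟩⟩ := p
      apply Sigma.subtype_ext
      · apply Subtype.ext
        simp
      · simp
  rw [h1]
  have _ := Fintype.ofFinite {a : Equiv.Perm (Fin 5) // a * a = 1 ∧ a ≠ 1 ∧ Equiv.Perm.sign a = 1}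
  rw [Nat.card_sigma, Finset.sum_congr rfl (fun a _ => count13' a.2), Finset.sum_const, Finset.card_univ,
    ← Nat.card_eq_fintype_card]
  have h15 : Nat.card {a : Equiv.Perm (Fin 5) // a * a = 1 ∧ a ≠ 1 ∧ Equiv.Perm.sign a = 1} = 15 := by
    rw [Nat.card_eq_fintype_card, Fintype.card_subtype]
    exact count15
  rw [h15]
  rfl

/-- involutions of `A₅` are conjugate -/
theorem a5_conj_inv {L : Type*} [Group L] (e : L ≃* alternatingGroup (Fin 5)) {a b : L} (ha : a * a = 1)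
    (ha1 : a ≠ 1) (hb : b * b = 1) (hb1 : b ≠ 1) : ∃ c : L, c * a * c⁻¹ = b := by
  have hprop : ∀ l : L, l * l = 1 → l ≠ 1 → ∃ π : L, e (π⁻¹ * l * π) = ⟨t1, t1_mem⟩ := by
    intro l hl hl1
    obtain ⟨π, hπ, hπa⟩ := conj_std (e l : Equiv.Perm (Fin 5)) (Equiv.Perm.mem_alternatingGroup.mp (e l).2)
      (by rw [← Subgroup.coe_mul, ← map_mul, hl]; simp) (by
        intro h
        apply hl1
        rw [← MulEquiv.map_eq_one_iff e]
        exact Subtype.ext h)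
    refine ⟨e.symm ⟨π, Equiv.Perm.mem_alternatingGroup.mpr hπ⟩, ?_⟩
    apply Subtype.ext
    simp only [map_mul, map_inv, MulEquiv.apply_symm_apply]
    exact hπa
  obtain ⟨π, hπ⟩ := hprop a ha ha1
  obtain ⟨ϖ, hϖ⟩ := hprop b hb hb1
  have h1 : π⁻¹ * a * π = ϖ⁻¹ * b * ϖ := e.injective (hπ.trans hϖ.symm)
  refine ⟨ϖ * π⁻¹, ?_⟩
  calc ϖ * π⁻¹ * a * (ϖ * π⁻¹)⁻¹ = ϖ * (π⁻¹ * a * π) * ϖ⁻¹ := by group
    _ = ϖ * (ϖ⁻¹ * b * ϖ) * ϖ⁻¹ := by rw [h1]
    _ = b := by group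

namespace J2M

variable {E L : Subgroup G} (S : J2Set Q z x v) (W : J2M Q z v E L)

include S W
set_option linter.unusedSectionVars false

theorem zL : z ∈ L := W.QL (by rw [mem_inf_cent]; exact ⟨S.B.pl.mem, S.vz.symm⟩)

theorem cardL : Nat.card L = 60 := by
  obtain ⟨e⟩ := W.eL
  rw [Nat.card_congr e.toEquiv, nat_card_alternatingGroup, Nat.card_eq_fintype_card, Fintype.card_fin]
  rfl

theorem cardM : Nat.card (centralizer ({v} : Set G)) = 240 := by
  have h1 := card_mul_le_of_disjoint (le_sup_left (a := E) (b := L)) le_sup_right W.inf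
  rw [W.cardE, W.cardL S, W.sup] at h1
  have h2 : Nat.card (centralizer ({v} : Set G)) ≤ 240 := by
    rw [← W.sup, card_sup_comm W.comm W.inf, W.cardE, W.cardL S]
  omega

theorem Lv {l : G} (hl : l ∈ L) : l * v = v * l := by
  have : l ∈ centralizer ({v} : Set G) := by rw [← W.sup]; exact Subgroup.mem_sup_right hl
  exact mem_cent.mp this

theorem Esq {e : G} (he : e ∈ E) : e * e = 1 := S.elP e (W.EP he)

theorem mem_M {m : G} : m * v = v * m ↔ ∃ e ∈ E, ∃ l ∈ L, e * l = m := by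
  rw [← mem_cent (f := v), ← W.sup, mem_sup_comm W.comm]

/-- every involution of `L` is conjugate to `z` under `L` -/
theorem conjL {l : G} (hl : l ∈ L) (hl1 : l ≠ 1) (hll : l * l = 1) : ∃ c ∈ L, c * z * c⁻¹ = l := by
  obtain ⟨e⟩ := W.eL
  obtain ⟨c, hc⟩ := a5_conj_inv e (a := ⟨z, W.zL S⟩) (b := ⟨l, hl⟩) (Subtype.ext S.B.pl.sq)
    (fun h => S.B.pl.ne_one (congrArg Subtype.val h)) (Subtype.ext hll)
    (fun h => hl1 (congrArg Subtype.val h))
  exact ⟨c, c.2, congrArg Subtype.val hc⟩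

/-- `z`-type elements of `M` are in `L` -/
theorem mem_L {a : G} (ha : IsConj z a) (hav : a * v = v * a) : a ∈ L := by
  obtain ⟨m, hm1, hm2⟩ := S.pair ha (IsConj.refl v) hav.symm
  rw [← hm1]
  apply W.norm m _ z (W.zL S)
  rw [mul_inv_eq_iff_eq_mul] at hm2
  exact hm2

theorem n2 : Nat.card {p : G × G // IsConj z p.1 ∧ IsConj v p.2 ∧ v ∈ zpowers (p.1 * p.2)} = 195 := by
  obtain ⟨e⟩ := W.eL
  rw [← count195 e]
  have uniq : ∀ {a b c d : G}, a ∈ E → c ∈ E → b ∈ L → d ∈ L → a * b = c * d → a = c ∧ b = d :=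
    fun ha hc hb hd h => mul_inj_of_disjoint W.inf ha hc hb hd h
  have fwd : ∀ p : G × G, (IsConj z p.1 ∧ IsConj v p.2 ∧ v ∈ zpowers (p.1 * p.2)) →
      p.1 ∈ L ∧ v * p.2 ∈ L ∧ (p.1 * p.1 = 1 ∧ p.1 ≠ 1) ∧ ((v * p.2) * (v * p.2) = 1 ∧ v * p.2 ≠ 1) ∧
        Odd (orderOf (p.1 * (v * p.2))) := by
    rintro ⟨a, b⟩ ⟨ha, hb, hv⟩
    simp only at ha hb hv ⊢
    obtain ⟨g, hg⟩ := isConj_iff.mp ha
    obtain ⟨k, hk⟩ := isConj_iff.mp hb
    have haa : a * a = 1 := by rw [← hg]; exact conj_sq S.B.pl.sq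
    have hbb : b * b = 1 := by rw [← hk]; exact conj_sq S.vv
    have ha1 : a ≠ 1 := by rw [← hg]; exact conj_ne_one S.B.pl.ne_one
    obtain ⟨h1, h2⟩ := comm_of_mem_zpowers haa hbb S.vv hv
    have haL := W.mem_L S ha h1
    obtain ⟨f, hf, l, hl, hfl⟩ := (W.mem_M S).mp h2
    have hff := W.Esq S hf
    have hflc := W.comm f hf l hl
    have hll : l * l = 1 := by
      have e1 : b * b = (f * f) * (l * l) := by
        rw [← hfl]
        calc f * l * (f * l) = f * (l * f) * l := by group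
          _ = (f * f) * (l * l) := by rw [← hflc]; group
      rw [hbb, hff, one_mul] at e1
      exact e1.symm
    obtain ⟨n, hn⟩ := hv
    simp only at hn
    have hn' : (a * b) ^ n = f ^ n * (a * l) ^ n := by
      have e1 : a * b = f * (a * l) := by
        rw [← hfl, ← mul_assoc, ← W.comm f hf a haL, mul_assoc]
      rw [e1]
      exact (show Commute f (a * l) from W.comm f hf _ (L.mul_mem haL hl)).mul_zpow n
    rw [hn'] at hn
    have h3 := uniq (E.zpow_mem hf n) W.vE (L.zpow_mem (L.mul_mem haL hl) n) L.one_mem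
      (hn.trans (mul_one v).symm)
    have hnodd : Odd n := by
      by_contra hne
      rw [Int.not_odd_iff_even] at hne
      obtain ⟨m, rfl⟩ := hne
      apply S.v1
      rw [← h3.1, ← two_mul, zpow_mul, zpow_two, hff, one_zpow]
    have hfv : f = v := by
      obtain ⟨m, rfl⟩ := hnodd
      have := h3.1
      rw [zpow_add, zpow_mul, zpow_two, hff, one_zpow, one_mul, zpow_one] at this
      exact this
    subst hfv
    have hvb : f * b = l := by rw [← hfl, ← mul_assoc, hff, one_mul]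
    rw [hvb]
    have hordodd : Odd (orderOf (a * l)) := by
      have h4 : (orderOf (a * l) : ℤ) ∣ n := orderOf_dvd_iff_zpow_eq_one.mpr h3.2
      by_contra hne
      rw [Nat.not_odd_iff_even] at hne
      have h5 : (2 : ℤ) ∣ n := (by exact_mod_cast hne.two_dvd : (2 : ℤ) ∣ (orderOf (a * l) : ℤ)).trans h4
      exact (Int.not_even_iff_odd.mpr hnodd) (even_iff_two_dvd.mpr h5)
    refine ⟨haL, hl, ⟨haa, ha1⟩, ⟨hll, ?_⟩, hordodd⟩
    rintro rfl
    rw [mul_one, orderOf_eq_prime (by rw [pow_two]; exact haa) ha1] at hordodd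
    exact absurd hordodd (by decide)
  have bwd : ∀ a ∈ L, ∀ l ∈ L, (a * a = 1 ∧ a ≠ 1) → (l * l = 1 ∧ l ≠ 1) → Odd (orderOf (a * l)) →
      IsConj z a ∧ IsConj v (v * l) ∧ v ∈ zpowers (a * (v * l)) := by
    rintro a ha l hl ⟨haa, ha1⟩ ⟨hll, hl1⟩ hodd
    refine ⟨?_, ?_, ?_⟩
    · obtain ⟨c, _, hc⟩ := W.conjL S ha ha1 haa
      exact isConj_iff.mpr ⟨c, hc⟩
    · obtain ⟨c, hc, hcl⟩ := W.conjL S hl hl1 hll
      have h1 : IsConj v (v * z) := by
        apply S.conj_of_out (Base.mul_comm_z S.B S.vz rfl)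
        · intro h
          apply S.vQ
          have := Q.mul_mem h (Q.inv_mem S.B.pl.mem)
          rwa [mul_inv_cancel_right] at this
        · calc v * z * (v * z) = v * (z * v) * z := by group
            _ = (v * v) * (z * z) := by rw [← S.vz]; group
            _ = 1 := by rw [S.vv, S.B.pl.sq, one_mul]
      refine h1.trans (isConj_iff.mpr ⟨c, ?_⟩)
      rw [← hcl]
      calc c * (v * z) * c⁻¹ = (c * v) * z * c⁻¹ := by group
        _ = v * (c * z * c⁻¹) := by rw [W.Lv S hc]; group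
    · have e1 : a * (v * l) = v * (a * l) := by
        rw [← mul_assoc, W.Lv S ha, mul_assoc]
      have hc : Commute v (a * l) := (W.Lv S (L.mul_mem ha hl)).symm
      obtain ⟨m, hm⟩ := hodd
      refine ⟨(orderOf (a * l) : ℕ), ?_⟩
      simp only [zpow_natCast]
      rw [e1, hc.mul_pow, pow_orderOf_eq_one, mul_one, hm, pow_add, pow_mul, pow_two, S.vv, one_pow,
        one_mul, pow_one]
  apply Nat.card_congr
  refine ⟨fun p => ⟨(⟨p.1.1, (fwd p.1 p.2).1⟩, ⟨v * p.1.2, (fwd p.1 p.2).2.1⟩), ?_, ?_, ?_⟩,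
    fun p => ⟨(p.1.1, v * p.1.2), ?_⟩, fun p => ?_, fun p => ?_⟩
  · obtain ⟨_, _, h1, _, _⟩ := fwd p.1 p.2
    exact ⟨Subtype.ext h1.1, fun h => h1.2 (congrArg Subtype.val h)⟩
  · obtain ⟨_, _, _, h1, _⟩ := fwd p.1 p.2
    exact ⟨Subtype.ext h1.1, fun h => h1.2 (congrArg Subtype.val h)⟩
  · obtain ⟨_, _, _, _, h1⟩ := fwd p.1 p.2
    rw [← Subgroup.orderOf_coe]
    exact h1
  · obtain ⟨h1, h2, h3⟩ := p.2
    apply bwd _ p.1.1.2 _ p.1.2.2
    · exact ⟨congrArg Subtype.val h1.1, fun h => h1.2 (Subtype.ext h)⟩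
    · exact ⟨congrArg Subtype.val h2.1, fun h => h2.2 (Subtype.ext h)⟩
    · rw [← Subgroup.orderOf_coe] at h3
      exact h3
  · apply Subtype.ext
    refine Prod.ext rfl ?_
    change v * (v * p.1.2) = p.1.2
    rw [← mul_assoc, S.vv, one_mul]
  · apply Subtype.ext
    refine Prod.ext rfl ?_
    apply Subtype.ext
    change v * (v * (p.1.2 : G)) = p.1.2
    rw [← mul_assoc, S.vv, one_mul]

/-- **The order of a group of `J₂` type.** -/
theorem cardG : Nat.card G = 604800 := by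
  have h := S.order_formula
  rw [W.n2 S, W.cardM S] at h
  exact h

end J2M

end Cfsg.Agent.LE
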