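import Cfsg.Agent.LE.J2Act

/-!
The homomorphism `C_G(z) → A₅` (owner: helper58).
-/
set_option autoImplicit false

namespace Cfsg.Agent.LE

open Subgroup Cfsg.Agent.H90

variable {G : Type*} [Group G] [Finite G] {Q : Subgroup G} {z : G} {x : Fin 5 → G}

section

variable (h : PL Q z) (hx : Pts Q z x) (hQ : Nat.card Q = 32)

include h hx
set_option linter.unusedSectionVars false

theorem exists_q {s : Fin 5 → ZMod 2} (hs : ∑ i, s i = 0) : ∃ q ∈ Q, Act z x q 1 s := by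
  rcases even_cases s hs with rfl | ⟨i, rfl⟩ | ⟨i, j, hij, rfl⟩
  · exact ⟨1, Q.one_mem, act_one h⟩
  · exact ⟨x i, hx.mem i, act_self h hx i⟩
  · exact ⟨x i * x j, Q.mul_mem (hx.mem i) (hx.mem j), act_pair h hx hij⟩

theorem act_zp_mul {q : G} {σ : Equiv.Perm (Fin 5)} {s : Fin 5 → ZMod 2} (a : ZMod 2)
    (hq : Act z x q σ s) : Act z x (zp z a * q) σ s := by
  have hz : zp z a * z = z * zp z a := h.central _ (zp_mem h.toXS a)
  have := act_mul h hz (act_zp h a (hx.comm_z h)) hq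
  simpa using this

include hQ

theorem q_surj : ∃ F : (Fin 5 → ZMod 2) → G, (∀ s, ∑ i, s i = 0 → F s ∈ Q ∧ Act z x (F s) 1 s) ∧
    ∀ q ∈ Q, ∃ a s, ∑ i, s i = 0 ∧ q = zp z a * F s := by
  classical
  have hF : ∀ s : Fin 5 → ZMod 2, ∃ q : G, ∑ i, s i = 0 → q ∈ Q ∧ Act z x q 1 s := by
    intro s
    by_cases hs : ∑ i, s i = 0
    · obtain ⟨q, hq, hq2⟩ := exists_q h hx hs
      exact ⟨q, fun _ => ⟨hq, hq2⟩⟩
    · exact ⟨1, fun hs' => absurd hs' hs⟩
  choose F hF using hF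
  refine ⟨F, hF, ?_⟩
  let Φ : ZMod 2 × {s : Fin 5 → ZMod 2 // ∑ i, s i = 0} → Q := fun p =>
    ⟨zp z p.1 * F p.2, Q.mul_mem (zp_mem h.toXS _) (hF p.2 p.2.2).1⟩
  have hinj : Function.Injective Φ := by
    rintro ⟨a, s⟩ ⟨b, t⟩ hab
    have hab' : zp z a * F s = zp z b * F t := congrArg Subtype.val hab
    have h1 := act_zp_mul h hx a (hF s s.2).2
    have h2 := act_zp_mul h hx b (hF t t.2).2
    rw [hab'] at h1
    have h3 := (act_unique h hx h1 h2).2
    have h4 : s = t := Subtype.ext h3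
    subst h4
    have h5 := zp_inj h.toXS (mul_right_cancel hab')
    rw [h5]
  have hcard : Nat.card (ZMod 2 × {s : Fin 5 → ZMod 2 // ∑ i, s i = 0}) = Nat.card Q := by
    rw [hQ, Nat.card_prod, Nat.card_zmod, Nat.card_eq_fintype_card]
    have : Fintype.card {s : Fin 5 → ZMod 2 // ∑ i, s i = 0} = 16 := by decide
    rw [this]
  have hbij := (Nat.bijective_iff_injective_and_card Φ).mpr ⟨hinj, hcard⟩
  intro q hq
  obtain ⟨⟨a, s⟩, has⟩ := hbij.2 ⟨q, hq⟩
  exact ⟨a, s, s.2, (congrArg Subtype.val has).symm⟩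

theorem act_q {q : G} (hq : q ∈ Q) : ∃ s, ∑ i, s i = 0 ∧ Act z x q 1 s := by
  obtain ⟨F, hF, hs⟩ := q_surj h hx hQ
  obtain ⟨a, s, hs, rfl⟩ := hs q hq
  exact ⟨s, hs, act_zp_mul h hx a (hF s hs).2⟩

theorem act_trivial {q : G} (hq : q ∈ Q) (hq2 : Act z x q 1 0) : ∃ a, q = zp z a := by
  obtain ⟨F, hF, hs⟩ := q_surj h hx hQ
  obtain ⟨a, s, hs1, rfl⟩ := hs q hq
  obtain ⟨b, t, ht1, hb⟩ := hs 1 Q.one_mem
  have e1 := (act_unique h hx hq2 (act_zp_mul h hx a (hF s hs1).2)).2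
  have e2 := (act_unique h hx (act_one h (x := x)) (hb ▸ act_zp_mul h hx b (hF t ht1).2)).2
  rw [← e1]
  rw [← e2] at hb
  refine ⟨a + b, ?_⟩
  rw [zp_add h.toXS]
  congr 1
  have : F 0 = (zp z b)⁻¹ := eq_inv_of_mul_eq_one_right hb.symm
  rw [this, zp_inv h.toXS]

theorem mem_form {q : G} (hq : q ∈ Q) : ∃ a, q = zp z a ∨ (∃ i, q = zp z a * x i) ∨
    ∃ i j, i ≠ j ∧ q = zp z a * (x i * x j) := by
  obtain ⟨s, hs, hact⟩ := act_q h hx hQ hq
  have key : ∀ q' ∈ Q, Act z x q' 1 s → ∃ a, q = zp z a * q' := by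
    intro q' hq' hact'
    have h1 := act_mul h (h.central _ hq) hact (act_inv h (h.central _ hq') hact')
    have h2 : Act z x (q * q'⁻¹) 1 0 := by
      intro i
      rw [h1 i]
      simp [CharTwo.add_self_eq_zero]
    obtain ⟨a, ha⟩ := act_trivial h hx hQ (Q.mul_mem hq (Q.inv_mem hq')) h2
    exact ⟨a, by rw [← ha]; group⟩
  rcases even_cases s hs with rfl | ⟨i, rfl⟩ | ⟨i, j, hij, rfl⟩
  · obtain ⟨a, ha⟩ := key 1 Q.one_mem (act_one h)
    exact ⟨a, Or.inl (by rw [ha, mul_one])⟩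
  · obtain ⟨a, ha⟩ := key _ (hx.mem i) (act_self h hx i)
    exact ⟨a, Or.inr (Or.inl ⟨i, ha⟩)⟩
  · obtain ⟨a, ha⟩ := key _ (Q.mul_mem (hx.mem i) (hx.mem j)) (act_pair h hx hij)
    exact ⟨a, Or.inr (Or.inr ⟨i, j, hij, ha⟩)⟩

theorem sq_pair {i j : Fin 5} (hij : i ≠ j) (a : ZMod 2) :
    (zp z a * (x i * x j)) * (zp z a * (x i * x j)) = z := by
  have hz : x i * x j * z = z * (x i * x j) := h.central _ (Q.mul_mem (hx.mem i) (hx.mem j))
  have e : (zp z a * (x i * x j)) * (zp z a * (x i * x j)) =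
      zp z a * ((x i * x j) * zp z a) * (x i * x j) := by group
  rw [e, zp_comm hz, ← mul_assoc (zp z a), zp_self h.toXS, one_mul]
  calc x i * x j * (x i * x j) = (x i * x j) * x i * x j := by group
    _ = z * (x j * x i) * x i * x j := by rw [hx.anti i j hij]
    _ = z * x j * (x i * x i) * x j := by group
    _ = z * (x j * x j) := by rw [hx.sq i]; group
    _ = z := by rw [hx.sq j, mul_one]

/-- involutions of `Q` -/
theorem invol_form {q : G} (hq : q ∈ Q) (hq1 : q ≠ 1) (hqz : q ≠ z) (hqq : q * q = 1) :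
    ∃ a i, q = zp z a * x i := by
  obtain ⟨a, h1 | ⟨i, h1⟩ | ⟨i, j, hij, h1⟩⟩ := mem_form h hx hQ hq
  · rcases zp_cases (z := z) a with ⟨_, h2⟩ | ⟨_, h2⟩
    · exact absurd (h1.trans h2) hq1
    · exact absurd (h1.trans h2) hqz
  · exact ⟨a, i, h1⟩
  · exfalso
    rw [h1, sq_pair h hx hQ hij] at hqq
    exact h.ne_one hqq

theorem eq_zp_of_act {c : G} (hc : c * z = z * c) (h1 : Act z x c 1 0) : ∃ a, c = zp z a := by
  have h2 : ∀ i, c * x i = x i * c := by
    intro i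
    have := h1 i
    rw [mul_inv_eq_iff_eq_mul] at this
    simpa [zp_zero] using this
  rcases h.cent c (fun q hq => by
    obtain ⟨a, h3 | ⟨i, h3⟩ | ⟨i, j, hij, h3⟩⟩ := mem_form h hx hQ hq
    · rw [h3, zp_comm hc]
    · rw [h3, ← mul_assoc, zp_comm hc, mul_assoc, h2, mul_assoc]
    · rw [h3, ← mul_assoc, zp_comm hc, mul_assoc, ← mul_assoc c, h2, mul_assoc (x i), h2]
      simp only [mul_assoc]) with h4 | h4
  · exact ⟨0, by rw [h4, zp_zero]⟩
  · exact ⟨1, by rw [h4, zp_one]⟩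

theorem act_ext {c d : G} (hc : c * z = z * c) (hd : d * z = z * d) {σ : Equiv.Perm (Fin 5)}
    {s : Fin 5 → ZMod 2} (h1 : Act z x c σ s) (h2 : Act z x d σ s) : ∃ a, c = zp z a * d := by
  have hd' : d⁻¹ * z = z * d⁻¹ := by
    rw [inv_mul_eq_iff_eq_mul, ← mul_assoc, hd]; group
  have h3 : Act z x (c * d⁻¹) 1 0 := by
    intro i
    have := act_mul h hc h1 (act_inv h hd h2) i
    rw [this]
    simp [CharTwo.add_self_eq_zero]
  have hcd : c * d⁻¹ * z = z * (c * d⁻¹) := by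
    rw [mul_assoc, hd', ← mul_assoc, hc, mul_assoc]
  obtain ⟨a, ha⟩ := eq_zp_of_act h hx hQ hcd h3
  exact ⟨a, by rw [← ha]; group⟩

theorem exists_act {c : G} (hc : c * z = z * c) : ∃ σ s, Act z x c σ s := by
  have h1 : ∀ i, ∃ p : ZMod 2 × Fin 5, c * x i * c⁻¹ = zp z p.1 * x p.2 := by
    intro i
    obtain ⟨a, j, hj⟩ := invol_form h hx hQ (q := c * x i * c⁻¹) (h.norm c hc _ (hx.mem i))
      (by
        intro h2
        rw [mul_inv_eq_one] at h2
        have h3 : x i = 1 := by simpa using h2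
        exact hx.ne_zp h 0 i (by rw [h3, zp_zero]))
      (by
        intro h2
        rw [mul_inv_eq_iff_eq_mul, ← hc] at h2
        exact hx.ne_zp h 1 i (by rw [mul_left_cancel h2, zp_one]))
      (by
        have e : c * x i * c⁻¹ * (c * x i * c⁻¹) = c * (x i * x i) * c⁻¹ := by group
        rw [e, hx.sq]; simp)
    exact ⟨(a, j), hj⟩
  choose p hp using h1
  have hinj : Function.Injective (fun i => (p i).2) := by
    intro i j hij
    by_contra hne
    have e1 : c * (x i * x j) * c⁻¹ = c * x i * c⁻¹ * (c * x j * c⁻¹) := by group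
    have hij' : (p i).2 = (p j).2 := hij
    have e2 : x i * x j = zp z ((p i).1 + (p j).1) := by
      have e3 : c * (x i * x j) * c⁻¹ = zp z ((p i).1 + (p j).1) := by
        rw [e1, hp i, hp j, hij', zp_mul_zp_aux h (hx.comm_z h), hx.sq, mul_one]
      rw [mul_inv_eq_iff_eq_mul, ← zp_comm hc] at e3
      exact mul_left_cancel e3
    exact hx.two_ne_zp h _ hne e2
  refine ⟨Equiv.ofBijective _ ((Finite.injective_iff_bijective).mp hinj), fun i => (p i).1, ?_⟩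
  intro i
  rw [hp i]
  rfl

end

end Cfsg.Agent.LE
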