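import Cfsg.Agent.LE.Fix
import Cfsg.Agent.H90.LargePair
import Cfsg.Agent.H90.QForm

/-!
The five singular points of an extraspecial group `2^{1+4}_-` acted on by an element of order 5 (owner: helper58).
-/
set_option autoImplicit false

namespace Cfsg.Agent.LE

open Subgroup Cfsg.Agent.H90

variable {G : Type*} [Group G] {Q : Subgroup G} {z : G}

/-- Five pairwise anticommuting involutions in `Q`, with central product. -/
structure Pts (Q : Subgroup G) (z : G) (x : Fin 5 → G) : Prop where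
  mem : ∀ i, x i ∈ Q
  sq : ∀ i, x i * x i = 1
  anti : ∀ i j, i ≠ j → x i * x j = z * (x j * x i)
  prod : x 0 * (x 1 * (x 2 * (x 3 * x 4))) = 1 ∨ x 0 * (x 1 * (x 2 * (x 3 * x 4))) = z

section five

variable [Finite G]

theorem card_fix_five (h : PL Q z) (hQ : Nat.card Q = 32) {f : G} (hf : f ^ 5 = 1) (hf1 : f ≠ 1)
    (hfz : f * z = z * f) : Nat.card ↥(Q ⊓ centralizer ({f} : Set G)) = 2 := by
  have : Fact (Nat.Prime 5) := ⟨by norm_num⟩
  have h1 := card_modEq_fix (p := 5) Q f hf (fun a ha => h.norm f hfz a ha)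
  rw [hQ] at h1
  have h2 : Nat.card ↥(Q ⊓ centralizer ({f} : Set G)) ∣ 32 := hQ ▸ card_dvd_of_le inf_le_left
  have h3 : Nat.card ↥(Q ⊓ centralizer ({f} : Set G)) ≤ 32 := Nat.le_of_dvd (by norm_num) h2
  have h4 : Nat.card ↥(Q ⊓ centralizer ({f} : Set G)) ≠ 32 := by
    intro h4
    have h5 : Q ⊓ centralizer ({f} : Set G) = Q := by
      apply Subgroup.eq_of_le_of_card_ge inf_le_left
      rw [h4, hQ]
    have h6 : ∀ q ∈ Q, f * q = q * f := by
      intro q hq
      rw [← h5] at hq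
      exact (mem_inf_cent.mp hq).2.symm
    rcases h.cent f h6 with h7 | h7
    · exact hf1 h7
    · apply h.ne_one
      have h8 : z ^ 5 = z := by
        have h2 : z ^ 2 = 1 := by rw [pow_two]; exact h.sq
        calc z ^ 5 = z ^ 2 * z ^ 2 * z := by group
          _ = z := by rw [h2]; simp
      rw [← h8, ← h7, hf]
  generalize Nat.card ↥(Q ⊓ centralizer ({f} : Set G)) = n at *
  have h5 : n % 5 = 2 := by
    have : 32 % 5 = n % 5 := h1
    omega
  have h6 : n ∈ Nat.divisors 32 := by simp [h2]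
  have h7 : Nat.divisors 32 = {1, 2, 4, 8, 16, 32} := by decide
  rw [h7] at h6
  simp only [Finset.mem_insert, Finset.mem_singleton] at h6
  rcases h6 with h6 | h6 | h6 | h6 | h6 | h6 <;> subst h6 <;> simp_all

theorem fix_five (h : PL Q z) (hQ : Nat.card Q = 32) {f : G} (hf : f ^ 5 = 1) (hf1 : f ≠ 1)
    (hfz : f * z = z * f) {q : G} (hq : q ∈ Q) (hfq : f * q * f⁻¹ = q ∨ f * q * f⁻¹ = z * q) :
    q = 1 ∨ q = z := by
  have hc : f * q = q * f := by
    rcases hfq with h1 | h1
    · rwa [mul_inv_eq_iff_eq_mul] at h1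
    · exfalso
      have h0 : f * q = z * (q * f) := by rw [mul_inv_eq_iff_eq_mul] at h1; rw [h1, mul_assoc]
      have hz2 : ∀ w, z * (z * w) = w := fun w => by rw [← mul_assoc, h.sq, one_mul]
      have hfz' : ∀ w, f * (z * w) = z * (f * w) := fun w => by rw [← mul_assoc, hfz, mul_assoc]
      have hfq' : ∀ w, f * (q * w) = z * (q * (f * w)) := fun w => by
        rw [← mul_assoc, h0]; simp only [mul_assoc]
      have h5 : f ^ 5 * q = z * (q * f ^ 5) := by
        simp only [pow_succ, pow_zero, one_mul, mul_assoc, h0, hfz', hfq', hz2]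
      rw [hf] at h5
      simp only [one_mul, mul_one] at h5
      exact h.ne_one (by simpa using h5.symm)
  have h2 := card_fix_five h hQ hf hf1 hfz
  have hz : zpowers z ≤ Q ⊓ centralizer ({f} : Set G) := by
    rw [zpowers_le, mem_inf_cent]
    exact ⟨h.mem, hfz.symm⟩
  have h3 : zpowers z = Q ⊓ centralizer ({f} : Set G) := by
    apply Subgroup.eq_of_le_of_card_ge hz
    rw [h2, Nat.card_zpowers, h.orderOf_z]
  have h4 : q ∈ zpowers z := by
    rw [h3, mem_inf_cent]
    exact ⟨hq, hc.symm⟩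
  exact (mem_zpowers_two h.sq).mp h4

theorem eq_of_five (h : PL Q z) (hQ : Nat.card Q = 32) {f : G} (hf : f ^ 5 = 1) (hf1 : f ≠ 1)
    (hfz : f * z = z * f) (A : Subgroup G) (hA : A ≤ Q) (hfA : ∀ a ∈ A, f * a * f⁻¹ ∈ A) (hz : z ∈ A)
    {u : G} (hu : u ∈ A) (hu1 : u ≠ 1) (huz : u ≠ z) : A = Q := by
  have : Fact (Nat.Prime 5) := ⟨by norm_num⟩
  have h1 := card_modEq_fix (p := 5) A f hf hfA
  have h0 := card_fix_five h hQ hf hf1 hfz
  have h2 : Nat.card ↥(A ⊓ centralizer ({f} : Set G)) = 2 := by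
    apply Nat.dvd_antisymm
    · rw [← h0]; exact card_dvd_of_le (inf_le_inf_right _ hA)
    · rw [← h.orderOf_z, ← Nat.card_zpowers]
      apply card_dvd_of_le
      rw [zpowers_le, mem_inf_cent]
      exact ⟨hz, hfz.symm⟩
  rw [h2] at h1
  have h3 : Nat.card A ∣ 32 := hQ ▸ card_dvd_of_le hA
  have h4 : Nat.card A ≠ 2 := by
    intro h4
    have h5 : zpowers z = A := by
      apply Subgroup.eq_of_le_of_card_ge
      · rwa [zpowers_le]
      · rw [h4, Nat.card_zpowers, h.orderOf_z]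
    rw [← h5, mem_zpowers_two h.sq] at hu
    rcases hu with hu | hu
    · exact hu1 hu
    · exact huz hu
  apply Subgroup.eq_of_le_of_card_ge hA
  rw [hQ]
  generalize Nat.card A = n at *
  have h5 : n % 5 = 2 := h1
  have h6 : n ∈ Nat.divisors 32 := by simp [h3]
  have h7 : Nat.divisors 32 = {1, 2, 4, 8, 16, 32} := by decide
  rw [h7] at h6
  simp only [Finset.mem_insert, Finset.mem_singleton] at h6
  rcases h6 with h6 | h6 | h6 | h6 | h6 | h6 <;> subst h6 <;> simp_all

theorem exists_pts (h : PL Q z) (hQ : Nat.card Q = 32) {f : G} (hf : f ^ 5 = 1) (hf1 : f ≠ 1)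
    (hfz : f * z = z * f) {u : G} (hu : u ∈ Q) (hu1 : u ≠ 1) (huz : u ≠ z) (huu : u * u = 1) :
    ∃ x : Fin 5 → G, Pts Q z x ∧ x 0 = u := by
  have hz2 : ∀ w, z * (z * w) = w := fun w => by rw [← mul_assoc, h.sq, one_mul]
  have hfi : ∀ w, w ∈ Q → f * w * f⁻¹ ∈ Q := fun w hw => h.norm f hfz w hw
  obtain ⟨y, hy⟩ : ∃ y : ℕ → G, ∀ k, y k = f ^ k * u * (f ^ k)⁻¹ := ⟨_, fun _ => rfl⟩
  have y0 : y 0 = u := by rw [hy]; simp
  have ysucc : ∀ k, f * y k * f⁻¹ = y (k + 1) := by
    intro k; rw [hy, hy, pow_succ']; group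
  have y5 : ∀ k, y (k + 5) = y k := by
    intro k; rw [hy, hy, pow_add, hf, mul_one]
  have ymem : ∀ k, y k ∈ Q := by
    intro k
    induction k with
    | zero => rw [y0]; exact hu
    | succ k ih => rw [← ysucc]; exact hfi _ ih
  have ysq : ∀ k, y k * y k = 1 := by
    intro k
    rw [hy]
    have : f ^ k * u * (f ^ k)⁻¹ * (f ^ k * u * (f ^ k)⁻¹) = f ^ k * (u * u) * (f ^ k)⁻¹ := by group
    rw [this, huu]; simp
  have shc : ∀ j k, y j * y k = y k * y j → y (j + 1) * y (k + 1) = y (k + 1) * y (j + 1) := by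
    intro j k hjk
    rw [← ysucc, ← ysucc]
    calc f * y j * f⁻¹ * (f * y k * f⁻¹) = f * (y j * y k) * f⁻¹ := by group
      _ = f * (y k * y j) * f⁻¹ := by rw [hjk]
      _ = f * y k * f⁻¹ * (f * y j * f⁻¹) := by group
  have sha : ∀ j k, y j * y k = z * (y k * y j) → y (j + 1) * y (k + 1) = z * (y (k + 1) * y (j + 1)) := by
    intro j k hjk
    rw [← ysucc, ← ysucc]
    calc f * y j * f⁻¹ * (f * y k * f⁻¹) = f * (y j * y k) * f⁻¹ := by group
      _ = (f * z) * (y k * y j) * f⁻¹ := by rw [hjk]; group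
      _ = z * (f * y k * f⁻¹ * (f * y j * f⁻¹)) := by rw [hfz]; group
  have sym : ∀ a b : G, a * b = z * (b * a) → b * a = z * (a * b) := by
    intro a b hab; rw [hab, hz2]
  have hzq : ∀ k, y k * z = z * y k := fun k => h.central _ (ymem k)
  have hzq' : ∀ k w, y k * (z * w) = z * (y k * w) := fun k w => by
    rw [← mul_assoc, hzq, mul_assoc]
  have hyy : ∀ k w, y k * (y k * w) = w := fun k w => by rw [← mul_assoc, ysq, one_mul]
  -- the product
  have hP : y 0 * (y 1 * (y 2 * (y 3 * y 4))) = 1 ∨ y 0 * (y 1 * (y 2 * (y 3 * y 4))) = z := by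
    apply fix_five h hQ hf hf1 hfz
    · exact Q.mul_mem (ymem _) (Q.mul_mem (ymem _) (Q.mul_mem (ymem _) (Q.mul_mem (ymem _) (ymem _))))
    · have e1 : f * (y 0 * (y 1 * (y 2 * (y 3 * y 4)))) * f⁻¹ = y 1 * (y 2 * (y 3 * (y 4 * y 0))) := by
        have h4 := ysucc 4
        rw [show y (4 + 1) = y 0 from y5 0] at h4
        calc f * (y 0 * (y 1 * (y 2 * (y 3 * y 4)))) * f⁻¹ = (f * y 0 * f⁻¹) * ((f * y 1 * f⁻¹) *
              ((f * y 2 * f⁻¹) * ((f * y 3 * f⁻¹) * (f * y 4 * f⁻¹)))) := by group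
          _ = _ := by rw [h4, ysucc, ysucc, ysucc, ysucc]
      have hmem : y 1 * (y 2 * (y 3 * y 4)) ∈ Q :=
        (Q.mul_mem (ymem _) (Q.mul_mem (ymem _) (Q.mul_mem (ymem _) (ymem _))))
      rw [e1]
      have e2 : y 1 * (y 2 * (y 3 * (y 4 * y 0))) = (y 1 * (y 2 * (y 3 * y 4))) * y 0 := by
        simp only [mul_assoc]
      rw [e2]
      exact h.comm _ hmem _ (ymem 0)
  have hsq4 : y 0 * (y 1 * (y 2 * (y 3 * (y 0 * (y 1 * (y 2 * y 3)))))) = 1 := by
    have e3 : ∃ c, (c = 1 ∨ c = z) ∧ y 0 * (y 1 * (y 2 * y 3)) = c * y 4 := by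
      rcases hP with hP | hP
      · refine ⟨1, Or.inl rfl, ?_⟩
        calc y 0 * (y 1 * (y 2 * y 3)) = y 0 * (y 1 * (y 2 * (y 3 * y 4))) * y 4 := by
              simp only [mul_assoc]; rw [ysq]; simp
          _ = _ := by rw [hP]
      · refine ⟨z, Or.inr rfl, ?_⟩
        calc y 0 * (y 1 * (y 2 * y 3)) = y 0 * (y 1 * (y 2 * (y 3 * y 4))) * y 4 := by
              simp only [mul_assoc]; rw [ysq]; simp
          _ = _ := by rw [hP]
    obtain ⟨c, hc, e3⟩ := e3
    have e4 : y 0 * (y 1 * (y 2 * (y 3 * (y 0 * (y 1 * (y 2 * y 3)))))) =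
        (y 0 * (y 1 * (y 2 * y 3))) * (y 0 * (y 1 * (y 2 * y 3))) := by simp only [mul_assoc]
    rw [e4, e3]
    rcases hc with rfl | rfl
    · simp only [one_mul]; exact ysq 4
    · rw [mul_assoc, hzq', ysq, mul_one]; exact h.sq
  rcases h.comm _ (ymem 0) _ (ymem 1) with c1 | c1 <;> rcases h.comm _ (ymem 0) _ (ymem 2) with c2 | c2
  · -- all commute
    exfalso
    have hA := eq_of_five h hQ hf hf1 hfz (Q ⊓ centralizer (Set.range y)) inf_le_left (by
      intro a ha
      rw [mem_inf_centr] at ha ⊢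
      obtain ⟨ha1, ha2⟩ := ha
      refine ⟨hfi a ha1, ?_⟩
      rintro _ ⟨k, rfl⟩
      have := ha2 (y (k + 4)) ⟨_, rfl⟩
      rw [← y5 k, ← ysucc]
      calc f * y (k + 4) * f⁻¹ * (f * a * f⁻¹) = f * (y (k + 4) * a) * f⁻¹ := by group
        _ = f * (a * y (k + 4)) * f⁻¹ := by rw [this]
        _ = _ := by group) (by
      rw [mem_inf_centr]
      refine ⟨h.mem, ?_⟩
      rintro _ ⟨k, rfl⟩
      exact hzq k) (u := u) (by
      rw [mem_inf_centr]
      refine ⟨hu, ?_⟩
      rintro _ ⟨k, rfl⟩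
      rw [← y0]
      have hk : y k = y (k % 5) := by
        conv_lhs => rw [← Nat.div_add_mod k 5]
        generalize k / 5 = m
        induction m with
        | zero => simp
        | succ m ih => rw [show 5 * (m + 1) + k % 5 = 5 * m + k % 5 + 5 by ring, y5, ih]
      rw [hk]
      have : k % 5 < 5 := Nat.mod_lt _ (by norm_num)
      interval_cases k % 5
      · rfl
      · exact c1.symm
      · exact c2.symm
      · have := shc _ _ (shc _ _ (shc _ _ c2))
        simpa [y5 0] using this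
      · have := shc _ _ (shc _ _ (shc _ _ (shc _ _ c1)))
        simpa [y5 0] using this) hu1 huz
    have h1 : ∀ q ∈ Q, u * q = q * u := by
      intro q hq
      rw [← hA, mem_inf_centr] at hq
      have := hq.2 (y 0) ⟨0, rfl⟩
      rwa [y0] at this
    rcases h.nondeg u hu h1 with h2 | h2
    · exact hu1 h2
    · exact huz h2
  · exfalso
    have c01 : y 1 * y 0 = y 0 * y 1 := c1.symm
    have c12 := (shc _ _ c1).symm
    have c23 := (shc _ _ (shc _ _ c1)).symm
    have c02 := sym _ _ c2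
    have c13 := sym _ _ (sha _ _ c2)
    have c30 := sha _ _ (sha _ _ (sha _ _ c2))
    simp only [Nat.reduceAdd, zero_add] at c12 c23 c13 c30
    rw [show y 5 = y 0 from y5 0] at c30
    have e := hsq4
    have r01 : ∀ w, y 1 * (y 0 * w) = y 0 * (y 1 * w) := fun w => by rw [← mul_assoc, c01, mul_assoc]
    have r12 : ∀ w, y 2 * (y 1 * w) = y 1 * (y 2 * w) := fun w => by rw [← mul_assoc, c12, mul_assoc]
    have r23 : ∀ w, y 3 * (y 2 * w) = y 2 * (y 3 * w) := fun w => by rw [← mul_assoc, c23, mul_assoc]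
    have r02 : ∀ w, y 2 * (y 0 * w) = z * (y 0 * (y 2 * w)) := fun w => by
      rw [← mul_assoc, c02]; simp only [mul_assoc]
    have r13 : ∀ w, y 3 * (y 1 * w) = z * (y 1 * (y 3 * w)) := fun w => by
      rw [← mul_assoc, c13]; simp only [mul_assoc]
    have r03 : ∀ w, y 3 * (y 0 * w) = z * (y 0 * (y 3 * w)) := fun w => by
      rw [← mul_assoc, c30]; simp only [mul_assoc]
    simp only [r03, r02, r01, r13, r12, r23, hzq', hz2, ysq, mul_one] at e
    exact h.ne_one e
  · exfalso
    have c01 := sym _ _ c1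
    have c12 := sym _ _ (sha _ _ c1)
    have c23 := sym _ _ (sha _ _ (sha _ _ c1))
    have c02 := c2.symm
    have c13 := (shc _ _ c2).symm
    have c30 := shc _ _ (shc _ _ (shc _ _ c2))
    simp only [Nat.reduceAdd, zero_add] at c12 c23 c13 c30
    rw [show y 5 = y 0 from y5 0] at c30
    have e := hsq4
    have r01 : ∀ w, y 1 * (y 0 * w) = z * (y 0 * (y 1 * w)) := fun w => by
      rw [← mul_assoc, c01]; simp only [mul_assoc]
    have r12 : ∀ w, y 2 * (y 1 * w) = z * (y 1 * (y 2 * w)) := fun w => by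
      rw [← mul_assoc, c12]; simp only [mul_assoc]
    have r23 : ∀ w, y 3 * (y 2 * w) = z * (y 2 * (y 3 * w)) := fun w => by
      rw [← mul_assoc, c23]; simp only [mul_assoc]
    have r02 : ∀ w, y 2 * (y 0 * w) = (y 0 * (y 2 * w)) := fun w => by
      rw [← mul_assoc, c02]; simp only [mul_assoc]
    have r13 : ∀ w, y 3 * (y 1 * w) = (y 1 * (y 3 * w)) := fun w => by
      rw [← mul_assoc, c13]; simp only [mul_assoc]
    have r03 : ∀ w, y 3 * (y 0 * w) = (y 0 * (y 3 * w)) := fun w => by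
      rw [← mul_assoc, c30]; simp only [mul_assoc]
    simp only [r03, r02, r01, r13, r12, r23, hzq', hz2, ysq, mul_one] at e
    exact h.ne_one e
  · have d1 : ∀ k, y k * y (k + 1) = z * (y (k + 1) * y k) := by
      intro k
      induction k with
      | zero => exact c1
      | succ k ih => exact sha _ _ ih
    have d2 : ∀ k, y k * y (k + 2) = z * (y (k + 2) * y k) := by
      intro k
      induction k with
      | zero => exact c2
      | succ k ih => exact sha _ _ ih
    have e0 : y 5 = y 0 := y5 0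
    have e1 : y 6 = y 1 := y5 1
    have a01 := d1 0
    have a12 := d1 1
    have a23 := d1 2
    have a34 := d1 3
    have a40 := d1 4
    have a02 := d2 0
    have a13 := d2 1
    have a24 := d2 2
    have a30 := d2 3
    have a41 := d2 4
    simp only [Nat.reduceAdd, zero_add, e0, e1] at a01 a12 a23 a34 a40 a02 a13 a24 a30 a41
    refine ⟨fun i => y i.val, ⟨fun i => ymem _, fun i => ysq _, ?_, hP⟩, y0⟩
    intro i j hij
    fin_cases i <;> fin_cases j <;> first
      | exact absurd rfl hij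
      | exact a01 | exact a12 | exact a23 | exact a34 | exact a40 | exact a02 | exact a13 | exact a24
      | exact a30 | exact a41
      | exact sym _ _ a01 | exact sym _ _ a12 | exact sym _ _ a23 | exact sym _ _ a34
      | exact sym _ _ a40 | exact sym _ _ a02 | exact sym _ _ a13 | exact sym _ _ a24
      | exact sym _ _ a30 | exact sym _ _ a41

end five

end Cfsg.Agent.LE
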