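import Cfsg.Agent.PermTab.J2

/-! Tables of the generators of the `J₂` presentation in the permutation group on 100 points (generated data, owner: helper58). -/

set_option autoImplicit false

namespace Cfsg.Agent.LE.J2T

/-- table of letter 1 -/
abbrev t1 : ℕ := 0x50122c164def8f2b689a9b652e387844b2a9622f103b2a6335e7c944a9610c091413b00365cc39a2a3b67f747536a828ac62fa117360d1c6393b018487a7a57a00caec6b6b8b75844c9aaacd0cacd29224d89d860e0828d
/-- table of letter 2 -/
abbrev t2 : ℕ := 0x2e18921bb35955af69d422a2c7c360256be3a89bc99f2883f6a930c470a704066a8dd30a4dcd4bcd178a917d5bc8e60b2c1d42c637a1ce1f4a220ae8c7a5a34e34ca05146dd6b31694cb8c400c28d88ce06100e24c09d9a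
/-- table of letter 3 -/
abbrev t3 : ℕ := 0x92731ce817af9446fc444c415da86264daa4a9161708bf0da8e888429960fdd90f96d1171a8459a0655666c8b276a095b77ae54921c303603aeaca0266add778004ae874e58a83508b86cc0687ab729214d3da15066079e
/-- table of letter 4 -/
abbrev t4 : ℕ := 0xc35e4a4bb7a00a3b210c238d05922c25e390d81bc32ad71bf8ee9c582f109dfb4f959baa89510583d78566ca98e9461ecd5b414d4601e7ceb71842082011e2a27a90298c425c3ea08c5029c6a67650cd91896b4b06b9b1a
/-- table of letter 5 -/
abbrev t5 : ℕ := 0x50722405ef122a2b5af98ae51dd822def059e204a93b397503eca29299260a1b9553d17d185205adaeb902e98cdb30a90e58fe1823268335008b010276c6033611ed42f4cf5a8f84b3866ad2cb16d184a4636426c58c787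
/-- table of letter 6 -/
abbrev t6 : ℕ := 0x40c921b345abf3c517d4af69f182cb5e489f29843182210526ea2e152ba0e054eccdeaac9a10a4d920a1f19889bf25bab1d726637a106dd0e8a0388e565e236993d82e46dd63f129a002b031d16e66ce009681a38a19a3
/-- table of letter 7 -/
abbrev t7 : ℕ := 0x9c95dd2590213096a2a3eaef5d598381ab79f8d948b69e4cc62ad9aa87769de5f62b3cc3554b6a0e28ae8b363dc7ed16df8d11cda949b105086450f2078e9c101d1182804a97224899f403868c048449b3419223062cb00
/-- table of letter 8 -/
abbrev t8 : ℕ := 0x178b0b4b176f59b65ee5fae08c541f4a8a99e6554c966d2352cec0be14e48b725111218c26113808246020b0fb01cb82b2573680828012c908f5e366278a86946a755b51cea770fe0b3a6bc68cc70dd280e716a3075a2a6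
/-- table of letter 9 -/
abbrev t9 : ℕ := 0xb4964306ef962eb78e9399ea1e34a765dc4ae9e04696f5fe167322d074a9b4d937a555a30ec38bf055d48ea58e05b717dd6b099569c9b10e465c4a00278e86166840a4458a821e14890269018c36610990e709041a50f80
/-- table of letter 10 -/
abbrev t10 : ℕ := 0xc78b061bd7e6cc972a8d09f3a4c88f1acd8af5aedcb76aad4a74a0c07efa2c48709eaf5cb563364c582b70ddb3578edd3968a55284e99289462c9012230a9c3668c852e4ce882c84f8f202869e44392140e18c040609000
/-- table of letter 11 -/
abbrev t11 : ℕ := 0x298ae51557a861b6655d8ae5c93b3f2305d9e6e6b4960855240c07c40b08b3912c8424a83a0016e4174c22f89c630d50acb37d48b44012bc469d6c7a630e9c9c1ed2fad04ae363559b68ae819e5125fbd341a1841b29c26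
/-- table of letter 12 -/
abbrev t12 : ℕ := 0x7b895b454a6859b72ae4daf39d3070ba65d9f5ac5197696b566ed8ac78ddb395ecb1c38d5605385064608efa2d47f4a4c4c37ef275099285462c5110278e9c2e681093640a881e39016264868c4484c140e192040664f80
/-- table of letter 13 -/
abbrev t13 : ℕ := 0x150ca27a40c4d9c7296c82f39d050c00e5d8a3930f24b2e35bd4c5da02fcd995ecade28c5a03b0f066e08e467846ea918c3b7d9b42b6083092c5ebe780b0ccae60f506c95408a3586d5272d0444484d2b84e125452e4fae
/-- table of letter 14 -/
abbrev t14 : ℕ := 0xb6f0eb4551e8497b12e2636488048d7c9986359a9c1d691d866ee78cc41db39848109f71541065e5e42852f91247e02cca10b8195c134b055a2c50d02655d1822601aaee93e11f2d92599388ac8b8ee946f4ea30bc7a1d2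
/-- table of a letter -/
def tb : ℕ → ℕ
  | 1 => t1
  | 2 => t2
  | 3 => t3
  | 4 => t4
  | 5 => t5
  | 6 => t6
  | 7 => t7
  | 8 => t8
  | 9 => t9
  | 10 => t10
  | 11 => t11
  | 12 => t12
  | 13 => t13
  | 14 => t14
  | _ => Cfsg.Agent.J2Tab.idt
/-- word for `g0` -/
def w0 : List ℕ := [3, 8, 14, 7, 8, 13, 11, 1, 8, 3, 1]
/-- word for `g1` -/
def w1 : List ℕ := [11, 2, 7, 13, 8, 14, 7, 13, 11, 3, 1]

end Cfsg.Agent.LE.J2T
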