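import Cfsg.Agent.PermTab.Tools
import Cfsg.Agent.CosetEnum.Univ

/-!
Families of permutations given by tables which satisfy the relations of a presentation (owner: helper58).
-/
set_option autoImplicit false

namespace Cfsg.Agent.LE

open Cfsg.Agent.PermTab Cfsg.Agent.CosetEnum

variable {w n idt : ℕ}

/-- product of the tables of a word -/
def tword (w n idt : ℕ) (tb : ℕ → ℕ) (u : List ℕ) : ℕ :=
  List.rec (motive := fun _ => ℕ) idt (fun x _ ih => fc ih fun t => tmul w n (tb x) t) u

theorem tword_nil (tb : ℕ → ℕ) : tword w n idt tb [] = idt := rfl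

theorem tword_cons (tb : ℕ → ℕ) (x : ℕ) (u : List ℕ) :
    tword w n idt tb (x :: u) = tmul w n (tb x) (tword w n idt tb u) := by
  have : tword w n idt tb (x :: u) = fc (tword w n idt tb u) fun t => tmul w n (tb x) t := rfl
  rw [this, fc_eq]

/-- `k` times the same word -/
def trep (w n idt : ℕ) (tb : ℕ → ℕ) (u : List ℕ) (k : ℕ) : ℕ :=
  Nat.rec (motive := fun _ => ℕ) idt (fun _ ih => fc ih fun t => tmul w n (tword w n idt tb u) t) k

theorem trep_succ (tb : ℕ → ℕ) (u : List ℕ) (k : ℕ) :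
    trep w n idt tb u (k + 1) = tmul w n (tword w n idt tb u) (trep w n idt tb u k) := by
  have : trep w n idt tb u (k + 1) = fc (trep w n idt tb u k) fun t => tmul w n (tword w n idt tb u) t := rfl
  rw [this, fc_eq]

variable {H : Subgroup (Equiv.Perm (Fin n))} {tb : ℕ → ℕ}

/-- family of elements of `H` -/
noncomputable def tfam (h : ∀ x, InGrp w n H (tb x)) (x : ℕ) : H := ⟨toPerm w n (tb x), (h x).2⟩

theorem tword_spec (hn : n ≤ 2 ^ w) (hid : idt = tid w n) (h : ∀ x, InGrp w n H (tb x)) (u : List ℕ) :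
    tvalid w n (tword w n idt tb u) = true ∧
      toPerm w n (tword w n idt tb u) = (((u.map (tfam h)).prod : H) : Equiv.Perm (Fin n)) := by
  induction u with
  | nil => rw [tword_nil, hid]; exact ⟨(toPerm_tid hn).1, (toPerm_tid hn).2⟩
  | cons x u ih =>
    rw [tword_cons]
    refine ⟨tvalid_tmul (h x).1 ih.1, ?_⟩
    rw [toPerm_tmul (h x).1 ih.1, ih.2, List.map_cons, List.prod_cons]
    rfl

theorem trep_spec (hn : n ≤ 2 ^ w) (hid : idt = tid w n) (h : ∀ x, InGrp w n H (tb x)) (u : List ℕ) (k : ℕ) :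
    tvalid w n (trep w n idt tb u k) = true ∧
      toPerm w n (trep w n idt tb u k) = (((u.map (tfam h)).prod ^ k : H) : Equiv.Perm (Fin n)) := by
  induction k with
  | zero =>
    have : trep w n idt tb u 0 = idt := rfl
    rw [this, hid]; exact ⟨(toPerm_tid hn).1, (toPerm_tid hn).2⟩
  | succ k ih =>
    have hu := tword_spec hn hid h u
    rw [trep_succ]
    refine ⟨tvalid_tmul hu.1 ih.1, ?_⟩
    rw [toPerm_tmul hu.1 ih.1, ih.2, hu.2, pow_succ']
    rfl

/-- check of the relations -/
def chkRels (w n idt : ℕ) (tb : ℕ → ℕ) (RL : List (List ℕ × ℕ)) : Bool :=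
  lall RL fun p => Nat.beq (trep w n idt tb p.1 p.2) idt

theorem good_tfam (hn : n ≤ 2 ^ w) (hid : idt = tid w n) (h : ∀ x, InGrp w n H (tb x)) {ng : ℕ}
    {iv : List (ℕ × ℕ)} {RL : List (List ℕ × ℕ)}
    (hinv : ∀ x ≤ ng, tmul w n (tb (ivL iv x)) (tb x) = idt) (hiv : ∀ x, ng < x → ivL iv x = x)
    (h0 : tb 0 = idt) (hone : ∀ x, ng < x → tb x = idt)
    (hrel : chkRels w n idt tb RL = true) : Good (tfam h) ng iv RL := by
  have hone' : ∀ x, tb x = idt → tfam h x = 1 := by
    intro x hx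
    apply Subtype.ext
    show toPerm w n (tb x) = 1
    rw [hx, hid]; exact (toPerm_tid hn).2
  refine ⟨?_, ?_, ?_⟩
  · intro x
    by_cases hx : x ≤ ng
    · have h1 := hinv x hx
      rw [eq_inv_iff_mul_eq_one]
      apply Subtype.ext
      show toPerm w n (tb (ivL iv x)) * toPerm w n (tb x) = 1
      rw [← toPerm_tmul (h _).1 (h _).1, h1, hid]; exact (toPerm_tid hn).2
    · rw [hiv x (by omega), hone' x (hone x (by omega)), inv_one]
  · intro x hx
    rcases Nat.eq_zero_or_pos x with rfl | h1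
    · exact hone' 0 h0
    · apply hone' x (hone x _)
      by_contra hc
      rw [isLet_iff.2 ⟨h1, by omega⟩] at hx
      exact Bool.noConfusion hx
  · intro p hp
    have h1 := (lall_iff _ _).1 hrel p hp
    have h2 := Nat.eq_of_beq_eq_true h1
    have h3 := trep_spec hn hid h p.1 p.2
    rw [h2, hid, (toPerm_tid hn).2] at h3
    exact Subtype.ext h3.2.symm

end Cfsg.Agent.LE
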